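import Mathlib

/-!
# S3385 (Sims: primitive group with a suborbit of length 3) — definitions and piece statements
-/

set_option autoImplicit false

namespace Cfsg.Agent.H64.Tt

universe u v

section Defs
variable {G : Type u} [Group G]

/-- `X x a b = ⟨x_a, …, x_b⟩` -/
def X (x : ℤ → G) (a b : ℤ) : Subgroup G := Subgroup.closure (x '' Set.Icc a b)

/-- Tutte data: a bi-infinite sequence of involutions shifted by `g`. -/
structure TData (x : ℤ → G) (g : G) (k : ℕ) : Prop where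
  inv : ∀ i : ℤ, x i * x i = 1
  shift : ∀ i : ℤ, g * x i * g⁻¹ = x (i + 1)
  card : ∀ m : ℕ, 1 ≤ m → m ≤ k → Nat.card (X x 0 ((m : ℤ) - 1)) = 2 ^ m
  gen : X x 0 k ⊔ X x 1 ((k : ℤ) + 1) = ⊤
  core : ∀ R : Subgroup G, R.Normal → R ≤ X x 0 k → R = ⊥

/-- `l` is the least positive distance at which the `x_i` do not commute. -/
def IsLam (x : ℤ → G) (l : ℕ) : Prop :=
  1 ≤ l ∧ (∀ m : ℕ, 1 ≤ m → m < l → x 0 * x m = x m * x 0) ∧ x 0 * x l ≠ x l * x 0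

/-- conjugates of `H` by powers of `g` -/
def Hs (H : Subgroup G) (g : G) (j : ℤ) : Subgroup G := H.map (MulAut.conj (g ^ j)).toMonoidHom

theorem mem_X (x : ℤ → G) {a b i : ℤ} (h1 : a ≤ i) (h2 : i ≤ b) : x i ∈ X x a b :=
  Subgroup.subset_closure ⟨i, ⟨h1, h2⟩, rfl⟩

theorem X_mono (x : ℤ → G) {a b a' b' : ℤ} (h1 : a' ≤ a) (h2 : b ≤ b') : X x a b ≤ X x a' b' :=
  Subgroup.closure_mono (Set.image_mono (Set.Icc_subset_Icc h1 h2))

theorem X_empty (x : ℤ → G) {a b : ℤ} (h : b < a) : X x a b = ⊥ := by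
  unfold X
  rw [Set.Icc_eq_empty (not_le.mpr h), Set.image_empty, Subgroup.closure_empty]

theorem X_le_iff (x : ℤ → G) {a b : ℤ} (K : Subgroup G) :
    X x a b ≤ K ↔ ∀ i, a ≤ i → i ≤ b → x i ∈ K := by
  unfold X
  rw [Subgroup.closure_le]
  constructor
  · intro h i h1 h2
    exact h ⟨i, ⟨h1, h2⟩, rfl⟩
  · rintro h _ ⟨i, ⟨h1, h2⟩, rfl⟩
    exact h i h1 h2

end Defs

/-! ## Part C: the abstract Tutte lemma (pure group theory) -/

/-- CARD: `|X[a,b]| = 2^(b-a+1)` for windows of length `≤ k`. -/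
def CardStmt : Prop := ∀ {G : Type u} [Group G] [Finite G] (x : ℤ → G) (g : G) (k : ℕ), TData x g k →
  ∀ a b : ℤ, a ≤ b → b - a + 1 ≤ k → Nat.card (X x a b) = 2 ^ (b - a + 1).toNat

/-- C1: `[x_a, x_b] ∈ X[a+1,b-1]` for windows of length `≤ k`. -/
def C1Stmt : Prop := ∀ {G : Type u} [Group G] [Finite G] (x : ℤ → G) (g : G) (k : ℕ), TData x g k →
  ∀ a b : ℤ, a < b → b - a + 1 ≤ k → x a * x b * (x a)⁻¹ * (x b)⁻¹ ∈ X x (a + 1) (b - 1)

/-- SPLIT: `X[a,b] = X[a,b-1] ∪ X[a,b-1] x_b = X[a+1,b] ∪ x_a X[a+1,b]`. -/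
def SplitStmt : Prop := ∀ {G : Type u} [Group G] [Finite G] (x : ℤ → G) (g : G) (k : ℕ), TData x g k →
  ∀ a b : ℤ, a ≤ b → b - a + 1 ≤ k → ∀ c ∈ X x a b,
    (c ∈ X x a (b - 1) ∨ c * x b ∈ X x a (b - 1)) ∧ (c ∈ X x (a + 1) b ∨ x a * c ∈ X x (a + 1) b)

/-- COMM: commuting at distance `< l`, not commuting at distance `l`. -/
def CommStmt : Prop := ∀ {G : Type u} [Group G] (x : ℤ → G) (g : G) (k l : ℕ), TData x g k → IsLam x l →
  (∀ i j : ℤ, |i - j| < l → x i * x j = x j * x i) ∧ (∀ i : ℤ, x i * x (i + l) ≠ x (i + l) * x i)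

/-- C2: `λ` exists. -/
def C2Stmt : Prop := ∀ {G : Type u} [Group G] [Finite G] (x : ℤ → G) (g : G) (k : ℕ), TData x g k → 1 ≤ k →
  ∃ l : ℕ, l ≤ k ∧ IsLam x l

/-- C3: `2λ ≤ k+2`. -/
def C3Stmt : Prop := ∀ {G : Type u} [Group G] [Finite G] (x : ℤ → G) (g : G) (k l : ℕ), TData x g k →
  IsLam x l → l ≤ k → 2 * l ≤ k + 2

/-- C4: `[x_0, x_λ] ∈ X[k-λ, 2λ-k]` if `λ ≤ k-1`. -/
def C4Stmt : Prop := ∀ {G : Type u} [Group G] [Finite G] (x : ℤ → G) (g : G) (k l : ℕ), TData x g k →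
  IsLam x l → l + 1 ≤ k → x 0 * x l * (x 0)⁻¹ * (x l)⁻¹ ∈ X x ((k : ℤ) - l) (2 * (l : ℤ) - k)

/-- C6: the case `k = 6`, `λ = 4` is impossible. -/
def C6Stmt : Prop := ∀ {G : Type u} [Group G] [Finite G] (x : ℤ → G) (g : G), TData x g 6 →
  IsLam x 4 → False

/-- TUTTE: `k ≤ 4`. -/
def TutteStmt : Prop := ∀ {G : Type u} [Group G] [Finite G] (x : ℤ → G) (g : G) (k : ℕ), TData x g k → k ≤ 4

/-- XDATA: from a chain of conjugates with the right intersection orders, the involutions. -/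
def XDataStmt : Prop := ∀ {G : Type u} [Group G] [Finite G] (H : Subgroup G) (g : G) (k : ℕ), 1 ≤ k →
  Nat.card H = 2 ^ k * 3 →
  (∀ n : ℕ, 1 ≤ n → n ≤ k + 1 →
    Nat.card (↥(⨅ j ∈ Finset.range (n + 1), Hs H g (j : ℤ))) = 2 ^ (k + 1 - n)) →
  ∃ x : ℤ → G, (∀ i : ℤ, x i * x i = 1) ∧ (∀ i : ℤ, g * x i * g⁻¹ = x (i + 1)) ∧
    (∀ m : ℕ, 1 ≤ m → m ≤ k → Nat.card (X x 0 ((m : ℤ) - 1)) = 2 ^ m) ∧
    X x 0 k = Hs H g k ∧ X x 1 ((k : ℤ) + 1) = Hs H g ((k : ℤ) + 1)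

/-! ## Part B: the permutation group part -/

open MulAction

/-- TWO: the two-point stabiliser is a 2-group of index 3. -/
def TwoStmt : Prop := ∀ {G : Type u} [Group G] [Finite G] {Ω : Type v} [MulAction G Ω] [FaithfulSMul G Ω],
  IsPreprimitive G Ω → ∀ a b : Ω, Nat.card (orbit (stabilizer G a) b) = 3 →
  ∃ k : ℕ, Nat.card (stabilizer G a ⊓ stabilizer G b : Subgroup G) = 2 ^ k ∧
    Nat.card (stabilizer G a) = 2 ^ k * 3

/-- FIX: if `G_ab ≠ 1`, exactly two of the three out-neighbours of `b` are moved by `G_ab`. -/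
def FixStmt : Prop := ∀ {G : Type u} [Group G] [Finite G] {Ω : Type v} [MulAction G Ω] [FaithfulSMul G Ω],
  IsPreprimitive G Ω → ∀ a b : Ω, Nat.card (orbit (stabilizer G a) b) = 3 →
  (stabilizer G a ⊓ stabilizer G b : Subgroup G) ≠ ⊥ →
  Set.ncard {z : Ω | (∃ h : G, h • a = b ∧ h • b = z) ∧
    ¬ (stabilizer G a ⊓ stabilizer G b ≤ stabilizer G z)} = 2

/-- LOC: the fixed out-neighbour `z` of `b` is a moved successor of another in-arc `(s a, b)`,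
which shares a moved successor `z'` with `(a, b)`. -/
def LocStmt : Prop := ∀ {G : Type u} [Group G] [Finite G] {Ω : Type v} [MulAction G Ω] [FaithfulSMul G Ω],
  IsPreprimitive G Ω → ∀ a b : Ω, Nat.card (orbit (stabilizer G a) b) = 3 →
  (stabilizer G a ⊓ stabilizer G b : Subgroup G) ≠ ⊥ →
  ∀ z : Ω, (∃ h : G, h • a = b ∧ h • b = z) → stabilizer G a ⊓ stabilizer G b ≤ stabilizer G z →
  ∃ s ∈ stabilizer G b, ∃ z' : Ω, (∃ h : G, h • a = b ∧ h • b = z') ∧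
    ¬ (stabilizer G a ⊓ stabilizer G b ≤ stabilizer G z') ∧
    ¬ (stabilizer G (s • a) ⊓ stabilizer G b ≤ stabilizer G z') ∧
    ¬ (stabilizer G (s • a) ⊓ stabilizer G b ≤ stabilizer G z)

/-- CONN: the orbital digraph of a primitive group is (strongly) connected. -/
def ConnStmt : Prop := ∀ {G : Type u} [Group G] [Finite G] {Ω : Type v} [MulAction G Ω],
  IsPreprimitive G Ω → ∀ a b : Ω, a ≠ b → ∀ V : Set Ω, V.Nonempty →
  (∀ h : G, h • a ∈ V → h • b ∈ V) → V = Set.univ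

/-- REG: abstract regularity on paths. -/
def RegStmt : Prop := ∀ {G : Type u} [Group G] [Finite G] {E : Type v} [MulAction G E]
  (R : E → E → Prop) (k : ℕ),
  IsPretransitive G E →
  (∀ h : G, (∀ e : E, h • e = e) → h = 1) →
  (∀ (h : G) (e e' : E), R e e' → R (h • e) (h • e')) →
  (∀ e : E, Set.ncard {e' : E | R e e'} = 2) →
  (∀ C : Set E, C.Nonempty → (∀ e e' : E, R e e' → (e ∈ C ↔ e' ∈ C)) → C = Set.univ) →
  (∀ e : E, Nat.card (stabilizer G e) = 2 ^ k) →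
  ∀ (e₀ : E) (g : G), R e₀ (g • e₀) → ∀ m : ℕ, 1 ≤ m → m ≤ k + 1 →
    Nat.card (↥(⨅ j ∈ Finset.range m, stabilizer G (g ^ j • e₀))) = 2 ^ (k + 1 - m)

section ArcDefs
variable (G : Type u) [Group G] {Ω : Type v} [MulAction G Ω]

/-- the arcs: the orbit of `(a, b)` -/
abbrev Arcs (a b : Ω) : Set (Ω × Ω) := MulAction.orbit G ((a, b) : Ω × Ω)

/-- successor relation on arcs: `(x,y) → (y,z)` with `z` not fixed by `G_xy`. -/
def Succ (a b : Ω) (e e' : Arcs G a b) : Prop :=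
  e'.1.1 = e.1.2 ∧ ¬ (stabilizer G e.1.1 ⊓ stabilizer G e.1.2 ≤ stabilizer G e'.1.2)

theorem mem_Arcs {a b : Ω} (p : Ω × Ω) : p ∈ Arcs G a b ↔ ∃ h : G, h • a = p.1 ∧ h • b = p.2 := by
  constructor
  · rintro ⟨h, rfl⟩
    exact ⟨h, rfl, rfl⟩
  · rintro ⟨h, h1, h2⟩
    exact ⟨h, Prod.ext h1 h2⟩

theorem stabilizer_Arcs {a b : Ω} (e : Arcs G a b) :
    stabilizer G e = stabilizer G e.1.1 ⊓ stabilizer G e.1.2 := by
  ext h
  simp only [mem_stabilizer_iff, Subgroup.mem_inf]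
  rw [Subtype.ext_iff, MulAction.orbit.coe_smul, Prod.ext_iff]
  rfl

end ArcDefs

/-- ARCTWO: every arc has exactly two successors. -/
def ArcTwoStmt : Prop := ∀ {G : Type u} [Group G] [Finite G] {Ω : Type v} [MulAction G Ω] [FaithfulSMul G Ω],
  IsPreprimitive G Ω → ∀ a b : Ω, Nat.card (orbit (stabilizer G a) b) = 3 →
  (stabilizer G a ⊓ stabilizer G b : Subgroup G) ≠ ⊥ →
  ∀ e : Arcs G a b, Set.ncard {e' : Arcs G a b | Succ G a b e e'} = 2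

/-- ARCCONN: the successor digraph on arcs is weakly connected. -/
def ArcConnStmt : Prop := ∀ {G : Type u} [Group G] [Finite G] {Ω : Type v} [MulAction G Ω] [FaithfulSMul G Ω],
  IsPreprimitive G Ω → ∀ a b : Ω, Nat.card (orbit (stabilizer G a) b) = 3 →
  (stabilizer G a ⊓ stabilizer G b : Subgroup G) ≠ ⊥ →
  ∀ C : Set (Arcs G a b), C.Nonempty →
    (∀ e e' : Arcs G a b, Succ G a b e e' → (e ∈ C ↔ e' ∈ C)) → C = Set.univ

/-- SEQ: the regular sequence. -/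
def SeqStmt : Prop := ∀ {G : Type u} [Group G] [Finite G] {Ω : Type v} [MulAction G Ω] [FaithfulSMul G Ω],
  IsPreprimitive G Ω → ∀ a b : Ω, Nat.card (orbit (stabilizer G a) b) = 3 →
  ∃ k : ℕ, Nat.card (stabilizer G a) = 2 ^ k * 3 ∧
    (1 ≤ k → ∃ g : G, ∀ n : ℕ, 1 ≤ n → n ≤ k + 1 →
      Nat.card (↥(⨅ j ∈ Finset.range (n + 1), stabilizer G (g ^ j • a))) = 2 ^ (k + 1 - n))

/-- GLUE: from the regular sequence to Tutte data. -/
def GlueStmt : Prop := ∀ {G : Type u} [Group G] [Finite G] {Ω : Type v} [MulAction G Ω] [FaithfulSMul G Ω],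
  IsPreprimitive G Ω → ∀ (a : Ω) (g : G) (k : ℕ), 1 ≤ k →
  Nat.card (stabilizer G a) = 2 ^ k * 3 →
  (∀ n : ℕ, 1 ≤ n → n ≤ k + 1 →
      Nat.card (↥(⨅ j ∈ Finset.range (n + 1), stabilizer G (g ^ j • a))) = 2 ^ (k + 1 - n)) →
  ∃ x : ℤ → G, TData x g k

end Cfsg.Agent.H64.Tt
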