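import Cfsg.Agent.H64.DU
import Cfsg.Agent.H7.SL2
import Cfsg.Agent.H7.PSL2
import Cfsg.Agent.H7.GL2
import Cfsg.Agent.S0805

/-!
# Downstream of Dickson, part 2: `PSL_2` facts

* orders of `PSL_2(q)` and `PGL_2(q)`;
* commutators in the normaliser of a Sylow `p`-subgroup of `PSL_2(q)` (char `p`) lie in it;
* `PSL_2(K)` is never `CP p`, and is not `SqComm` for `|K| ≥ 3`.
-/

set_option autoImplicit false

namespace Cfsg.Agent.H64.DU

open scoped MatrixGroups
open Matrix

section Card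

variable (F : Type*) [Field F] [Fintype F]

theorem two_eq_zero_of_even_card (he : Even (Fintype.card F)) : (2 : F) = 0 := by
  have hc : ringChar F = 2 := FiniteField.even_card_iff_char_two.mpr (Nat.even_iff.mp he)
  have : CharP F 2 := ringChar.of_eq hc
  exact CharTwo.two_eq_zero

omit [Fintype F] in
theorem center_SL2_eq_bot_of_two (h2 : (2 : F) = 0) : Subgroup.center SL(2, F) = ⊥ := by
  rw [Subgroup.eq_bot_iff_forall]
  intro A hA
  rw [H7.sl2_mem_center_iff] at hA
  obtain ⟨h01, h10, h00⟩ := hA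
  have hdet := H7.sl2_det A
  rw [h01, zero_mul, sub_zero, ← h00] at hdet
  have h1 : (A.1 0 0 - 1) ^ 2 = 0 := by linear_combination hdet - A.1 0 0 * h2 + h2
  have h1' : A.1 0 0 = 1 := by
    have := pow_eq_zero_iff (two_ne_zero) |>.mp h1
    linear_combination this
  apply Subtype.ext
  ext i j
  fin_cases i <;> fin_cases j <;> simp [h01, h10, ← h00, h1']

theorem card_PSL2_gcd :
    Nat.card PSL(2, F) * Nat.gcd 2 (Fintype.card F - 1) =
      Fintype.card F * (Fintype.card F ^ 2 - 1) := by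
  have hq : 2 ≤ Fintype.card F := Fintype.one_lt_card
  rcases Nat.even_or_odd (Fintype.card F) with he | ho
  · have hc : Nat.card (Subgroup.center SL(2, F)) = 1 := by
      rw [Subgroup.card_eq_one]
      exact center_SL2_eq_bot_of_two F (two_eq_zero_of_even_card F he)
    have h := Subgroup.card_eq_card_quotient_mul_card_subgroup (Subgroup.center SL(2, F))
    rw [hc, H7.card_SL2, mul_one] at h
    have hg : Nat.gcd 2 (Fintype.card F - 1) = 1 := by
      have hodd : Odd (Fintype.card F - 1) := by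
        rcases he with ⟨k, hk⟩
        exact ⟨k - 1, by omega⟩
      exact (Nat.coprime_two_left).mpr hodd
    rw [hg, mul_one]
    exact h.symm
  · have h := H7.card_PSL2_odd ho
    have hg : Nat.gcd 2 (Fintype.card F - 1) = 2 := by
      have hev : 2 ∣ Fintype.card F - 1 := by
        rcases ho with ⟨k, hk⟩
        exact ⟨k, by omega⟩
      exact Nat.gcd_eq_left hev
    rw [hg, mul_comm]
    exact h

theorem card_PGL2 :
    Nat.card (Matrix.ProjGenLinGroup (Fin 2) F) = Fintype.card F * (Fintype.card F ^ 2 - 1) := by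
  have hq : 2 ≤ Fintype.card F := Fintype.one_lt_card
  have h := Cfsg.Agent.S0805.card_PGL2 F
  have e : Fintype.card F ^ 2 - Fintype.card F = Fintype.card F * (Fintype.card F - 1) := by
    rw [Nat.mul_sub, mul_one, sq]
  rw [e] at h
  have hpos : 0 < Fintype.card F - 1 := by omega
  apply Nat.eq_of_mul_eq_mul_right hpos
  rw [h]
  ring

end Card

section NormSylow

variable {F : Type*} [Field F] [Fintype F]

omit [Fintype F] in
theorem sl2_comm_mem_slUnip (a b : SL(2, F)) (ha : a.1 1 0 = 0) (hb : b.1 1 0 = 0) :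
    a * b * a⁻¹ * b⁻¹ ∈ H7.slUnip F := by
  have da := H7.sl2_det a
  have db := H7.sl2_det b
  rw [ha, mul_zero, sub_zero] at da
  rw [hb, mul_zero, sub_zero] at db
  rw [H7.mem_slUnip_iff]
  refine ⟨?_, ?_, ?_⟩
  · simp only [H7.sl2_mul_apply, H7.sl2_inv_00, H7.sl2_inv_01, H7.sl2_inv_10, H7.sl2_inv_11,
      ha, hb]
    linear_combination (b.1 0 0 * b.1 1 1) * da + db
  · simp only [H7.sl2_mul_apply, H7.sl2_inv_00, H7.sl2_inv_01, H7.sl2_inv_10, H7.sl2_inv_11,
      ha, hb]
    ring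
  · simp only [H7.sl2_mul_apply, H7.sl2_inv_00, H7.sl2_inv_01, H7.sl2_inv_10, H7.sl2_inv_11,
      ha, hb]
    linear_combination (b.1 0 0 * b.1 1 1) * da + db

variable (F) in
/-- The image of the upper unitriangular group: a Sylow `p`-subgroup of `PSL_2(q)`. -/
noncomputable def pslUnipSylow (p : ℕ) [Fact p.Prime] [CharP F p] : Sylow p PSL(2, F) :=
  (H7.slUnipSylow F p).mapSurjective (QuotientGroup.mk'_surjective (Subgroup.center SL(2, F)))

theorem mem_pslUnipSylow_iff (p : ℕ) [Fact p.Prime] [CharP F p] (x : PSL(2, F)) :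
    x ∈ (pslUnipSylow F p : Subgroup PSL(2, F)) ↔
      ∃ u ∈ H7.slUnip F, QuotientGroup.mk' (Subgroup.center SL(2, F)) u = x := by
  rw [pslUnipSylow, Sylow.coe_mapSurjective]
  exact Subgroup.mem_map

theorem lower_entry_of_normalizer (p : ℕ) [Fact p.Prime] [CharP F p] (a : SL(2, F))
    (ha : QuotientGroup.mk' (Subgroup.center SL(2, F)) a ∈
      Subgroup.normalizer ((pslUnipSylow F p : Subgroup PSL(2, F)) : Set PSL(2, F))) :
    a.1 1 0 = 0 := by
  have hX : QuotientGroup.mk' (Subgroup.center SL(2, F)) (H7.slUpper (1 : F)) ∈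
      (pslUnipSylow F p : Subgroup PSL(2, F)) :=
    (mem_pslUnipSylow_iff p _).mpr ⟨_, H7.slUpper_mem 1, rfl⟩
  have h1 := (Subgroup.mem_normalizer_iff.mp ha _).mp hX
  rw [← map_inv, ← map_mul, ← map_mul, mem_pslUnipSylow_iff] at h1
  obtain ⟨u, hu, hue⟩ := h1
  have hz : u⁻¹ * (a * H7.slUpper 1 * a⁻¹) ∈ Subgroup.center SL(2, F) := QuotientGroup.eq.mp hue
  rw [H7.sl2_mem_center_iff] at hz
  obtain ⟨-, z10, -⟩ := hz
  rw [H7.mem_slUnip_iff] at hu
  obtain ⟨u00, u10, u11⟩ := hu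
  simp only [H7.sl2_mul_apply, H7.sl2_inv_00, H7.sl2_inv_10, H7.sl2_inv_11,
    u00, u10] at z10
  simp [H7.slUpper] at z10
  have hsq : a.1 1 0 ^ 2 = 0 := by linear_combination -z10
  exact pow_eq_zero_iff (two_ne_zero) |>.mp hsq

theorem comm_mem_sylow_of_mem_normalizer (p : ℕ) [Fact p.Prime] [CharP F p]
    (P : Sylow p PSL(2, F)) (a b : PSL(2, F))
    (ha : a ∈ Subgroup.normalizer ((P : Subgroup PSL(2, F)) : Set PSL(2, F)))
    (hb : b ∈ Subgroup.normalizer ((P : Subgroup PSL(2, F)) : Set PSL(2, F))) :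
    a * b * a⁻¹ * b⁻¹ ∈ (P : Subgroup PSL(2, F)) := by
  obtain ⟨g, hg⟩ := H7.sylow_exists_conj P (pslUnipSylow F p)
  have hg' : ∀ x, x ∈ (P : Subgroup PSL(2, F)) ↔
      g⁻¹ * x * g ∈ (pslUnipSylow F p : Subgroup PSL(2, F)) := hg
  have ha' := (H7.mem_normalizer_conj _ _ g hg' a).mp ha
  have hb' := (H7.mem_normalizer_conj _ _ g hg' b).mp hb
  rw [hg']
  have e : g⁻¹ * (a * b * a⁻¹ * b⁻¹) * g =
      (g⁻¹ * a * g) * (g⁻¹ * b * g) * (g⁻¹ * a * g)⁻¹ * (g⁻¹ * b * g)⁻¹ := by group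
  rw [e]
  obtain ⟨a', ha''⟩ := QuotientGroup.mk'_surjective (Subgroup.center SL(2, F)) (g⁻¹ * a * g)
  obtain ⟨b', hb''⟩ := QuotientGroup.mk'_surjective (Subgroup.center SL(2, F)) (g⁻¹ * b * g)
  rw [← ha''] at ha' ⊢
  rw [← hb''] at hb' ⊢
  have h1 := lower_entry_of_normalizer p a' ha'
  have h2 := lower_entry_of_normalizer p b' hb'
  rw [mem_pslUnipSylow_iff]
  exact ⟨a' * b' * a'⁻¹ * b'⁻¹, sl2_comm_mem_slUnip _ _ h1 h2, by simp⟩

theorem cp_of_le_normalizer (p : ℕ) [Fact p.Prime] [CharP F p]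
    (P : Sylow p PSL(2, F)) (K : Subgroup PSL(2, F))
    (hK : K ≤ Subgroup.normalizer ((P : Subgroup PSL(2, F)) : Set PSL(2, F))) : CP p K := by
  intro x y
  have h := comm_mem_sylow_of_mem_normalizer p P x y (hK x.2) (hK y.2)
  obtain ⟨n, hn⟩ := P.isPGroup' ⟨_, h⟩
  refine ⟨n, Subtype.ext ?_⟩
  have := congrArg Subtype.val hn
  simpa using this

end NormSylow

section Witness

variable {K : Type*} [Field K]

/-- A `2 × 2` matrix of determinant one, a `p`-power of which is scalar, has trace `±2`. -/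
theorem trace_sq_eq_four [Fintype K] (p : ℕ) [Fact p.Prime] [CharP K p]
    (A : Matrix (Fin 2) (Fin 2) K) (hdet : A.det = 1) (n : ℕ) (ε : K)
    (h : A ^ (p ^ n) = ε • (1 : Matrix (Fin 2) (Fin 2) K)) : A.trace ^ 2 = 4 := by
  obtain ⟨ε', hε'⟩ : ∃ ε' : K, ε' ^ p ^ n = ε := by
    have hinj : Function.Injective (iterateFrobenius K p n) := (iterateFrobenius K p n).injective
    obtain ⟨e, he⟩ := Finite.surjective_of_injective hinj ε
    exact ⟨e, by rw [← he, iterateFrobenius_def]⟩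
  have hcomm : Commute A (ε' • (1 : Matrix (Fin 2) (Fin 2) K)) :=
    (Commute.one_right A).smul_right ε'
  have hBp : (A - ε' • (1 : Matrix (Fin 2) (Fin 2) K)) ^ p ^ n = 0 := by
    rw [sub_pow_char_pow_of_commute p n hcomm, h, smul_pow, one_pow, hε', sub_self]
  have hnil : IsNilpotent (A - ε' • (1 : Matrix (Fin 2) (Fin 2) K)) := ⟨_, hBp⟩
  have htr : (A - ε' • (1 : Matrix (Fin 2) (Fin 2) K)).trace = 0 :=
    (Matrix.isNilpotent_trace_of_isNilpotent hnil).eq_zero
  have hdetB : (A - ε' • (1 : Matrix (Fin 2) (Fin 2) K)).det = 0 := by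
    have h0 : (A - ε' • (1 : Matrix (Fin 2) (Fin 2) K)).det ^ p ^ n = 0 := by
      rw [← Matrix.det_pow, hBp, Matrix.det_zero]
    exact pow_eq_zero_iff (pow_ne_zero _ (Fact.out : p.Prime).ne_zero) |>.mp h0
  rw [Matrix.trace_fin_two] at htr ⊢
  rw [Matrix.det_fin_two] at hdet hdetB
  simp only [Matrix.sub_apply, Matrix.smul_apply, Matrix.one_apply_eq, smul_eq_mul, mul_one,
    Matrix.one_apply_ne (show (0 : Fin 2) ≠ 1 by decide),
    Matrix.one_apply_ne (show (1 : Fin 2) ≠ 0 by decide), mul_zero, sub_zero] at htr hdetB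
  linear_combination (A 0 0 + A 1 1 + 2 * ε') * htr + 4 * (hdet - hdetB) - 4 * ε' * htr

/-- The lower unitriangular element with given entry. -/
def slLower (t : K) : SL(2, K) := ⟨!![1, 0; t, 1], by simp [Matrix.det_fin_two_of]⟩

theorem not_cp_PSL2 (K : Type*) [Field K] [Fintype K] (p : ℕ) [Fact p.Prime] [CharP K p] :
    ¬ CP p PSL(2, K) := by
  intro h
  obtain ⟨t, ht0, ht4⟩ : ∃ t : K, t ≠ 0 ∧ t ^ 2 + 4 ≠ 0 := by
    by_cases h2 : (2 : K) = 0
    · refine ⟨1, one_ne_zero, ?_⟩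
      have h4 : (4 : K) = 0 := by linear_combination 2 * h2
      rw [h4]
      simp
    · refine ⟨2, h2, ?_⟩
      intro h8
      have h3 : (2 : K) ^ 3 = 0 := by linear_combination h8
      exact h2 (pow_eq_zero_iff (by norm_num) |>.mp h3)
  obtain ⟨n, hn⟩ := h (QuotientGroup.mk' (Subgroup.center SL(2, K)) (H7.slUpper 1))
    (QuotientGroup.mk' (Subgroup.center SL(2, K)) (slLower t))
  rw [← map_inv, ← map_inv, ← map_mul, ← map_mul, ← map_mul, ← map_pow] at hn
  have hz : (H7.slUpper 1 * slLower t * (H7.slUpper 1)⁻¹ * (slLower t)⁻¹) ^ (p ^ n) ∈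
      Subgroup.center SL(2, K) := (QuotientGroup.eq_one_iff _).mp hn
  rw [Matrix.SpecialLinearGroup.mem_center_iff] at hz
  obtain ⟨r, -, hr⟩ := hz
  have htr := trace_sq_eq_four p (H7.slUpper 1 * slLower t * (H7.slUpper 1)⁻¹ * (slLower t)⁻¹).1
    (H7.slUpper 1 * slLower t * (H7.slUpper 1)⁻¹ * (slLower t)⁻¹).2 n r (by
      rw [← Matrix.SpecialLinearGroup.coe_pow, ← hr]
      ext i j
      simp [Matrix.scalar_apply, Matrix.diagonal_apply, Matrix.one_apply])
  have htrace : (H7.slUpper 1 * slLower t * (H7.slUpper 1)⁻¹ * (slLower t)⁻¹).1.trace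
      = 2 + t ^ 2 := by
    rw [Matrix.trace_fin_two]
    simp only [H7.sl2_mul_apply, H7.sl2_inv_00, H7.sl2_inv_01, H7.sl2_inv_10, H7.sl2_inv_11]
    simp [H7.slUpper, slLower]
    ring
  rw [htrace] at htr
  have h0 : t ^ 2 * (t ^ 2 + 4) = 0 := by linear_combination htr
  rcases mul_eq_zero.mp h0 with h1 | h1
  · exact ht0 (pow_eq_zero_iff two_ne_zero |>.mp h1)
  · exact ht4 h1

theorem exists_scalar_of_mk_eq (x y : SL(2, K))
    (h : QuotientGroup.mk' (Subgroup.center SL(2, K)) x =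
      QuotientGroup.mk' (Subgroup.center SL(2, K)) y) :
    ∃ r : K, ∀ i j, y.1 i j = r * x.1 i j := by
  have hz : x⁻¹ * y ∈ Subgroup.center SL(2, K) := QuotientGroup.eq.mp h
  rw [Matrix.SpecialLinearGroup.mem_center_iff] at hz
  obtain ⟨r, -, hr⟩ := hz
  refine ⟨r, fun i j => ?_⟩
  have hy : y = x * (x⁻¹ * y) := by group
  have hy' : y.1 = x.1 * (x⁻¹ * y).1 := by
    rw [← Matrix.SpecialLinearGroup.coe_mul, ← hy]
  rw [hy', ← hr]
  simp [Matrix.mul_apply, Matrix.scalar_apply, Matrix.diagonal_apply, mul_comm]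

theorem not_sqComm_PSL2_odd (K : Type*) [Field K] (h2 : (2 : K) ≠ 0) : ¬ SqComm PSL(2, K) := by
  intro h
  have h1 := h (QuotientGroup.mk' (Subgroup.center SL(2, K)) (H7.slUpper 1))
    (QuotientGroup.mk' (Subgroup.center SL(2, K)) (slLower 1))
  rw [← map_pow, ← map_pow, ← map_mul, ← map_mul] at h1
  obtain ⟨r, hr⟩ := exists_scalar_of_mk_eq _ _ h1
  have h01 := hr 0 1
  have h00 := hr 0 0
  simp only [sq, H7.sl2_mul_apply] at h01 h00
  simp [H7.slUpper, slLower] at h01 h00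
  have hr1 : (2 : K) * (r - 1) = 0 := by linear_combination -h01
  have hr1' : r = 1 := by
    rcases mul_eq_zero.mp hr1 with h | h
    · exact absurd h h2
    · linear_combination h
  rw [hr1'] at h00
  have h4 : (2 : K) ^ 2 = 0 := by linear_combination -h00
  exact h2 (pow_eq_zero_iff two_ne_zero |>.mp h4)

/-- The upper triangular element `[[t, b], [0, s]]` with `t s = 1`. -/
def slTri (t s b : K) (hts : t * s = 1) : SL(2, K) :=
  ⟨!![t, b; 0, s], by simp [Matrix.det_fin_two_of, hts]⟩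

theorem not_sqComm_PSL2_even (K : Type*) [Field K] (h2 : (2 : K) = 0) (t : K) (ht0 : t ≠ 0)
    (ht1 : t ≠ 1) : ¬ SqComm PSL(2, K) := by
  intro h
  have hts : t * t⁻¹ = 1 := mul_inv_cancel₀ ht0
  have h1 := h (QuotientGroup.mk' (Subgroup.center SL(2, K)) (slTri t t⁻¹ 0 hts))
    (QuotientGroup.mk' (Subgroup.center SL(2, K)) (slTri t t⁻¹ 1 hts))
  rw [← map_pow, ← map_pow, ← map_mul, ← map_mul] at h1
  obtain ⟨r, hr⟩ := exists_scalar_of_mk_eq _ _ h1
  have h01 := hr 0 1
  have h00 := hr 0 0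
  simp only [sq, H7.sl2_mul_apply] at h01 h00
  simp [slTri] at h01 h00
  generalize t⁻¹ = s at hts h01 h00
  have ht4 : t ^ 4 ≠ 0 := pow_ne_zero _ ht0
  have hr1 : t ^ 4 * (r - 1) = 0 := by linear_combination -h00
  have hr1' : r = 1 := by
    rcases mul_eq_zero.mp hr1 with h | h
    · exact absurd h ht4
    · linear_combination h
  rw [hr1'] at h01
  have h3 : (t + s) ^ 3 = 0 := by linear_combination h01 + t * (t + s) ^ 2 * h2
  have hsum : t + s = 0 := pow_eq_zero_iff (by norm_num) |>.mp h3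
  have h5 : (t - 1) ^ 2 = 0 := by linear_combination t * hsum - hts - t * h2
  have : t - 1 = 0 := pow_eq_zero_iff two_ne_zero |>.mp h5
  exact ht1 (by linear_combination this)

theorem not_sqComm_PSL2 (K : Type*) [Field K] [Fintype K] (h3 : 3 ≤ Fintype.card K) :
    ¬ SqComm PSL(2, K) := by
  classical
  by_cases h2 : (2 : K) = 0
  · have hne : (({0, 1} : Finset K)ᶜ).Nonempty := by
      rw [← Finset.card_pos, Finset.card_compl]
      have : ({0, 1} : Finset K).card ≤ 2 := Finset.card_le_two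
      have h4 : Fintype.card K ≠ 3 := by
        intro h33
        have h30 : ((3 : ℕ) : K) = 0 := by rw [← h33]; exact FiniteField.cast_card_eq_zero K
        have : (1 : K) = 0 := by
          push_cast at h30
          linear_combination h30 - h2
        exact one_ne_zero this
      omega
    obtain ⟨t, ht⟩ := hne
    simp only [Finset.mem_compl, Finset.mem_insert, Finset.mem_singleton, not_or] at ht
    exact not_sqComm_PSL2_even K h2 t ht.1 ht.2
  · exact not_sqComm_PSL2_odd K h2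

end Witness

end Cfsg.Agent.H64.DU
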