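import Mathlib

/-!
# Generic lemmas on coatoms of finite simple groups (helper64)
-/

set_option autoImplicit false
set_option linter.unusedSectionVars false
set_option linter.style.haveILetI false

namespace Cfsg.Agent.H64.MX

section Generic

variable {G : Type*} [Group G] [Finite G]

theorem center_eq_bot_of_simple [IsSimpleGroup G] (hG : ¬ ∀ a b : G, a * b = b * a) :
    Subgroup.center G = ⊥ := by
  rcases (inferInstance : (Subgroup.center G).Normal).eq_bot_or_eq_top with h | h
  · exact h
  · exfalso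
    apply hG
    intro a b
    have hb : b ∈ Subgroup.center G := by rw [h]; exact Subgroup.mem_top b
    exact (Subgroup.mem_center_iff.mp hb a)

theorem normalizer_eq_of_coatom [IsSimpleGroup G] {M N : Subgroup G} (hM : IsCoatom M)
    (hN1 : N ≠ ⊥) (hN2 : N ≠ ⊤) (hMN : M ≤ Subgroup.normalizer (N : Set G)) :
    Subgroup.normalizer (N : Set G) = M := by
  by_contra hne
  have hlt : M < Subgroup.normalizer (N : Set G) := lt_of_le_of_ne hMN (Ne.symm hne)
  have htop := hM.2 _ hlt
  have hnorm : N.Normal := Subgroup.normalizer_eq_top_iff.mp htop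
  rcases hnorm.eq_bot_or_eq_top with h | h
  · exact hN1 h
  · exact hN2 h

/-- An abelian subgroup of a finite non-abelian simple group is never maximal. -/
theorem abelian_coatom_false [IsSimpleGroup G] (hG : ¬ ∀ a b : G, a * b = b * a)
    (M : Subgroup G) (hM : IsCoatom M) (hab : ∀ a ∈ M, ∀ b ∈ M, a * b = b * a) : False := by
  classical
  have hZ := center_eq_bot_of_simple hG
  -- `M ≠ ⊥`
  have hMbot : M ≠ ⊥ := by
    rintro rfl
    apply hG
    intro a b
    by_cases ha : a = 1
    · rw [ha]; simp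
    have h1 : (⊥ : Subgroup G) < Subgroup.zpowers a := by
      rw [bot_lt_iff_ne_bot]
      intro h
      exact ha (Subgroup.zpowers_eq_bot.mp h)
    have h2 := hM.2 _ h1
    have hb : b ∈ Subgroup.zpowers a := by rw [h2]; exact Subgroup.mem_top b
    obtain ⟨k, rfl⟩ := Subgroup.mem_zpowers_iff.mp hb
    exact (Commute.self_zpow a k).eq
  -- centralisers of nontrivial elements of `M`
  have hcen : ∀ x ∈ M, x ≠ 1 → Subgroup.centralizer ({x} : Set G) = M := by
    intro x hx hx1
    have hle : M ≤ Subgroup.centralizer ({x} : Set G) := by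
      intro m hm
      rw [Subgroup.mem_centralizer_singleton_iff]
      exact hab m hm x hx
    by_contra hne
    have hlt : M < Subgroup.centralizer ({x} : Set G) := lt_of_le_of_ne hle (Ne.symm hne)
    have htop := hM.2 _ hlt
    have hxc : x ∈ Subgroup.center G := by
      rw [Subgroup.mem_center_iff]
      intro g
      have hg : g ∈ Subgroup.centralizer ({x} : Set G) := by rw [htop]; exact Subgroup.mem_top g
      exact (Subgroup.mem_centralizer_singleton_iff.mp hg)
    rw [hZ, Subgroup.mem_bot] at hxc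
    exact hx1 hxc
  have hcard : 1 < Nat.card M := (Subgroup.one_lt_card_iff_ne_bot M).mpr hMbot
  obtain ⟨r, hr, hrd⟩ := Nat.exists_prime_and_dvd (Nat.ne_of_gt hcard)
  haveI : Fact r.Prime := ⟨hr⟩
  obtain ⟨x0, hx0⟩ := exists_prime_orderOf_dvd_card' (G := M) r hrd
  have hx0G : orderOf (x0 : G) = r := by rw [Subgroup.orderOf_coe]; exact hx0
  have hx01 : (x0 : G) ≠ 1 := by
    intro h
    rw [h, orderOf_one] at hx0G
    exact hr.one_lt.ne hx0G
  have hpg : IsPGroup r (Subgroup.zpowers (x0 : G)) := by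
    apply IsPGroup.of_card (n := 1)
    rw [Nat.card_zpowers, hx0G, pow_one]
  obtain ⟨Q, hQ⟩ := hpg.exists_le_sylow
  have hx0Q : (x0 : G) ∈ (Q : Subgroup G) := hQ (Subgroup.mem_zpowers _)
  haveI : Nontrivial (Q : Subgroup G) := ⟨⟨⟨x0, hx0Q⟩, 1, fun h => hx01 (congrArg Subtype.val h)⟩⟩
  have hcn : Nontrivial (Subgroup.center (Q : Subgroup G)) := Q.isPGroup'.center_nontrivial
  obtain ⟨z, hz1⟩ := exists_ne (1 : Subgroup.center (Q : Subgroup G))
  have hzc : ∀ y : (Q : Subgroup G), y * (z : (Q : Subgroup G)) = (z : (Q : Subgroup G)) * y :=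
    fun y => Subgroup.mem_center_iff.mp z.2 y
  have hzG1 : ((z : (Q : Subgroup G)) : G) ≠ 1 := by
    intro h
    apply hz1
    apply Subtype.ext
    apply Subtype.ext
    simpa using h
  have hzM : ((z : (Q : Subgroup G)) : G) ∈ M := by
    rw [← hcen x0 x0.2 hx01, Subgroup.mem_centralizer_singleton_iff]
    have := hzc ⟨x0, hx0Q⟩
    exact (congrArg Subtype.val this).symm
  have hQM : (Q : Subgroup G) ≤ M := by
    intro y hy
    rw [← hcen _ hzM hzG1, Subgroup.mem_centralizer_singleton_iff]
    have := hzc ⟨y, hy⟩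
    exact congrArg Subtype.val this
  have hQbot : (Q : Subgroup G) ≠ ⊥ := by
    intro h
    rw [h, Subgroup.mem_bot] at hx0Q
    exact hx01 hx0Q
  have hQtop : (Q : Subgroup G) ≠ ⊤ := by
    intro h
    rw [h] at hQM
    exact hM.1 (top_le_iff.mp hQM)
  have hMC : M ≤ Subgroup.centralizer ((Q : Subgroup G) : Set G) := by
    intro m hm
    rw [Subgroup.mem_centralizer_iff]
    intro y hy
    exact hab y (hQM hy) m hm
  have hMN : M ≤ Subgroup.normalizer ((Q : Subgroup G) : Set G) :=
    hMC.trans (Subgroup.centralizer_le_normalizer _)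
  have hN := normalizer_eq_of_coatom hM hQbot hQtop hMN
  have hP : Subgroup.normalizer ((Q : Subgroup G) : Set G) ≤
      Subgroup.centralizer ((Q : Subgroup G) : Set G) := by rw [hN]; exact hMC
  have hcomp := MonoidHom.ker_transferSylow_isComplement' Q hP
  have hker : (MonoidHom.transferSylow Q hP).ker.Normal := inferInstance
  have hmul := hcomp.card_mul_card
  rcases hker.eq_bot_or_eq_top with h | h
  · rw [h, Subgroup.card_bot, one_mul] at hmul
    exact hQtop ((Subgroup.card_eq_iff_eq_top _).mp hmul)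
  · rw [h, Subgroup.card_top] at hmul
    have h1 : Nat.card (Q : Subgroup G) = 1 := by
      have hpos : 0 < Nat.card G := Nat.card_pos
      have : Nat.card G * Nat.card (Q : Subgroup G) = Nat.card G * 1 := by rw [hmul, mul_one]
      exact Nat.eq_of_mul_eq_mul_left hpos this
    exact hQbot ((Subgroup.card_eq_one).mp h1)

theorem cent_le_coatom [IsSimpleGroup G] (M : Subgroup G) (hM : IsCoatom M)
    (X : G) (hXM : X ∈ M) (hX1 : X ≠ 1) (hconj : ∀ m ∈ M, m * X * m⁻¹ ∈ Subgroup.zpowers X) :
    Subgroup.centralizer ({X} : Set G) ≤ M := by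
  have hNb : Subgroup.zpowers X ≠ ⊥ := by
    rw [Ne, Subgroup.zpowers_eq_bot]; exact hX1
  have hNt : Subgroup.zpowers X ≠ ⊤ := by
    intro h
    have h1 : Subgroup.zpowers X ≤ M := (Subgroup.zpowers_le).mpr hXM
    rw [h] at h1
    exact hM.1 (top_le_iff.mp h1)
  have key : ∀ m ∈ M, ∀ y ∈ Subgroup.zpowers X, m * y * m⁻¹ ∈ Subgroup.zpowers X := by
    intro m hm y hy
    obtain ⟨j, rfl⟩ := Subgroup.mem_zpowers_iff.mp hy
    rw [← conj_zpow]
    exact Subgroup.zpow_mem _ (hconj m hm) j
  have hMN : M ≤ Subgroup.normalizer ((Subgroup.zpowers X : Subgroup G) : Set G) := by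
    intro m hm
    rw [Subgroup.mem_normalizer_iff]
    intro y
    constructor
    · exact key m hm y
    · intro h
      have h1 := key m⁻¹ (M.inv_mem hm) _ h
      have e : m⁻¹ * (m * y * m⁻¹) * m⁻¹⁻¹ = y := by group
      rwa [e] at h1
  have hN := normalizer_eq_of_coatom hM hNb hNt hMN
  intro c hc
  rw [← hN, Subgroup.mem_normalizer_iff]
  have hcX : c * X = X * c := Subgroup.mem_centralizer_singleton_iff.mp hc
  have hfix : ∀ y ∈ Subgroup.zpowers X, c * y * c⁻¹ = y := by
    intro y hy
    obtain ⟨j, rfl⟩ := Subgroup.mem_zpowers_iff.mp hy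
    have h1 : c * X * c⁻¹ = X := by rw [hcX]; group
    rw [← conj_zpow, h1]
  intro y
  constructor
  · intro hy; rw [hfix y hy]; exact hy
  · intro hy
    have h1 := hfix _ hy
    have e : c * y * c⁻¹ = y := by
      calc c * y * c⁻¹ = c⁻¹ * (c * (c * y * c⁻¹) * c⁻¹) * c := by group
        _ = c⁻¹ * (c * y * c⁻¹) * c := by rw [h1]
        _ = y := by group
    rw [← e]; exact hy

theorem card_cent_eq (M : Subgroup G) (x : M)
    (h : Subgroup.centralizer ({(x : G)} : Set G) ≤ M) :
    Nat.card (Subgroup.centralizer ({(x : G)} : Set G)) = Nat.card {m : M // m * x = x * m} := by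
  apply Nat.card_congr
  exact
    { toFun := fun c => ⟨⟨c.1, h c.2⟩,
        Subtype.ext (Subgroup.mem_centralizer_singleton_iff.mp c.2)⟩
      invFun := fun m => ⟨m.1.1,
        Subgroup.mem_centralizer_singleton_iff.mpr (congrArg Subtype.val m.2)⟩
      left_inv := fun c => rfl
      right_inv := fun m => rfl }

end Generic

section Dihedral

open DihedralGroup

theorem dih_conj_mem (k : ℕ) (g : DihedralGroup k) :
    g * r 1 * g⁻¹ ∈ Subgroup.zpowers (r (1 : ZMod k)) := by
  cases g with
  | r i =>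
    have h : r i * r 1 * (r i)⁻¹ = r (1 : ZMod k) := by
      rw [mul_inv_eq_iff_eq_mul, r_mul_r, r_mul_r, add_comm]
    rw [h]; exact Subgroup.mem_zpowers _
  | sr i =>
    have h : sr i * r 1 * (sr i)⁻¹ = (r (1 : ZMod k))⁻¹ := by
      rw [mul_inv_eq_iff_eq_mul, sr_mul_r, eq_inv_mul_iff_mul_eq, r_mul_sr]
      congr 1
      ring
    rw [h]; exact Subgroup.inv_mem _ (Subgroup.mem_zpowers _)

theorem two_ne_zero_zmod (k : ℕ) (hk : 3 ≤ k) : (2 : ZMod k) ≠ 0 := by
  intro h
  have h2 : ((2 : ℕ) : ZMod k) = 0 := by exact_mod_cast h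
  rw [ZMod.natCast_eq_zero_iff] at h2
  have := Nat.le_of_dvd (by norm_num) h2
  omega

theorem dih_comm_iff (k : ℕ) (hk : 3 ≤ k) (g : DihedralGroup k) :
    g * r 1 = r 1 * g ↔ ∃ i, g = r i := by
  cases g with
  | r i =>
    constructor
    · intro _; exact ⟨i, rfl⟩
    · intro _; rw [r_mul_r, r_mul_r, add_comm]
  | sr i =>
    constructor
    · intro h
      exfalso
      rw [sr_mul_r, r_mul_sr] at h
      have h1 : i + 1 = i - 1 := by simpa using h
      apply two_ne_zero_zmod k hk
      linear_combination h1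
    · rintro ⟨j, hj⟩
      exact absurd hj (by simp)

theorem dih_card_comm (k : ℕ) (hk : 3 ≤ k) :
    Nat.card {g : DihedralGroup k // g * r 1 = r 1 * g} = k := by
  have e : ZMod k ≃ {g : DihedralGroup k // g * r 1 = r 1 * g} :=
    Equiv.ofBijective (fun i => ⟨r i, (dih_comm_iff k hk _).2 ⟨i, rfl⟩⟩) (by
      constructor
      · intro i j h
        have := congrArg Subtype.val h
        simpa using this
      · rintro ⟨g, hg⟩
        obtain ⟨i, rfl⟩ := (dih_comm_iff k hk g).1 hg
        exact ⟨i, rfl⟩)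
  rw [← Nat.card_congr e, Nat.card_zmod]

/-- Structure of a group isomorphic to a dihedral group of order `2k`, `k ≥ 3`. -/
theorem dih_struct {M : Type*} [Group M] (k : ℕ) (hk : 3 ≤ k) (f : M ≃* DihedralGroup k) :
    ∃ x : M, x ^ 2 ≠ 1 ∧ (∀ m : M, m * x * m⁻¹ ∈ Subgroup.zpowers x) ∧
      Nat.card {m : M // m * x = x * m} = k := by
  refine ⟨f.symm (r 1), ?_, ?_, ?_⟩
  · intro h
    have h1 := congrArg f h
    rw [map_pow, MulEquiv.apply_symm_apply, map_one, r_one_pow, one_def] at h1
    have h2 : ((2 : ℕ) : ZMod k) = 0 := by injection h1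
    exact two_ne_zero_zmod k hk (by exact_mod_cast h2)
  · intro m
    have h1 := dih_conj_mem k (f m)
    obtain ⟨j, hj⟩ := Subgroup.mem_zpowers_iff.mp h1
    rw [Subgroup.mem_zpowers_iff]
    refine ⟨j, f.injective ?_⟩
    rw [map_zpow, MulEquiv.apply_symm_apply, hj, map_mul, map_mul, map_inv,
      MulEquiv.apply_symm_apply]
  · refine (Nat.card_congr ?_).trans (dih_card_comm k hk)
    refine Equiv.subtypeEquiv f.toEquiv ?_
    intro m
    constructor
    · intro h
      have := congrArg f h
      simpa using this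
    · intro h
      apply f.injective
      simpa using h

end Dihedral

section N2

/-- `X` has a non-trivial normal `2`-subgroup. -/
def HasN2 (X : Type*) [Group X] : Prop :=
  ∃ N : Subgroup X, N.Normal ∧ N ≠ ⊥ ∧ IsPGroup 2 N

theorem HasN2.of_equiv {X Y : Type*} [Group X] [Group Y] (f : X ≃* Y) (h : HasN2 Y) :
    HasN2 X := by
  obtain ⟨N, hN, hne, hp⟩ := h
  refine ⟨N.comap f.toMonoidHom, hN.comap _, ?_, hp.comap_of_injective _ f.injective⟩
  intro hbot
  apply hne
  rw [eq_bot_iff]
  intro n hn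
  have h1 : f.symm n ∈ N.comap f.toMonoidHom := by
    rw [Subgroup.mem_comap]
    simpa using hn
  rw [hbot, Subgroup.mem_bot] at h1
  rw [Subgroup.mem_bot]
  have := congrArg f h1
  simpa using this

theorem a4_sq_mul : ∀ g h : alternatingGroup (Fin 4), g * g = 1 → h * h = 1 →
    (g * h) * (g * h) = 1 := by
  decide

theorem hasN2_A4 : HasN2 (alternatingGroup (Fin 4)) := by
  let V : Subgroup (alternatingGroup (Fin 4)) :=
    { carrier := {g | g * g = 1}
      mul_mem' := fun {a b} ha hb => a4_sq_mul a b ha hb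
      one_mem' := by simp
      inv_mem' := by
        intro a ha
        have h1 : a⁻¹ = a := inv_eq_of_mul_eq_one_left ha
        show a⁻¹ * a⁻¹ = 1
        rw [h1]; exact ha }
  refine ⟨V, ⟨?_⟩, ?_, ?_⟩
  · intro n hn g
    show (g * n * g⁻¹) * (g * n * g⁻¹) = 1
    have hn' : n * n = 1 := hn
    calc (g * n * g⁻¹) * (g * n * g⁻¹) = g * (n * n) * g⁻¹ := by group
      _ = 1 := by rw [hn']; group
  · intro hbot
    have hmem : (⟨Equiv.swap (0 : Fin 4) 1 * Equiv.swap (2 : Fin 4) 3,
        Equiv.Perm.mem_alternatingGroup.mpr (by decide)⟩ : alternatingGroup (Fin 4)) ∈ V := by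
      show _ * _ = 1
      decide
    rw [hbot, Subgroup.mem_bot] at hmem
    revert hmem
    decide
  · intro g
    refine ⟨1, ?_⟩
    have hg : (g : alternatingGroup (Fin 4)) * g = 1 := g.2
    apply Subtype.ext
    rw [pow_one, Subgroup.coe_pow, pow_two]
    simpa using hg

theorem s4_elt : ∃ x : Equiv.Perm (Fin 4), x ^ 4 = 1 ∧ x ^ 2 ≠ 1 :=
  ⟨c[0, 1, 2, 3], by decide, by decide⟩

end N2

end Cfsg.Agent.H64.MX
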