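import Mathlib
import Cfsg.Agent.H7.SL2

set_option autoImplicit false

/-!
# Centralizer orders in `SL₂(q)`, `q` even

For a non-scalar `g ∈ SL₂(F)` the centralizer is `{a + b g : a² + t a b + b² = 1}` (`t = tr g`).
In characteristic 2 the number of solutions of this conic is `q + 1 - r`, with `r` the number of
roots of `x² + t x + 1`.
-/

namespace Cfsg.Agent.H64.PSL2Even

open Matrix
open scoped MatrixGroups
open Cfsg.Agent.H7

section Conic

variable {F : Type*} [Field F] [Fintype F] [DecidableEq F]

/-- the solutions of `a^2 + t a b + b^2 = c` -/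
def conic (t c : F) : Finset (F × F) :=
  Finset.univ.filter fun ab => ab.1 ^ 2 + t * ab.1 * ab.2 + ab.2 ^ 2 = c

/-- the roots of `x^2 + t x + 1` -/
def qroots (t : F) : Finset F := Finset.univ.filter fun l => l ^ 2 + t * l + 1 = 0

theorem mem_conic {t c : F} {ab : F × F} :
    ab ∈ conic t c ↔ ab.1 ^ 2 + t * ab.1 * ab.2 + ab.2 ^ 2 = c := by
  simp [conic]

theorem mem_qroots {t l : F} : l ∈ qroots t ↔ l ^ 2 + t * l + 1 = 0 := by
  simp [qroots]

theorem sum_card_conic (t : F) :
    ∑ c : F, (conic t c).card = Fintype.card F ^ 2 := by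
  have h := Finset.card_eq_sum_card_fiberwise (s := (Finset.univ : Finset (F × F)))
    (t := (Finset.univ : Finset F)) (f := fun ab : F × F => ab.1 ^ 2 + t * ab.1 * ab.2 + ab.2 ^ 2)
    (fun _ _ => Finset.mem_univ _)
  rw [Finset.card_univ, Fintype.card_prod] at h
  rw [sq, h]
  rfl

theorem card_conic_sq (t s : F) (hs : s ≠ 0) :
    (conic t (s * s)).card = (conic t 1).card := by
  symm
  refine Finset.card_nbij' (fun ab => (s * ab.1, s * ab.2)) (fun ab => (s⁻¹ * ab.1, s⁻¹ * ab.2))
    ?_ ?_ ?_ ?_
  · intro ab hab
    have hab' := mem_conic.mp (Finset.mem_coe.mp hab)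
    refine Finset.mem_coe.mpr (mem_conic.mpr ?_)
    simp only
    linear_combination (s * s) * hab'
  · intro ab hab
    have hab' := mem_conic.mp (Finset.mem_coe.mp hab)
    refine Finset.mem_coe.mpr (mem_conic.mpr ?_)
    simp only
    have h1 : s⁻¹ * s = 1 := inv_mul_cancel₀ hs
    linear_combination (s⁻¹ * s⁻¹) * hab' + (s⁻¹ * s + 1) * h1
  · intro ab _
    simp [← mul_assoc, inv_mul_cancel₀ hs]
  · intro ab _
    simp [← mul_assoc, mul_inv_cancel₀ hs]

theorem card_conic_zero (t : F) :
    (conic t 0).card = 1 + (qroots t).card * (Fintype.card F - 1) := by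
  have hset : conic t 0 = insert ((0 : F), (0 : F))
      (((qroots t) ×ˢ (Finset.univ.filter fun b : F => b ≠ 0)).image
        (fun lb : F × F => (lb.1 * lb.2, lb.2))) := by
    ext ⟨a, b⟩
    simp only [mem_conic, Finset.mem_insert, Finset.mem_image, Finset.mem_product, mem_qroots,
      Finset.mem_filter, Finset.mem_univ, true_and, Prod.mk.injEq, Prod.exists]
    constructor
    · intro h
      by_cases hb : b = 0
      · left
        subst hb
        simp at h
        exact ⟨h, rfl⟩
      · right
        refine ⟨a / b, b, ⟨?_, hb⟩, div_mul_cancel₀ a hb, rfl⟩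
        field_simp
        linear_combination h
    · rintro (⟨rfl, rfl⟩ | ⟨l, b', ⟨hl, _⟩, rfl, rfl⟩)
      · simp
      · linear_combination b' ^ 2 * hl
  rw [hset, Finset.card_insert_of_notMem, Finset.card_image_of_injOn, Finset.card_product,
    Finset.filter_ne' , Finset.card_erase_of_mem (Finset.mem_univ _), Finset.card_univ, add_comm]
  · rintro ⟨l, b⟩ hlb ⟨l', b'⟩ hlb' h
    simp only [Finset.coe_product, Set.mem_prod, Finset.mem_coe, Finset.mem_filter,
      Finset.mem_univ, true_and] at hlb hlb'
    simp only [Prod.mk.injEq] at h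
    obtain ⟨h1, rfl⟩ := h
    have := mul_right_cancel₀ hlb.2 h1
    simp [this]
  · simp only [Finset.mem_image, Finset.mem_product, Finset.mem_filter, Finset.mem_univ, true_and,
      Prod.mk.injEq, Prod.exists, not_exists, not_and]
    rintro l b ⟨_, hb⟩ _ hb0
    exact hb hb0

/-- In characteristic `2`: `#{a² + tab + b² = 1} + #{roots of x² + tx + 1} = q + 1`. -/
theorem card_conic_one (h2 : (2 : F) = 0) (t : F) :
    (conic t 1).card + (qroots t).card = Fintype.card F + 1 := by
  have hchar : CharP F 2 := CharTwo.of_one_ne_zero_of_two_eq_zero one_ne_zero h2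
  have hring : ringChar F = 2 := ringChar.eq F 2
  have hsum := sum_card_conic t
  rw [← Finset.add_sum_erase _ _ (Finset.mem_univ (0 : F))] at hsum
  have hconst : ∀ c ∈ (Finset.univ : Finset F).erase 0, (conic t c).card = (conic t 1).card := by
    intro c hc
    obtain ⟨s, rfl⟩ := FiniteField.isSquare_of_char_two hring c
    have hs : s ≠ 0 := by
      rintro rfl
      simp at hc
    exact card_conic_sq t s hs
  rw [Finset.sum_congr rfl hconst, Finset.sum_const, Finset.card_erase_of_mem (Finset.mem_univ _),
    Finset.card_univ, card_conic_zero, smul_eq_mul] at hsum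
  have hq : 2 ≤ Fintype.card F := Fintype.one_lt_card
  obtain ⟨m, hm⟩ : ∃ m, Fintype.card F = m + 1 := ⟨Fintype.card F - 1, by omega⟩
  rw [hm] at hsum ⊢
  simp only [Nat.add_sub_cancel] at hsum
  have hm1 : 1 ≤ m := by omega
  have : m * ((conic t 1).card + (qroots t).card) = m * (m + 2) := by nlinarith
  have := Nat.eq_of_mul_eq_mul_left (by omega) this
  omega

theorem qroots_zero (h2 : (2 : F) = 0) : (qroots (0 : F)).card = 1 := by
  have : qroots (0 : F) = {1} := by
    ext l
    simp only [mem_qroots, Finset.mem_singleton]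
    constructor
    · intro h
      have h' : (l + 1) ^ 2 = 0 := by linear_combination h + l * h2
      have h'' : l + 1 = 0 := by simpa using h'
      linear_combination h'' - h2
    · rintro rfl
      linear_combination h2
  rw [this, Finset.card_singleton]

theorem qroots_of_mem (h2 : (2 : F) = 0) {t l : F} (ht : t ≠ 0) (hl : l ∈ qroots t) :
    (qroots t).card = 2 := by
  have hl' := mem_qroots.mp hl
  have : qroots t = {l, l + t} := by
    ext m
    simp only [mem_qroots, Finset.mem_insert, Finset.mem_singleton]
    constructor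
    · intro hm
      have : (m - l) * (m - (l + t)) = 0 := by linear_combination hm - hl' + (l ^ 2 + l * t - m * l - m * t) * h2
      rcases mul_eq_zero.mp this with h | h
      · left; exact sub_eq_zero.mp h
      · right; exact sub_eq_zero.mp h
    · rintro (rfl | rfl)
      · exact hl'
      · linear_combination hl' + (l * t + t ^ 2) * h2
  rw [this, Finset.card_pair]
  intro h
  apply ht
  linear_combination -h

theorem qroots_cases (h2 : (2 : F) = 0) {t : F} (ht : t ≠ 0) :
    (qroots t).card = 0 ∨ (qroots t).card = 2 := by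
  rcases (qroots t).eq_empty_or_nonempty with h | ⟨l, hl⟩
  · left; rw [h, Finset.card_empty]
  · right; exact qroots_of_mem h2 ht hl

end Conic

section Centralizer

variable {F : Type*} [Field F]

/-- `g` is not a scalar matrix -/
def Nonscalar (g : SL(2, F)) : Prop := g.1 0 1 ≠ 0 ∨ g.1 1 0 ≠ 0 ∨ g.1 0 0 ≠ g.1 1 1

theorem exists_ab {g00 g01 g10 g11 x00 x01 x10 x11 : F}
    (hg : g01 ≠ 0 ∨ g10 ≠ 0 ∨ g00 ≠ g11)
    (e00 : g00 * x00 + g01 * x10 = x00 * g00 + x01 * g10)
    (e01 : g00 * x01 + g01 * x11 = x00 * g01 + x01 * g11)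
    (e10 : g10 * x00 + g11 * x10 = x10 * g00 + x11 * g10) :
    ∃ a b : F, x00 = a + b * g00 ∧ x01 = b * g01 ∧ x10 = b * g10 ∧ x11 = a + b * g11 := by
  rcases hg with h | h | h
  · refine ⟨x00 - x01 / g01 * g00, x01 / g01, by ring, by field_simp, ?_, ?_⟩
    · field_simp
      linear_combination e00
    · field_simp
      linear_combination e01
  · refine ⟨x00 - x10 / g10 * g00, x10 / g10, by ring, ?_, by field_simp, ?_⟩
    · field_simp
      linear_combination -e00
    · field_simp
      linear_combination -e10
  · have h' : g00 - g11 ≠ 0 := sub_ne_zero.mpr h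
    by_cases h01 : g01 = 0
    · by_cases h10 : g10 = 0
      · subst h01 h10
        have hx01 : x01 = 0 := by
          have : (g00 - g11) * x01 = 0 := by linear_combination e01
          rcases mul_eq_zero.mp this with h | h
          · exact absurd h h'
          · exact h
        have hx10 : x10 = 0 := by
          have : (g00 - g11) * x10 = 0 := by linear_combination -e10
          rcases mul_eq_zero.mp this with h | h
          · exact absurd h h'
          · exact h
        refine ⟨x00 - (x00 - x11) / (g00 - g11) * g00, (x00 - x11) / (g00 - g11), by ring,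
          by simp [hx01], by simp [hx10], ?_⟩
        field_simp
        ring
      · exact exists_ab_aux2 h10 e00 e10
    · exact exists_ab_aux1 h01 e00 e01
where
  exists_ab_aux1 {g00 g01 g10 g11 x00 x01 x10 x11 : F} (h : g01 ≠ 0)
      (e00 : g00 * x00 + g01 * x10 = x00 * g00 + x01 * g10)
      (e01 : g00 * x01 + g01 * x11 = x00 * g01 + x01 * g11) :
      ∃ a b : F, x00 = a + b * g00 ∧ x01 = b * g01 ∧ x10 = b * g10 ∧ x11 = a + b * g11 := by
    refine ⟨x00 - x01 / g01 * g00, x01 / g01, by ring, by field_simp, ?_, ?_⟩
    · field_simp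
      linear_combination e00
    · field_simp
      linear_combination e01
  exists_ab_aux2 {g00 g01 g10 g11 x00 x01 x10 x11 : F} (h : g10 ≠ 0)
      (e00 : g00 * x00 + g01 * x10 = x00 * g00 + x01 * g10)
      (e10 : g10 * x00 + g11 * x10 = x10 * g00 + x11 * g10) :
      ∃ a b : F, x00 = a + b * g00 ∧ x01 = b * g01 ∧ x10 = b * g10 ∧ x11 = a + b * g11 := by
    refine ⟨x00 - x10 / g10 * g00, x10 / g10, by ring, ?_, by field_simp, ?_⟩
    · field_simp
      linear_combination -e00
    · field_simp
      linear_combination -e10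

variable [Fintype F] [DecidableEq F]

/-- the element `a + b g` of the centralizer of `g` -/
def centElt (g : SL(2, F)) (ab : F × F)
    (h : ab ∈ conic (g.1 0 0 + g.1 1 1) 1) : SL(2, F) :=
  ⟨!![ab.1 + ab.2 * g.1 0 0, ab.2 * g.1 0 1; ab.2 * g.1 1 0, ab.1 + ab.2 * g.1 1 1], by
    rw [Matrix.det_fin_two_of]
    have h1 := mem_conic.mp h
    have h2 := sl2_det g
    linear_combination h1 + ab.2 ^ 2 * h2⟩

theorem centElt_mem (g : SL(2, F)) (ab : F × F) (h : ab ∈ conic (g.1 0 0 + g.1 1 1) 1) :
    centElt g ab h ∈ Subgroup.centralizer ({g} : Set SL(2, F)) := by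
  rw [Subgroup.mem_centralizer_iff]
  intro k hk
  rw [Set.mem_singleton_iff] at hk
  subst hk
  apply Matrix.SpecialLinearGroup.ext
  intro i j
  rw [sl2_mul_apply, sl2_mul_apply]
  fin_cases i <;> fin_cases j <;> simp [centElt] <;> ring

theorem card_centralizer (g : SL(2, F)) (hg : Nonscalar g) :
    Nat.card (Subgroup.centralizer ({g} : Set SL(2, F))) = (conic (g.1 0 0 + g.1 1 1) 1).card := by
  classical
  let f : {ab : F × F // ab ∈ conic (g.1 0 0 + g.1 1 1) 1} →
      Subgroup.centralizer ({g} : Set SL(2, F)) :=
    fun ab => ⟨centElt g ab.1 ab.2, centElt_mem g ab.1 ab.2⟩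
  have hinj : Function.Injective f := by
    rintro ⟨⟨a, b⟩, hab⟩ ⟨⟨a', b'⟩, hab'⟩ h
    have h' : centElt g (a, b) hab = centElt g (a', b') hab' := congrArg Subtype.val h
    have e00 : a + b * g.1 0 0 = a' + b' * g.1 0 0 := by
      simpa [centElt] using congrArg (fun m : SL(2, F) => m.1 0 0) h'
    have e01 : b * g.1 0 1 = b' * g.1 0 1 := by
      simpa [centElt] using congrArg (fun m : SL(2, F) => m.1 0 1) h'
    have e10 : b * g.1 1 0 = b' * g.1 1 0 := by
      simpa [centElt] using congrArg (fun m : SL(2, F) => m.1 1 0) h'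
    have e11 : a + b * g.1 1 1 = a' + b' * g.1 1 1 := by
      simpa [centElt] using congrArg (fun m : SL(2, F) => m.1 1 1) h'
    have hb : b = b' := by
      rcases hg with h | h | h
      · exact mul_right_cancel₀ h e01
      · exact mul_right_cancel₀ h e10
      · have h' : g.1 0 0 - g.1 1 1 ≠ 0 := sub_ne_zero.mpr h
        apply mul_right_cancel₀ h'
        linear_combination e00 - e11
    subst hb
    have ha : a = a' := by linear_combination e00
    subst ha
    rfl
  have hsurj : Function.Surjective f := by
    rintro ⟨x, hx⟩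
    rw [Subgroup.mem_centralizer_iff] at hx
    have hx' : g * x = x * g := hx g rfl
    have e00 := congrArg (fun m : SL(2, F) => m.1 0 0) hx'
    have e01 := congrArg (fun m : SL(2, F) => m.1 0 1) hx'
    have e10 := congrArg (fun m : SL(2, F) => m.1 1 0) hx'
    simp only [sl2_mul_apply] at e00 e01 e10
    obtain ⟨a, b, h00, h01, h10, h11⟩ := exists_ab hg e00 e01 e10
    have hdx := sl2_det x
    have hdg := sl2_det g
    have hab : (a, b) ∈ conic (g.1 0 0 + g.1 1 1) 1 := by
      rw [mem_conic]
      rw [h00, h01, h10, h11] at hdx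
      simp only
      linear_combination hdx - b ^ 2 * hdg
    refine ⟨⟨(a, b), hab⟩, ?_⟩
    apply Subtype.ext
    apply Matrix.SpecialLinearGroup.ext
    intro i j
    fin_cases i <;> fin_cases j <;> simp [f, centElt, h00, h01, h10, h11]
  rw [← Nat.card_congr (Equiv.ofBijective f ⟨hinj, hsurj⟩), Nat.card_eq_fintype_card,
    Fintype.card_coe]

end Centralizer

section Main

variable {F : Type*} [Field F] [Fintype F]

theorem index_value (q idx r : ℕ) (hq : 2 ≤ q) (h : idx * (q + 1 - r) = q * (q ^ 2 - 1)) :
    (r = 0 → idx = q * (q - 1)) ∧ (r = 1 → idx = q ^ 2 - 1) ∧ (r = 2 → idx = q * (q + 1)) := by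
  obtain ⟨m, rfl⟩ : ∃ m, q = m + 2 := ⟨q - 2, by omega⟩
  have h1 : (m + 2) ^ 2 - 1 = (m + 1) * (m + 3) := by
    have : (m + 2) ^ 2 = (m + 1) * (m + 3) + 1 := by ring
    omega
  rw [h1] at h
  refine ⟨?_, ?_, ?_⟩
  · rintro rfl
    have h' : idx * (m + 3) = ((m + 2) * (m + 1)) * (m + 3) := by
      rw [show m + 2 + 1 - 0 = m + 3 by omega] at h
      rw [h]; ring
    have := Nat.eq_of_mul_eq_mul_right (by omega) h'
    rw [this]
    simp
  · rintro rfl
    have h' : idx * (m + 2) = ((m + 1) * (m + 3)) * (m + 2) := by
      rw [show m + 2 + 1 - 1 = m + 2 by omega] at h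
      rw [h]; ring
    have := Nat.eq_of_mul_eq_mul_right (by omega) h'
    rw [this, h1]
  · rintro rfl
    have h' : idx * (m + 1) = ((m + 2) * (m + 3)) * (m + 1) := by
      rw [show m + 2 + 1 - 2 = m + 1 by omega] at h
      rw [h]; ring
    have := Nat.eq_of_mul_eq_mul_right (by omega) h'
    rw [this]

theorem index_mul (h2 : (2 : F) = 0) [DecidableEq F] (g : SL(2, F)) (hg : Nonscalar g) :
    (Subgroup.centralizer ({g} : Set SL(2, F))).index *
      (Fintype.card F + 1 - (qroots (g.1 0 0 + g.1 1 1)).card) =
      Fintype.card F * (Fintype.card F ^ 2 - 1) := by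
  have h := Subgroup.index_mul_card (Subgroup.centralizer ({g} : Set SL(2, F)))
  rw [card_centralizer g hg, card_SL2] at h
  have h' := card_conic_one h2 (g.1 0 0 + g.1 1 1)
  rw [← h, ← h']
  simp

theorem eq_one_of_not_nonscalar (h2 : (2 : F) = 0) (g : SL(2, F)) (hg : ¬ Nonscalar g) :
    g = 1 := by
  unfold Nonscalar at hg
  push Not at hg
  obtain ⟨h01, h10, h00⟩ := hg
  have hd := sl2_det g
  rw [h01, ← h00] at hd
  have h1 : (g.1 0 0 - 1) ^ 2 = 0 := by linear_combination hd + (1 - g.1 0 0) * h2
  have h1' : g.1 0 0 = 1 := by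
    have : g.1 0 0 - 1 = 0 := by simpa using h1
    exact sub_eq_zero.mp this
  apply Matrix.SpecialLinearGroup.ext
  intro i j
  fin_cases i <;> fin_cases j
  · simpa using h1'
  · simpa using h01
  · simpa using h10
  · simpa using h00.symm.trans h1'

theorem range_index_SL (h2 : (2 : F) = 0) (h4 : 4 ≤ Fintype.card F) :
    Set.range (fun g : SL(2, F) => (Subgroup.centralizer ({g} : Set SL(2, F))).index) =
      {1, Fintype.card F * (Fintype.card F - 1), Fintype.card F ^ 2 - 1,
        Fintype.card F * (Fintype.card F + 1)} := by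
  classical
  have hq : 2 ≤ Fintype.card F := by omega
  apply Set.eq_of_subset_of_subset
  · rintro _ ⟨g, rfl⟩
    simp only [Set.mem_insert_iff, Set.mem_singleton_iff]
    by_cases hg : Nonscalar g
    · have hv := index_value _ _ _ hq (index_mul h2 g hg)
      by_cases ht : g.1 0 0 + g.1 1 1 = 0
      · right; right; left
        apply hv.2.1
        rw [ht]
        exact qroots_zero h2
      · rcases qroots_cases h2 ht with h | h
        · right; left
          exact hv.1 h
        · right; right; right
          exact hv.2.2 h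
    · left
      rw [eq_one_of_not_nonscalar h2 g hg]
      have : Subgroup.centralizer ({1} : Set SL(2, F)) = ⊤ := by
        rw [Subgroup.centralizer_eq_top_iff_subset]
        intro x hx
        rw [Set.mem_singleton_iff] at hx
        subst hx
        exact Subgroup.one_mem _
      simp only [this, Subgroup.index_top]
  · intro n hn
    simp only [Set.mem_insert_iff, Set.mem_singleton_iff] at hn
    rcases hn with rfl | rfl | rfl | rfl
    · refine ⟨1, ?_⟩
      have : Subgroup.centralizer ({1} : Set SL(2, F)) = ⊤ := by
        rw [Subgroup.centralizer_eq_top_iff_subset]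
        intro x hx
        rw [Set.mem_singleton_iff] at hx
        subst hx
        exact Subgroup.one_mem _
      simp only [this, Subgroup.index_top]
    · -- no roots
      have hns : ¬ Function.Surjective (fun l : F => l + l⁻¹) := by
        intro hs
        have hi := Finite.injective_iff_surjective.mpr hs
        have : (0 : F) = 1 := by
          apply hi
          simp only [_root_.inv_zero, add_zero, inv_one]
          linear_combination -h2
        exact zero_ne_one this
      rw [Function.Surjective] at hns
      push Not at hns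
      obtain ⟨t, ht⟩ := hns
      have hdet : Matrix.det !![(0 : F), 1; 1, t] = 1 := by
        rw [Matrix.det_fin_two_of]
        linear_combination -h2
      let g : SL(2, F) := ⟨!![(0 : F), 1; 1, t], hdet⟩
      have hg : Nonscalar g := Or.inl (by simp [g])
      have htr : g.1 0 0 + g.1 1 1 = t := by simp [g]
      have hv := index_value _ _ _ hq (index_mul h2 g hg)
      refine ⟨g, hv.1 ?_⟩
      rw [htr, Finset.card_eq_zero, Finset.eq_empty_iff_forall_notMem]
      intro l hl
      rw [mem_qroots] at hl
      have hl0 : l ≠ 0 := by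
        rintro rfl
        simp at hl
      apply ht l
      field_simp
      linear_combination -hl + (l ^ 2 + 1) * h2
    · -- unipotent
      have hdet : Matrix.det !![(1 : F), 1; 0, 1] = 1 := by
        rw [Matrix.det_fin_two_of]
        ring
      let g : SL(2, F) := ⟨!![(1 : F), 1; 0, 1], hdet⟩
      have hg : Nonscalar g := Or.inl (by simp [g])
      have htr : g.1 0 0 + g.1 1 1 = 0 := by
        simp only [g, Matrix.of_apply, Matrix.cons_val', Matrix.cons_val_zero, Matrix.cons_val_one]
        linear_combination h2
      have hv := index_value _ _ _ hq (index_mul h2 g hg)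
      refine ⟨g, hv.2.1 ?_⟩
      rw [htr]
      exact qroots_zero h2
    · -- split torus
      obtain ⟨l, hl0, hl1⟩ : ∃ l : F, l ≠ 0 ∧ l ≠ 1 := by
        by_contra hcon
        push Not at hcon
        have : Fintype.card F ≤ 2 := by
          calc Fintype.card F = (Finset.univ : Finset F).card := rfl
            _ ≤ ({0, 1} : Finset F).card := by
                apply Finset.card_le_card
                intro x _
                simp only [Finset.mem_insert, Finset.mem_singleton]
                by_cases hx : x = 0
                · left; exact hx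
                · right; exact hcon x hx
            _ ≤ 2 := Finset.card_le_two
        omega
      have hll : l * l⁻¹ = 1 := mul_inv_cancel₀ hl0
      have hdet : Matrix.det !![l, 0; 0, l⁻¹] = 1 := by
        rw [Matrix.det_fin_two_of]
        linear_combination hll
      have hsq : ∀ x : F, x ^ 2 = 1 → x = 1 := by
        intro x hx
        have h1 : (x - 1) ^ 2 = 0 := by linear_combination hx + (1 - x) * h2
        have : x - 1 = 0 := by simpa using h1
        exact sub_eq_zero.mp this
      let g : SL(2, F) := ⟨!![l, 0; 0, l⁻¹], hdet⟩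
      have hne : l ≠ l⁻¹ := by
        intro h
        apply hl1
        apply hsq
        rw [sq]
        nth_rewrite 2 [h]
        exact hll
      have hg : Nonscalar g := Or.inr (Or.inr (by simpa [g] using hne))
      have htr : g.1 0 0 + g.1 1 1 = l + l⁻¹ := by simp [g]
      have ht0 : l + l⁻¹ ≠ 0 := by
        intro h
        apply hne
        linear_combination h - l⁻¹ * h2
      have hv := index_value _ _ _ hq (index_mul h2 g hg)
      refine ⟨g, hv.2.2 ?_⟩
      rw [htr]
      apply qroots_of_mem h2 ht0 (l := l)
      rw [mem_qroots]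
      linear_combination (l ^ 2 + 1) * h2 + hll

theorem center_SL2_eq_bot (h2 : (2 : F) = 0) : Subgroup.center SL(2, F) = ⊥ := by
  rw [eq_bot_iff]
  intro A hA
  rw [Matrix.SpecialLinearGroup.mem_center_iff] at hA
  obtain ⟨r, hr, hA⟩ := hA
  rw [Fintype.card_fin] at hr
  have h1 : (r - 1) ^ 2 = 0 := by linear_combination hr + (1 - r) * h2
  have hr1 : r = 1 := by
    have : r - 1 = 0 := by simpa using h1
    exact sub_eq_zero.mp this
  subst hr1
  rw [Subgroup.mem_bot]
  apply Subtype.ext
  rw [← hA]
  simp

theorem range_index_PSL (h2 : (2 : F) = 0) (h4 : 4 ≤ Fintype.card F) :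
    Set.range (fun g : PSL(2, F) => (Subgroup.centralizer ({g} : Set PSL(2, F))).index) =
      {1, Fintype.card F * (Fintype.card F - 1), Fintype.card F ^ 2 - 1,
        Fintype.card F * (Fintype.card F + 1)} := by
  rw [← range_index_SL h2 h4]
  have hinj : Function.Injective (QuotientGroup.mk' (Subgroup.center SL(2, F))) := by
    rw [← MonoidHom.ker_eq_bot_iff, QuotientGroup.ker_mk', center_SL2_eq_bot h2]
  have hsurj : Function.Surjective (QuotientGroup.mk' (Subgroup.center SL(2, F))) :=
    QuotientGroup.mk'_surjective _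
  let e : SL(2, F) ≃* PSL(2, F) :=
    MulEquiv.ofBijective (QuotientGroup.mk' (Subgroup.center SL(2, F))) ⟨hinj, hsurj⟩
  have key : ∀ g : SL(2, F), (Subgroup.centralizer ({e g} : Set PSL(2, F))).index =
      (Subgroup.centralizer ({g} : Set SL(2, F))).index := by
    intro g
    have : Subgroup.centralizer ({e g} : Set PSL(2, F)) =
        (Subgroup.centralizer ({g} : Set SL(2, F))).map e.toMonoidHom := by
      ext x
      rw [Subgroup.mem_map_equiv, Subgroup.mem_centralizer_iff, Subgroup.mem_centralizer_iff]
      constructor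
      · intro h k hk
        rw [Set.mem_singleton_iff] at hk
        subst hk
        apply e.injective
        rw [map_mul, map_mul, e.apply_symm_apply]
        exact h _ rfl
      · intro h k hk
        rw [Set.mem_singleton_iff] at hk
        subst hk
        have := congrArg e (h g rfl)
        rwa [map_mul, map_mul, e.apply_symm_apply] at this
    rw [this]
    exact Subgroup.index_map_of_bijective (f := e.toMonoidHom) e.bijective _
  apply Set.eq_of_subset_of_subset
  · rintro _ ⟨x, rfl⟩
    obtain ⟨g, rfl⟩ := e.surjective x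
    exact ⟨g, (key g).symm⟩
  · rintro _ ⟨g, rfl⟩
    exact ⟨e g, key g⟩

end Main

end Cfsg.Agent.H64.PSL2Even
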