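import Mathlib
import Cfsg.Agent.H18.DkSolv
import Cfsg.Agent.H64.PSL2Even
import Cfsg.Agent.H64.DU2
import Cfsg.Agent.H64.MX1

/-!
# `PSL(2, q)`, `q` even: centralisers, Sylow `2`-subgroups, their normalisers (helper64)
-/

set_option autoImplicit false
set_option linter.unusedSectionVars false
set_option linter.unusedVariables false
set_option linter.style.haveILetI false

namespace Cfsg.Agent.H64.MX

open Matrix Cfsg.Agent.H65.SL2 Cfsg.Agent.H29.Dk Cfsg.Agent.H18.Dk
open scoped MatrixGroups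

variable {F : Type*} [Field F] [Fintype F]

theorem two_eq_zero (he : Even (Fintype.card F)) : (2 : F) = 0 :=
  Cfsg.Agent.H64.DU.two_eq_zero_of_even_card F he

theorem gcd_eq_one (he : Even (Fintype.card F)) : Nat.gcd 2 (Fintype.card F - 1) = 1 := by
  obtain ⟨m, hm⟩ := he
  have hq : 2 ≤ Fintype.card F := Fintype.one_lt_card
  have h3 : (Fintype.card F - 1) % 2 = 1 := by omega
  exact Nat.coprime_two_left.2 (Nat.odd_iff.2 h3)

theorem Ze_eq_bot (he : Even (Fintype.card F)) : (Ze : Subgroup SL(2, F)) = ⊥ := by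
  rw [← Subgroup.card_eq_one, card_Ze, gcd_eq_one he]

theorem mkP_injective (he : Even (Fintype.card F)) : Function.Injective (mkP F) := by
  intro g h hgh
  have := mkP_eq_iff.1 hgh
  rw [Ze_eq_bot he, Subgroup.mem_bot] at this
  exact inv_mul_eq_one.mp this

theorem card_PSL2_even (he : Even (Fintype.card F)) :
    Nat.card PSL(2, F) = Fintype.card F * (Fintype.card F ^ 2 - 1) := by
  have h := card_PSL2_mul (F := F)
  rwa [gcd_eq_one he, one_mul] at h

/-! ### Squares -/

theorem mul_self_eq_one_of_tr (h2 : (2 : F) = 0) (g : SL(2, F)) (ht : tr g = 0) : g * g = 1 := by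
  have hd := det_eq g
  unfold tr at ht
  apply ext4 <;> simp only [mul00, mul01, mul10, mul11, one00, one01, one10, one11]
  · linear_combination (-1 : F) * hd + g.1 0 0 * ht - h2
  · linear_combination g.1 0 1 * ht
  · linear_combination g.1 1 0 * ht
  · linear_combination (-1 : F) * hd + g.1 1 1 * ht - h2

theorem tr_of_mul_self_eq_one (h2 : (2 : F) = 0) (g : SL(2, F)) (hg : g * g = 1) : tr g = 0 := by
  have hd := det_eq g
  have h00 := congrArg (fun x : SL(2, F) => x.1 0 0) hg
  have h01 := congrArg (fun x : SL(2, F) => x.1 0 1) hg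
  have h10 := congrArg (fun x : SL(2, F) => x.1 1 0) hg
  have h11 := congrArg (fun x : SL(2, F) => x.1 1 1) hg
  simp only [mul00, mul01, mul10, mul11, one00, one01, one10, one11] at h00 h01 h10 h11
  unfold tr
  by_contra hne
  have ha : g.1 0 0 = 0 := by
    have : g.1 0 0 * (g.1 0 0 + g.1 1 1) = 0 := by linear_combination h00 + hd + h2
    rcases mul_eq_zero.1 this with h | h
    · exact h
    · exact absurd h hne
  have hb : g.1 0 1 = 0 := by
    have : g.1 0 1 * (g.1 0 0 + g.1 1 1) = 0 := by linear_combination h01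
    rcases mul_eq_zero.1 this with h | h
    · exact h
    · exact absurd h hne
  rw [ha, hb] at hd
  simp at hd

theorem tr_ne_zero_of_sq (h2 : (2 : F) = 0) (g : SL(2, F)) (hg : g ^ 2 ≠ 1) : tr g ≠ 0 := by
  intro ht
  apply hg
  rw [pow_two]
  exact mul_self_eq_one_of_tr h2 g ht

/-- No element of order `4`. -/
theorem sq_eq_one_of_pow_four (h2 : (2 : F) = 0) (g : SL(2, F)) (hg : g ^ 4 = 1) : g ^ 2 = 1 := by
  have h1 : (g * g) * (g * g) = 1 := by
    rw [← hg]; simp only [pow_succ, pow_zero, one_mul, mul_assoc]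
  have h3 := tr_of_mul_self_eq_one h2 _ h1
  rw [tr_mul_self] at h3
  have h4 : tr g ^ 2 = 0 := by linear_combination h3 + h2
  have h5 : tr g = 0 := by simpa using h4
  rw [pow_two]
  exact mul_self_eq_one_of_tr h2 g h5

/-! ### Centralisers -/

theorem card_centralizer_SL (h2 : (2 : F) = 0) (g : SL(2, F)) (hg1 : g ≠ 1) :
    (tr g ≠ 0 → (Nat.card (Subgroup.centralizer ({g} : Set SL(2, F))) = Fintype.card F - 1 ∨
      Nat.card (Subgroup.centralizer ({g} : Set SL(2, F))) = Fintype.card F + 1)) ∧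
    (tr g = 0 → Nat.card (Subgroup.centralizer ({g} : Set SL(2, F))) = Fintype.card F) := by
  classical
  have hns : Cfsg.Agent.H64.PSL2Even.Nonscalar g := by
    by_contra h
    exact hg1 (Cfsg.Agent.H64.PSL2Even.eq_one_of_not_nonscalar h2 g h)
  have hc := Cfsg.Agent.H64.PSL2Even.card_centralizer g hns
  have hcon := Cfsg.Agent.H64.PSL2Even.card_conic_one h2 (g.1 0 0 + g.1 1 1)
  constructor
  · intro ht
    have ht' : g.1 0 0 + g.1 1 1 ≠ 0 := ht
    rcases Cfsg.Agent.H64.PSL2Even.qroots_cases h2 ht' with h | h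
    · right; rw [hc]; omega
    · left; rw [hc]; omega
  · intro ht
    have ht' : g.1 0 0 + g.1 1 1 = 0 := ht
    rw [ht'] at hcon
    rw [Cfsg.Agent.H64.PSL2Even.qroots_zero h2] at hcon
    rw [hc, ht']; omega

theorem card_centralizer_mkP (he : Even (Fintype.card F)) (g : SL(2, F)) :
    Nat.card (Subgroup.centralizer ({mkP F g} : Set PSL(2, F))) =
      Nat.card (Subgroup.centralizer ({g} : Set SL(2, F))) := by
  symm
  apply Nat.card_congr
  refine Equiv.subtypeEquiv (Equiv.ofBijective (mkP F) ⟨mkP_injective he, mkP_surjective⟩) ?_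
  intro c
  show c ∈ Subgroup.centralizer ({g} : Set SL(2, F)) ↔
    mkP F c ∈ Subgroup.centralizer ({mkP F g} : Set PSL(2, F))
  rw [Subgroup.mem_centralizer_singleton_iff, Subgroup.mem_centralizer_singleton_iff,
    ← map_mul, ← map_mul]
  exact ⟨fun h => by rw [h], fun h => mkP_injective he h⟩

/-- Centraliser orders in `PSL(2, q)`, `q` even. -/
theorem card_centralizer_PSL (he : Even (Fintype.card F)) (X : PSL(2, F)) (hX : X ≠ 1) :
    (X ^ 2 ≠ 1 → (Nat.card (Subgroup.centralizer ({X} : Set PSL(2, F))) = Fintype.card F - 1 ∨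
      Nat.card (Subgroup.centralizer ({X} : Set PSL(2, F))) = Fintype.card F + 1)) ∧
    (X ^ 2 = 1 → Nat.card (Subgroup.centralizer ({X} : Set PSL(2, F))) = Fintype.card F) := by
  have h2 := two_eq_zero he
  obtain ⟨g, rfl⟩ := mkP_surjective X
  have hg1 : g ≠ 1 := by
    rintro rfl
    exact hX (map_one _)
  rw [card_centralizer_mkP he]
  obtain ⟨hA, hB⟩ := card_centralizer_SL h2 g hg1
  constructor
  · intro hsq
    apply hA
    apply tr_ne_zero_of_sq h2
    intro h
    apply hsq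
    rw [← map_pow, h, map_one]
  · intro hsq
    apply hB
    apply tr_of_mul_self_eq_one h2
    rw [← map_pow, ← map_one (mkP F)] at hsq
    have := mkP_injective he hsq
    rwa [pow_two] at this

theorem sq_eq_one_of_pow_four_PSL (he : Even (Fintype.card F)) (X : PSL(2, F)) (hX : X ^ 4 = 1) :
    X ^ 2 = 1 := by
  obtain ⟨g, rfl⟩ := mkP_surjective X
  rw [← map_pow, ← map_one (mkP F)] at hX
  have := sq_eq_one_of_pow_four (two_eq_zero he) g (mkP_injective he hX)
  rw [← map_pow, this, map_one]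

/-! ### Simplicity -/

theorem simple_PSL2 (h4 : 4 ≤ Fintype.card F) : IsSimpleGroup PSL(2, F) :=
  Matrix.ProjectiveSpecialLinearGroup.rank_two_simple
    (by rw [Nat.card_eq_fintype_card]; exact h4)

theorem noncomm_PSL2 : ¬ ∀ a b : PSL(2, F), a * b = b * a := by
  intro h
  have hc := h (mkP F (uT 1)) (mkP F (lT 1))
  rw [← map_mul, ← map_mul, mkP_eq_iff, mem_Ze] at hc
  have h1 := hc.1
  simp only [mul10, mul00, inv10, inv11, uT00, uT01, uT10, uT11,
    lT00, lT01, lT10, lT11] at h1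
  norm_num at h1

/-! ### Sylow `2`-subgroups -/

theorem Bo_map_le_normalizer :
    (Bo : Subgroup SL(2, F)).map (mkP F) ≤
      Subgroup.normalizer (((Un : Subgroup SL(2, F)).map (mkP F) : Subgroup PSL(2, F)) :
        Set PSL(2, F)) := by
  rintro y ⟨b, hb, rfl⟩
  rw [Subgroup.mem_normalizer_iff]
  intro h
  constructor
  · rintro ⟨u, hu, rfl⟩
    refine ⟨b * u * b⁻¹, conj_mem_Un hb hu, ?_⟩
    simp
  · rintro ⟨u, hu, hue⟩
    refine ⟨b⁻¹ * u * b⁻¹⁻¹, conj_mem_Un (Subgroup.inv_mem _ hb) hu, ?_⟩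
    rw [map_mul, map_mul, hue]
    simp
    group

theorem sylow_facts (he : Even (Fintype.card F)) (P : Sylow 2 PSL(2, F)) :
    (∀ x ∈ (P : Subgroup PSL(2, F)), x * x = 1) ∧
      Nat.card (P : Subgroup PSL(2, F)) = Fintype.card F ∧
      Nat.card (Subgroup.normalizer ((P : Subgroup PSL(2, F)) : Set PSL(2, F))) =
        Fintype.card F * (Fintype.card F - 1) := by
  have h2 := two_eq_zero he
  haveI : CharP F 2 := CharTwo.of_one_ne_zero_of_two_eq_zero one_ne_zero h2
  obtain ⟨P₀, hP₀⟩ := sylow_Un (F := F) 2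
  have hsq₀ : ∀ x ∈ (P₀ : Subgroup PSL(2, F)), x * x = 1 := by
    intro x hx
    rw [hP₀] at hx
    obtain ⟨u, hu, rfl⟩ := hx
    have h1 : u ^ 2 = 1 := pow_p_of_mem_Un (p := 2) hu
    rw [← map_mul, ← pow_two, h1, map_one]
  have hcard₀ : Nat.card (P₀ : Subgroup PSL(2, F)) = Fintype.card F := by
    rw [hP₀, Subgroup.card_map_of_injective (mkP_injective he), card_Un]
  have hnorm₀ : Nat.card (Subgroup.normalizer ((P₀ : Subgroup PSL(2, F)) : Set PSL(2, F))) =
      Fintype.card F * (Fintype.card F - 1) := by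
    apply le_antisymm
    · have := card_normalizer_sylow_le (F := F) 2 P₀
      rwa [gcd_eq_one he, one_mul] at this
    · have h1 := card_Bo_map (F := F)
      rw [gcd_eq_one he, one_mul] at h1
      rw [← h1, hP₀]
      exact Nat.card_mono (Set.toFinite _) Bo_map_le_normalizer
  obtain ⟨g, hg⟩ := Cfsg.Agent.H7.sylow_exists_conj P P₀
  refine ⟨?_, ?_, ?_⟩
  · intro x hx
    have h1 := hsq₀ _ ((hg x).mp hx)
    calc x * x = g * ((g⁻¹ * x * g) * (g⁻¹ * x * g)) * g⁻¹ := by group
      _ = 1 := by rw [h1]; group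
  · rw [← hcard₀]
    exact Nat.card_congr (Sylow.equiv P P₀).toEquiv
  · rw [← hnorm₀]
    apply Nat.card_congr
    refine Equiv.subtypeEquiv (MulAut.conj g⁻¹).toEquiv ?_
    intro y
    have := Cfsg.Agent.H7.mem_normalizer_conj (P : Subgroup PSL(2, F)) (P₀ : Subgroup PSL(2, F))
      g hg y
    simpa using this

theorem cent_eq_sylow (he : Even (Fintype.card F)) (P : Sylow 2 PSL(2, F)) {z : PSL(2, F)}
    (hz : z ∈ (P : Subgroup PSL(2, F))) (hz1 : z ≠ 1) :
    Subgroup.centralizer ({z} : Set PSL(2, F)) = (P : Subgroup PSL(2, F)) := by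
  obtain ⟨hsq, hcard, -⟩ := sylow_facts he P
  have hle : (P : Subgroup PSL(2, F)) ≤ Subgroup.centralizer ({z} : Set PSL(2, F)) := by
    intro y hy
    rw [Subgroup.mem_centralizer_singleton_iff]
    have h1 := hsq _ (Subgroup.mul_mem _ hy hz)
    have hyi : y⁻¹ = y := inv_eq_of_mul_eq_one_left (hsq y hy)
    have hzi : z⁻¹ = z := inv_eq_of_mul_eq_one_left (hsq z hz)
    have h3 : y * z = (y * z)⁻¹ := (inv_eq_of_mul_eq_one_left h1).symm
    rw [h3, _root_.mul_inv_rev, hyi, hzi]
  symm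
  apply Subgroup.eq_of_le_of_card_ge hle
  rw [hcard, (card_centralizer_PSL he z hz1).2 (by rw [pow_two]; exact hsq z hz)]

/-- A maximal subgroup normalising a non-trivial `2`-subgroup is a Sylow normaliser. -/
theorem card_of_normalizes (he : Even (Fintype.card F)) (h4 : 4 ≤ Fintype.card F)
    (M : Subgroup PSL(2, F)) (hM : IsCoatom M) (N : Subgroup PSL(2, F)) (hN2 : IsPGroup 2 N)
    (hN1 : N ≠ ⊥) (hMN : M ≤ Subgroup.normalizer (N : Set PSL(2, F))) :
    Nat.card M = Fintype.card F * (Fintype.card F - 1) := by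
  haveI := simple_PSL2 (F := F) h4
  obtain ⟨P, hP⟩ := hN2.exists_le_sylow
  obtain ⟨z, hzN, hz1⟩ : ∃ z ∈ N, z ≠ 1 := by
    by_contra h
    push Not at h
    exact hN1 ((Subgroup.eq_bot_iff_forall N).mpr h)
  obtain ⟨hsq, hcard, hnorm⟩ := sylow_facts he P
  have key : ∀ m ∈ M, ∀ y ∈ (P : Subgroup PSL(2, F)), m * y * m⁻¹ ∈ (P : Subgroup PSL(2, F)) := by
    intro m hm y hy
    have hz' : m * z * m⁻¹ ∈ N := (Subgroup.mem_normalizer_iff.mp (hMN hm) z).mp hzN
    have hz'1 : m * z * m⁻¹ ≠ 1 := by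
      intro h
      apply hz1
      have e : z = m⁻¹ * (m * z * m⁻¹) * m := by group
      rw [e, h]; group
    have hy' : y ∈ Subgroup.centralizer ({z} : Set PSL(2, F)) := by
      rw [cent_eq_sylow he P (hP hzN) hz1]; exact hy
    have hyz := Subgroup.mem_centralizer_singleton_iff.mp hy'
    rw [← cent_eq_sylow he P (hP hz') hz'1, Subgroup.mem_centralizer_singleton_iff]
    calc m * y * m⁻¹ * (m * z * m⁻¹) = m * (y * z) * m⁻¹ := by group
      _ = m * (z * y) * m⁻¹ := by rw [hyz]
      _ = m * z * m⁻¹ * (m * y * m⁻¹) := by group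
  have hMP : M ≤ Subgroup.normalizer ((P : Subgroup PSL(2, F)) : Set PSL(2, F)) := by
    intro m hm
    rw [Subgroup.mem_normalizer_iff]
    intro y
    constructor
    · exact key m hm y
    · intro h
      have h1 := key m⁻¹ (M.inv_mem hm) _ h
      have e : m⁻¹ * (m * y * m⁻¹) * m⁻¹⁻¹ = y := by group
      rwa [e] at h1
  have hPbot : (P : Subgroup PSL(2, F)) ≠ ⊥ := by
    intro h
    have := hP hzN
    rw [h, Subgroup.mem_bot] at this
    exact hz1 this
  have hPtop : (P : Subgroup PSL(2, F)) ≠ ⊤ := by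
    intro h
    rw [h, Subgroup.card_top, card_PSL2_even he] at hcard
    have hq : 4 ≤ Fintype.card F := h4
    have h1 : 2 ≤ Fintype.card F ^ 2 - 1 := by
      have : 16 ≤ Fintype.card F ^ 2 := by nlinarith
      omega
    have h3 : Fintype.card F * 2 ≤ Fintype.card F * (Fintype.card F ^ 2 - 1) :=
      Nat.mul_le_mul_left _ h1
    omega
  have hN := normalizer_eq_of_coatom hM hPbot hPtop hMP
  rw [← hnorm]
  rw [hN]

theorem card_of_hasN2 (he : Even (Fintype.card F)) (h4 : 4 ≤ Fintype.card F)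
    (M : Subgroup PSL(2, F)) (hM : IsCoatom M) (h : HasN2 M) :
    Nat.card M = Fintype.card F * (Fintype.card F - 1) := by
  obtain ⟨N, hN, hne, hp⟩ := h
  refine card_of_normalizes he h4 M hM (N.map M.subtype) (hp.map _) ?_ ?_
  · intro hbot
    apply hne
    exact (Subgroup.map_eq_bot_iff_of_injective N M.subtype_injective).mp hbot
  · intro m hm
    rw [Subgroup.mem_normalizer_iff]
    intro y
    constructor
    · rintro ⟨n, hn, rfl⟩
      exact ⟨⟨m, hm⟩ * n * ⟨m, hm⟩⁻¹, hN.conj_mem n hn ⟨m, hm⟩, by simp⟩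
    · rintro ⟨n, hn, hny⟩
      refine ⟨⟨m, hm⟩⁻¹ * n * ⟨m, hm⟩, ?_, ?_⟩
      · have := hN.conj_mem n hn ⟨m, hm⟩⁻¹
        simpa using this
      · simp only [Subgroup.coe_subtype, Subgroup.coe_mul, Subgroup.coe_inv] at hny ⊢
        rw [hny]; group

end Cfsg.Agent.H64.MX
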