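import Mathlib
import Cfsg.Agent.H64.MX2

/-!
# Subfield subgroups of `SL(2, q)`, `q` even, are maximal only for prime degree (helper64)
-/

set_option autoImplicit false
set_option linter.unusedSectionVars false
set_option linter.unusedVariables false
set_option linter.style.haveILetI false

namespace Cfsg.Agent.H64.MX

open Matrix Cfsg.Agent.H65.SL2 Cfsg.Agent.H29.Dk Cfsg.Agent.H18.Dk
open scoped MatrixGroups

theorem isCoatom_map {G H : Type*} [Group G] [Group H] (f : G ≃* H) {L : Subgroup G}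
    (hL : IsCoatom L) : IsCoatom (L.map f.toMonoidHom) :=
  (f.mapSubgroup.isCoatom_iff L).mpr hL

theorem fact_two (a m : ℕ) (hm : ¬ 2 ∣ m) : (2 ^ a * m).factorization 2 = a := by
  have hm0 : m ≠ 0 := by rintro rfl; exact hm (dvd_zero 2)
  rw [Nat.factorization_mul (pow_ne_zero a two_ne_zero) hm0, Finsupp.add_apply,
    Nat.Prime.factorization_pow Nat.prime_two, Finsupp.single_eq_same,
    Nat.factorization_eq_zero_of_not_dvd hm, add_zero]

variable {F : Type*} [Field F] [Fintype F]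

/-! ### Structure from the counting hypothesis (after helper18's `dk_unip`) -/

theorem struct_of_hcard (L : Subgroup SL(2, F)) (h1 : uT (1 : F) ∈ L)
    (hLB : ¬ L ≤ (Bo : Subgroup _))
    (hcard : Nat.card L =
      (Nat.card (L ⊓ Un : Subgroup _) + 1) * Nat.card (L ⊓ Bo : Subgroup _)) :
    ∃ ω₀ : F, ∃ K : Subfield F,
      (∀ k ∈ K, uT k ∈ L.map (MulAut.conj (uT (-ω₀))).toMonoidHom ∧
        lT k ∈ L.map (MulAut.conj (uT (-ω₀))).toMonoidHom) ∧
      (∀ x ∈ L.map (MulAut.conj (uT (-ω₀))).toMonoidHom, ∃ ν : F, ν ≠ 0 ∧ x.1 0 0 * ν ∈ K ∧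
        x.1 0 1 * ν ∈ K ∧ x.1 1 0 * ν ∈ K ∧ x.1 1 1 * ν ∈ K) ∧
      (∀ a, uT a ∈ L.map (MulAut.conj (uT (-ω₀))).toMonoidHom → a ∈ K) := by
  obtain ⟨g₀, hg₀L, hg₀B⟩ := SetLike.not_le_iff_exists.1 hLB
  have hg10 : g₀.1 1 0 ≠ 0 := fun h => hg₀B (mem_Bo.2 h)
  have hDsub : Dc L g₀ ⊆ (L : Set (Matrix.SpecialLinearGroup (Fin 2) F)) \
      ((L ⊓ Bo : Subgroup _) : Set (Matrix.SpecialLinearGroup (Fin 2) F)) := fun x hx =>
    ⟨Dc_subset L hg₀L hx, fun hxB => Dc_not_Bo L hg₀B hx (Subgroup.mem_inf.1 hxB).2⟩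
  have hDeq : Dc L g₀ = (L : Set (Matrix.SpecialLinearGroup (Fin 2) F)) \
      ((L ⊓ Bo : Subgroup _) : Set (Matrix.SpecialLinearGroup (Fin 2) F)) := by
    apply Set.eq_of_subset_of_ncard_le hDsub _ (Set.toFinite _)
    rw [Dc_card L hg₀B, Set.ncard_diff (fun x hx => (Subgroup.mem_inf.1 hx).1)]
    have e1 : ((L : Set (Matrix.SpecialLinearGroup (Fin 2) F))).ncard = Nat.card L := rfl
    have e2 : ((L ⊓ Bo : Subgroup _) : Set (Matrix.SpecialLinearGroup (Fin 2) F)).ncard =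
        Nat.card (L ⊓ Bo : Subgroup _) := rfl
    rw [e1, e2, hcard, Nat.add_mul, one_mul, Nat.add_sub_cancel]
  have hrel : ∀ x ∈ L, x.1 1 0 ≠ 0 → ∃ s, uT s ∈ L ∧
      x.1 0 0 * g₀.1 1 0 - g₀.1 0 0 * x.1 1 0 = s * g₀.1 1 0 * x.1 1 0 := by
    intro x hx hx10
    have hxD : x ∈ Dc L g₀ := by
      rw [hDeq]
      exact ⟨hx, fun h => hx10 (mem_Bo.1 (Subgroup.mem_inf.1 h).2)⟩
    exact Dc_rel L hxD
  obtain ⟨ω₀, hω₀⟩ : ∃ ω₀ : F, ω₀ = g₀.1 0 0 / g₀.1 1 0 := ⟨_, rfl⟩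
  refine ⟨ω₀, ?_⟩
  have hconj : ∀ x : Matrix.SpecialLinearGroup (Fin 2) F,
      (MulAut.conj (uT (-ω₀))) x = uT (-ω₀) * x * uT ω₀ := by
    intro x
    rw [MulAut.conj_apply, Cfsg.Agent.H29.Dk.uT_neg, inv_inv]
  have hmem : ∀ x ∈ L, uT (-ω₀) * x * uT ω₀ ∈ L.map (MulAut.conj (uT (-ω₀))).toMonoidHom :=
    fun x hx => ⟨x, hx, hconj x⟩
  have hfix : ∀ s : F, uT (-ω₀) * uT s * uT ω₀ = uT s := by
    intro s
    rw [← uT_add, ← uT_add]
    congr 1
    ring
  have h00 : ∀ x : Matrix.SpecialLinearGroup (Fin 2) F,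
      (uT (-ω₀) * x * uT ω₀).1 0 0 = x.1 0 0 - ω₀ * x.1 1 0 := by
    intro x
    simp only [mul00, mul01, mul10, mul11, uT00, uT01, uT10, uT11]
    ring
  have h10 : ∀ x : Matrix.SpecialLinearGroup (Fin 2) F,
      (uT (-ω₀) * x * uT ω₀).1 1 0 = x.1 1 0 := by
    intro x
    simp only [mul00, mul01, mul10, mul11, uT00, uT01, uT10, uT11]
    ring
  refine field_str _ (by rw [← hfix 1]; exact hmem _ h1) (hmem g₀ hg₀L) ?_ ?_
  · rw [h00, hω₀]
    field_simp
    ring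
  · rintro x' ⟨x, hx, rfl⟩ hx10
    have hx' : (MulAut.conj (uT (-ω₀))).toMonoidHom x = uT (-ω₀) * x * uT ω₀ := hconj x
    rw [hx'] at hx10 ⊢
    rw [h10] at hx10
    obtain ⟨s, hs, hrel'⟩ := hrel x hx hx10
    refine ⟨s, by rw [← hfix s]; exact hmem _ hs, ?_⟩
    rw [h00, h10, hω₀]
    field_simp
    linear_combination hrel'

/-! ### Matrices rational over a subfield, up to scalars -/

/-- Elements of `SL(2, F)` which are `K'`-rational up to a scalar. -/
def ratSub (K' : Subfield F) : Subgroup SL(2, F) where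
  carrier := {x | ∃ ν : F, ν ≠ 0 ∧ x.1 0 0 * ν ∈ K' ∧ x.1 0 1 * ν ∈ K' ∧ x.1 1 0 * ν ∈ K' ∧
    x.1 1 1 * ν ∈ K'}
  mul_mem' := by
    rintro a b ⟨ν, hν, a00, a01, a10, a11⟩ ⟨μ, hμ, b00, b01, b10, b11⟩
    refine ⟨ν * μ, mul_ne_zero hν hμ, ?_, ?_, ?_, ?_⟩
    · rw [mul00]
      have := K'.add_mem (K'.mul_mem a00 b00) (K'.mul_mem a01 b10)
      convert this using 1; ring
    · rw [mul01]
      have := K'.add_mem (K'.mul_mem a00 b01) (K'.mul_mem a01 b11)
      convert this using 1; ring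
    · rw [mul10]
      have := K'.add_mem (K'.mul_mem a10 b00) (K'.mul_mem a11 b10)
      convert this using 1; ring
    · rw [mul11]
      have := K'.add_mem (K'.mul_mem a10 b01) (K'.mul_mem a11 b11)
      convert this using 1; ring
  one_mem' := by
    refine ⟨1, one_ne_zero, ?_, ?_, ?_, ?_⟩
    · rw [one00, mul_one]; exact K'.one_mem
    · rw [one01, zero_mul]; exact K'.zero_mem
    · rw [one10, zero_mul]; exact K'.zero_mem
    · rw [one11, mul_one]; exact K'.one_mem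
  inv_mem' := by
    rintro a ⟨ν, hν, a00, a01, a10, a11⟩
    refine ⟨ν, hν, ?_, ?_, ?_, ?_⟩
    · rw [inv00]; exact a11
    · rw [inv01, neg_mul]; exact K'.neg_mem a01
    · rw [inv10, neg_mul]; exact K'.neg_mem a10
    · rw [inv11]; exact a00

theorem uT_mem_ratSub_iff (K' : Subfield F) (z : F) : uT z ∈ ratSub K' ↔ z ∈ K' := by
  constructor
  · rintro ⟨ν, hν, h00, h01, -, -⟩
    rw [uT00, one_mul] at h00
    rw [uT01] at h01
    have := K'.mul_mem h01 (K'.inv_mem h00)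
    rwa [mul_assoc, mul_inv_cancel₀ hν, mul_one] at this
  · intro hz
    refine ⟨1, one_ne_zero, ?_, ?_, ?_, ?_⟩
    · rw [uT00, mul_one]; exact K'.one_mem
    · rw [uT01, mul_one]; exact hz
    · rw [uT10, zero_mul]; exact K'.zero_mem
    · rw [uT11, mul_one]; exact K'.one_mem

/-! ### Intermediate fields -/

theorem exists_intermediate (h2 : (2 : F) = 0) (K : Subfield F) (a b : ℕ) (ha : 2 ≤ a)
    (hb : 2 ≤ b) (hq : Fintype.card F = Nat.card K ^ (a * b)) :
    ∃ K' : Subfield F, K ≤ K' ∧ (∃ y ∈ K', y ∉ K) ∧ (∃ z : F, z ∉ K') := by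
  classical
  haveI : CharP F 2 := CharTwo.of_one_ne_zero_of_two_eq_zero one_ne_zero h2
  haveI : Fact (Nat.Prime 2) := ⟨Nat.prime_two⟩
  haveI : Fintype K := Fintype.ofFinite K
  obtain ⟨q₀, hq₀⟩ : ∃ q₀, q₀ = Nat.card K := ⟨_, rfl⟩
  rw [← hq₀] at hq
  have hq₀2 : 2 ≤ q₀ := by
    rw [hq₀, Nat.card_eq_fintype_card]; exact Fintype.one_lt_card
  obtain ⟨f, -, hf⟩ := FiniteField.card F 2
  have hab0 : a * b ≠ 0 := by positivity
  have hdvd : q₀ ∣ 2 ^ (f : ℕ) := by
    rw [← hf, hq]; exact dvd_pow_self _ hab0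
  obtain ⟨e, -, he⟩ := (Nat.dvd_prime_pow Nat.prime_two).mp hdvd
  have hN : q₀ ^ a = 2 ^ (e * a) := by rw [he, pow_mul]
  let K' : Subfield F := (iterateFrobenius F 2 (e * a)).eqLocusField (RingHom.id F)
  have hmem : ∀ x : F, x ∈ K' ↔ x ^ (q₀ ^ a) = x := by
    intro x
    show iterateFrobenius F 2 (e * a) x = RingHom.id F x ↔ _
    rw [iterateFrobenius_def, hN]; rfl
  have hpowK : ∀ x ∈ K, x ^ q₀ = x := by
    intro x hx
    have h := FiniteField.pow_card (⟨x, hx⟩ : K)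
    rw [← Nat.card_eq_fintype_card, ← hq₀] at h
    have := congrArg Subtype.val h
    simpa using this
  have hKK' : K ≤ K' := by
    intro x hx
    rw [hmem]
    have : ∀ n : ℕ, x ^ (q₀ ^ n) = x := by
      intro n
      induction n with
      | zero => simp
      | succ n ih => rw [pow_succ, pow_mul, ih, hpowK x hx]
    exact this a
  obtain ⟨ζ, hζ⟩ := IsCyclic.exists_generator (α := Fˣ)
  have hord : orderOf ζ = Fintype.card F - 1 := by
    rw [orderOf_eq_card_of_forall_mem_zpowers hζ, Nat.card_units, Nat.card_eq_fintype_card]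
  have hNlt : q₀ ^ a < Fintype.card F := by
    rw [hq]; exact Nat.pow_lt_pow_right (by omega) (by nlinarith)
  have hN4 : 4 ≤ q₀ ^ a := by
    calc 4 = 2 ^ 2 := by norm_num
      _ ≤ q₀ ^ 2 := Nat.pow_le_pow_left hq₀2 2
      _ ≤ q₀ ^ a := Nat.pow_le_pow_right (by omega) ha
  refine ⟨K', hKK', ?_, ?_⟩
  · have hd : q₀ ^ a - 1 ∣ Fintype.card F - 1 := by
      rw [hq]; exact Nat.pow_sub_one_dvd_pow_sub_one q₀ (Dvd.intro b rfl)
    obtain ⟨d, hd'⟩ := hd
    refine ⟨((ζ ^ d : Fˣ) : F), ?_, ?_⟩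
    · rw [hmem]
      have h1 : (ζ ^ d) ^ (q₀ ^ a - 1) = 1 := by
        rw [← pow_mul, mul_comm, ← hd', ← hord]; exact pow_orderOf_eq_one ζ
      have h3 : (ζ ^ d) ^ (q₀ ^ a) = ζ ^ d := by
        have : q₀ ^ a = (q₀ ^ a - 1) + 1 := by omega
        rw [this, pow_succ, h1, one_mul]
      have := congrArg (fun u : Fˣ => (u : F)) h3
      simpa using this
    · intro hyK
      have hy0 : ((ζ ^ d : Fˣ) : F) ≠ 0 := Units.ne_zero _
      have h := FiniteField.pow_card_sub_one_eq_one (⟨_, hyK⟩ : K) (by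
        intro h0; exact hy0 (congrArg Subtype.val h0))
      rw [← Nat.card_eq_fintype_card, ← hq₀] at h
      have h' : ((ζ ^ d : Fˣ) : F) ^ (q₀ - 1) = 1 := by
        have := congrArg Subtype.val h
        simpa using this
      have h'' : (ζ ^ d) ^ (q₀ - 1) = 1 := by
        apply Units.ext
        simpa using h'
      rw [← pow_mul] at h''
      have hdv := orderOf_dvd_of_pow_eq_one h''
      rw [hord, hd'] at hdv
      have hdpos : 0 < d := by
        rcases Nat.eq_zero_or_pos d with h0 | h0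
        · rw [h0, mul_zero] at hd'; omega
        · exact h0
      have h5 : q₀ ^ a - 1 ∣ q₀ - 1 := by
        have : d * (q₀ ^ a - 1) ∣ d * (q₀ - 1) := by rwa [mul_comm d (q₀ ^ a - 1)]
        exact Nat.dvd_of_mul_dvd_mul_left hdpos this
      have h6 := Nat.le_of_dvd (by omega) h5
      have h7 : q₀ ^ 2 ≤ q₀ ^ a := Nat.pow_le_pow_right (by omega) ha
      have h8 : q₀ * 2 ≤ q₀ ^ 2 := by rw [sq]; exact Nat.mul_le_mul_left q₀ hq₀2
      omega
  · refine ⟨(ζ : F), ?_⟩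
    rw [hmem]
    intro h
    have h1 : ζ ^ (q₀ ^ a) = ζ := by apply Units.ext; simpa using h
    have h2' : ζ ^ (q₀ ^ a - 1) = 1 := by
      have : q₀ ^ a = (q₀ ^ a - 1) + 1 := by omega
      rw [this, pow_succ] at h1
      exact mul_right_cancel (b := ζ) (by rw [h1, one_mul])
    have hdv := orderOf_dvd_of_pow_eq_one h2'
    rw [hord] at hdv
    have := Nat.le_of_dvd (by omega) hdv
    omega

/-! ### `2`-elements -/

theorem sq_eq_one_of_two_pow (h2 : (2 : F) = 0) (g : SL(2, F)) (k : ℕ)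
    (h : g ^ (2 ^ (k + 1)) = 1) : g ^ 2 = 1 := by
  induction k with
  | zero => simpa using h
  | succ k ih =>
    apply ih
    have h4 : (g ^ (2 ^ k)) ^ 4 = 1 := by
      rw [← pow_mul, ← h]; congr 1; ring
    have := sq_eq_one_of_pow_four h2 _ h4
    rw [← pow_mul] at this
    rw [← this]; congr 1

theorem mem_Un_of_comm_uT (h2 : (2 : F) = 0) (y : SL(2, F)) (h : uT (1 : F) * y = y * uT 1) :
    y ∈ (Un : Subgroup SL(2, F)) := by
  have h1 := mem_UZ_of_comm (uT_mem_Un (1 : F)) (uT_ne_one one_ne_zero) h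
  rw [mem_UZ] at h1
  rw [mem_Un]
  refine ⟨h1.1, ?_⟩
  have hd := det_eq y
  rw [h1.1, ← h1.2] at hd
  have h3 : (y.1 0 0 - 1) ^ 2 = 0 := by linear_combination hd + (1 - y.1 0 0) * h2
  have h4 : y.1 0 0 - 1 = 0 := by simpa using h3
  exact sub_eq_zero.mp h4


/-! ### The subfield case -/

theorem card_inf_eq_subgroupOf {G : Type*} [Group G] (L H : Subgroup G) :
    Nat.card (L ⊓ H : Subgroup G) = Nat.card (H.subgroupOf L) := by
  rw [inf_comm, ← Subgroup.subgroupOf_map_subtype,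
    Subgroup.card_map_of_injective L.subtype_injective]

theorem conj_uT_fix (ω s : F) : (MulAut.conj (uT (-ω))) (uT s) = uT s := by
  rw [MulAut.conj_apply, ← uT_add, neg_add_eq_sub, sub_eq_add_neg, uT_add, mul_inv_cancel_right]

theorem uT_mem_conj_iff (L : Subgroup SL(2, F)) (ω s : F) :
    uT s ∈ L.map (MulAut.conj (uT (-ω))).toMonoidHom ↔ uT s ∈ L := by
  constructor
  · rintro ⟨y, hy, hyu⟩
    have h1 : (MulAut.conj (uT (-ω))) y = (MulAut.conj (uT (-ω))) (uT s) := by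
      rw [conj_uT_fix]; exact hyu
    have h2 := (MulAut.conj (uT (-ω))).injective h1
    rwa [← h2]
  · intro h
    exact ⟨uT s, h, conj_uT_fix ω s⟩

theorem field_case_aux (he : Even (Fintype.card F)) (L : Subgroup SL(2, F)) (hL : IsCoatom L)
    (h1 : uT (1 : F) ∈ L) {K₀ : Type*} [Field K₀] [Fintype K₀] (he0 : Even (Fintype.card K₀))
    (e : L ≃* PSL(2, K₀)) :
    ∃ r : ℕ, r.Prime ∧ Fintype.card F = Fintype.card K₀ ^ r := by
  classical
  have h2 := two_eq_zero he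
  haveI : CharP F 2 := CharTwo.of_one_ne_zero_of_two_eq_zero one_ne_zero h2
  haveI : Fact (Nat.Prime 2) := ⟨Nat.prime_two⟩
  obtain ⟨q₀, hq₀⟩ : ∃ q₀, q₀ = Fintype.card K₀ := ⟨_, rfl⟩
  have hq₀2 : 2 ≤ q₀ := by rw [hq₀]; exact Fintype.one_lt_card
  have hLcard : Nat.card L = q₀ * (q₀ ^ 2 - 1) := by
    rw [Nat.card_congr e.toEquiv, card_PSL2_even he0, hq₀]
  -- a Sylow 2-subgroup of `L` containing `uT 1`
  have hu1sq' : (uT (1 : F)) ^ 2 = 1 := pow_p_of_mem_Un (p := 2) (uT_mem_Un 1)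
  have hu1sq : (⟨uT 1, h1⟩ : L) ^ 2 = 1 := Subtype.ext hu1sq'
  have hu1ne : (⟨uT 1, h1⟩ : L) ≠ 1 := fun h =>
    uT_ne_one (one_ne_zero (α := F)) (congrArg Subtype.val h)
  have hpz : IsPGroup 2 (Subgroup.zpowers (⟨uT 1, h1⟩ : L)) := by
    apply IsPGroup.of_card (n := 1)
    rw [Nat.card_zpowers, pow_one]
    exact orderOf_eq_prime hu1sq hu1ne
  obtain ⟨Q, hQ⟩ := hpz.exists_le_sylow
  have hu1Q : (⟨uT 1, h1⟩ : L) ∈ (Q : Subgroup L) := hQ (Subgroup.mem_zpowers _)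
  obtain ⟨hsq, hPcard, hPnorm⟩ :=
    sylow_facts he0 (Q.mapSurjective (f := e.toMonoidHom) e.surjective)
  have hPcoe : ((Q.mapSurjective (f := e.toMonoidHom) e.surjective : Sylow 2 PSL(2, K₀)) :
      Subgroup PSL(2, K₀)) = (Q : Subgroup L).map e.toMonoidHom := rfl
  rw [hPcoe] at hsq hPcard hPnorm
  have hQcard : Nat.card (Q : Subgroup L) = q₀ := by
    rw [← Subgroup.card_map_of_injective (f := e.toMonoidHom) e.injective, hPcard, hq₀]
  have hQsq : ∀ y ∈ (Q : Subgroup L), y * y = 1 := by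
    intro y hy
    apply e.injective
    rw [map_mul, map_one]
    exact hsq _ ⟨y, hy, rfl⟩
  have hQUn : ∀ y ∈ (Q : Subgroup L), (y : SL(2, F)) ∈ (Un : Subgroup SL(2, F)) := by
    intro y hy
    apply mem_Un_of_comm_uT h2
    have ha := hQsq _ hu1Q
    have hb := hQsq _ hy
    have hc := hQsq _ ((Q : Subgroup L).mul_mem hu1Q hy)
    have hy' : y⁻¹ = y := inv_eq_of_mul_eq_one_left hb
    have ha' : (⟨uT 1, h1⟩ : L)⁻¹ = ⟨uT 1, h1⟩ := inv_eq_of_mul_eq_one_left ha
    have hc' : ((⟨uT 1, h1⟩ : L) * y)⁻¹ = (⟨uT 1, h1⟩ : L) * y := inv_eq_of_mul_eq_one_left hc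
    have hcomm : (⟨uT 1, h1⟩ : L) * y = y * ⟨uT 1, h1⟩ := by
      rw [← hc', _root_.mul_inv_rev, hy', ha']
    exact congrArg Subtype.val hcomm
  have hUnp : IsPGroup 2 ((Un : Subgroup SL(2, F)).subgroupOf L) := by
    intro g
    refine ⟨1, ?_⟩
    apply Subtype.ext
    apply Subtype.ext
    have : ((g : L) : SL(2, F)) ^ 2 = 1 :=
      pow_p_of_mem_Un (p := 2) (Subgroup.mem_subgroupOf.mp g.2)
    simpa using this
  have hQle : (Q : Subgroup L) ≤ (Un : Subgroup SL(2, F)).subgroupOf L := fun y hy =>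
    Subgroup.mem_subgroupOf.mpr (hQUn y hy)
  have hQeq : (Un : Subgroup SL(2, F)).subgroupOf L = (Q : Subgroup L) := Q.is_maximal' hUnp hQle
  have hS : Nat.card (L ⊓ Un : Subgroup SL(2, F)) = q₀ := by
    rw [card_inf_eq_subgroupOf, hQeq, hQcard]
  -- the normalizer
  have hNcard : Nat.card (Subgroup.normalizer ((Q : Subgroup L) : Set L)) = q₀ * (q₀ - 1) := by
    rw [← Subgroup.card_map_of_injective (f := e.toMonoidHom) e.injective,
      Subgroup.map_equiv_normalizer_eq, hPnorm, hq₀]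
  have hNeq : (Bo : Subgroup SL(2, F)).subgroupOf L =
      Subgroup.normalizer ((Q : Subgroup L) : Set L) := by
    ext b
    rw [Subgroup.mem_subgroupOf, Subgroup.mem_normalizer_iff]
    constructor
    · intro hb y
      rw [← hQeq, Subgroup.mem_subgroupOf, Subgroup.mem_subgroupOf]
      constructor
      · intro hy
        exact conj_mem_Un hb hy
      · intro hy
        have h3 := conj_mem_Un (Subgroup.inv_mem _ hb) hy
        have h4 : ((b : SL(2, F)))⁻¹ * ((b * y * b⁻¹ : L) : SL(2, F)) * ((b : SL(2, F)))⁻¹⁻¹ =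
            (y : SL(2, F)) := by
          simp only [Subgroup.coe_mul, Subgroup.coe_inv]
          group
        rwa [h4] at h3
    · intro hb
      have h3 := (hb ⟨uT 1, h1⟩).mp hu1Q
      rw [← hQeq, Subgroup.mem_subgroupOf] at h3
      have h4 : ((b * ⟨uT 1, h1⟩ * b⁻¹ : L) : SL(2, F)) =
          (b : SL(2, F)) * uT 1 * ((b : SL(2, F)))⁻¹ := by
        simp only [Subgroup.coe_mul, Subgroup.coe_inv]
      rw [h4] at h3
      exact mem_Bo_of_conj (uT_mem_Un (1 : F)) (uT_ne_one one_ne_zero) (Un_le_Bo h3)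
  have hB : Nat.card (L ⊓ Bo : Subgroup SL(2, F)) = q₀ * (q₀ - 1) := by
    rw [card_inf_eq_subgroupOf, hNeq, hNcard]
  have hsq1 := sq_sub_one_eq q₀ (by omega)
  have hpos : 0 < q₀ * (q₀ - 1) := Nat.mul_pos (by omega) (by omega)
  have hLB : ¬ L ≤ (Bo : Subgroup SL(2, F)) := by
    intro hle
    have h3 : Nat.card L = q₀ * (q₀ - 1) := by
      rw [← hB, inf_eq_left.mpr hle]
    rw [hLcard, hsq1, ← mul_assoc] at h3
    have h4 : q₀ + 1 = 1 := by
      apply Nat.eq_of_mul_eq_mul_left hpos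
      rw [h3, mul_one]
    omega
  have hcard : Nat.card L =
      (Nat.card (L ⊓ Un : Subgroup _) + 1) * Nat.card (L ⊓ Bo : Subgroup _) := by
    rw [hS, hB, hLcard, hsq1]; ring
  obtain ⟨ω₀, K, hK1, hK2, hK3⟩ := struct_of_hcard L h1 hLB hcard
  have hKiff : ∀ s : F, s ∈ K ↔ uT s ∈ L := by
    intro s
    constructor
    · intro hs
      exact (uT_mem_conj_iff L ω₀ s).mp (hK1 s hs).1
    · intro hs
      exact hK3 s ((uT_mem_conj_iff L ω₀ s).mpr hs)
  have hKcard : Nat.card K = q₀ := by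
    rw [← hS]
    apply Nat.card_eq_of_bijective
      (fun k : K => (⟨uT (k : F), Subgroup.mem_inf.mpr ⟨(hKiff _).mp k.2, uT_mem_Un _⟩⟩ :
        (L ⊓ Un : Subgroup SL(2, F))))
    constructor
    · intro k k' hkk
      apply Subtype.ext
      exact uT_inj (congrArg Subtype.val hkk)
    · rintro ⟨g, hg⟩
      have hgU := (Subgroup.mem_inf.mp hg).2
      have hgL := (Subgroup.mem_inf.mp hg).1
      have hgu := eq_uT_of_mem_Un hgU
      refine ⟨⟨g.1 0 1, (hKiff _).mpr (by rw [← hgu]; exact hgL)⟩, ?_⟩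
      apply Subtype.ext
      exact hgu.symm
  have hFcard : Fintype.card F = q₀ ^ Module.finrank K F := by
    rw [← Nat.card_eq_fintype_card, Module.natCard_eq_pow_finrank (K := K), hKcard]
  have hF2 : 2 ≤ Fintype.card F := Fintype.one_lt_card
  have hm0 : Module.finrank K F ≠ 0 := by
    intro h0
    rw [h0, pow_zero] at hFcard
    omega
  have hm1 : Module.finrank K F ≠ 1 := by
    intro h0
    rw [h0, pow_one] at hFcard
    apply hL.1
    apply Subgroup.eq_top_of_card_eq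
    rw [hLcard, Cfsg.Agent.H44.card_SL2, hFcard]
  by_cases hmp : (Module.finrank K F).Prime
  · exact ⟨_, hmp, by rw [hFcard, hq₀]⟩
  · exfalso
    obtain ⟨a, ⟨b, hab⟩, ha2, halt⟩ := Nat.exists_dvd_of_not_prime2 (by omega) hmp
    have hb2 : 2 ≤ b := by
      by_contra hb
      have : b = 0 ∨ b = 1 := by omega
      rcases this with rfl | rfl
      · rw [mul_zero] at hab; exact hm0 hab
      · rw [mul_one] at hab; omega
    rw [hab, ← hKcard] at hFcard
    obtain ⟨K', hKK', ⟨y, hyK', hyK⟩, z, hz⟩ := exists_intermediate h2 K a b ha2 hb2 hFcard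
    have hL' := isCoatom_map (MulAut.conj (uT (-ω₀))) hL
    have hle : L.map (MulAut.conj (uT (-ω₀))).toMonoidHom ≤ ratSub K' := by
      intro x hx
      obtain ⟨ν, hν, c00, c01, c10, c11⟩ := hK2 x hx
      exact ⟨ν, hν, hKK' c00, hKK' c01, hKK' c10, hKK' c11⟩
    have hlt : L.map (MulAut.conj (uT (-ω₀))).toMonoidHom < ratSub K' := by
      refine lt_of_le_of_ne hle ?_
      intro heq
      have h3 : uT y ∈ ratSub K' := (uT_mem_ratSub_iff K' y).mpr hyK'
      rw [← heq] at h3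
      exact hyK (hK3 y h3)
    have htop := hL'.2 _ hlt
    have h3 : uT z ∈ ratSub K' := by rw [htop]; exact Subgroup.mem_top _
    exact hz ((uT_mem_ratSub_iff K' z).mp h3)

theorem field_case (he : Even (Fintype.card F)) (L : Subgroup SL(2, F)) (hL : IsCoatom L)
    {K₀ : Type*} [Field K₀] [Fintype K₀] (he0 : Even (Fintype.card K₀))
    (e : L ≃* PSL(2, K₀)) :
    ∃ r : ℕ, r.Prime ∧ Fintype.card F = Fintype.card K₀ ^ r := by
  classical
  have h2 := two_eq_zero he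
  haveI : Fact (Nat.Prime 2) := ⟨Nat.prime_two⟩
  have hdvd : 2 ∣ Nat.card L := by
    rw [Nat.card_congr e.toEquiv, card_PSL2_even he0]
    exact Dvd.dvd.mul_right (even_iff_two_dvd.mp he0) _
  obtain ⟨u, hu⟩ := exists_prime_orderOf_dvd_card' 2 hdvd
  have hu1 : (u : SL(2, F)) ≠ 1 := by
    intro h
    have : u = 1 := Subtype.ext h
    rw [this, orderOf_one] at hu
    omega
  have husq : (u : SL(2, F)) * (u : SL(2, F)) = 1 := by
    have h3 : u ^ orderOf u = 1 := pow_orderOf_eq_one u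
    rw [hu] at h3
    have h4 := congrArg Subtype.val h3
    rw [pow_two] at h4
    exact h4
  have hutr : tr (u : SL(2, F)) = 2 := by rw [tr_of_mul_self_eq_one h2 _ husq, h2]
  obtain ⟨g, hg, hgu⟩ := exists_conj_uT (u : SL(2, F)) hutr hu1
  obtain ⟨σ, hσ⟩ : ∃ σ : SL(2, F) ≃* SL(2, F), ∀ x, σ x = conjHom g hg x :=
    ⟨MulEquiv.ofBijective (conjHom g hg) ⟨conjHom_injective g hg,
      Finite.surjective_of_injective (conjHom_injective g hg)⟩, fun x => rfl⟩
  have hL₁ : IsCoatom (L.map σ.symm.toMonoidHom) := isCoatom_map σ.symm hL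
  have h1 : uT (1 : F) ∈ L.map σ.symm.toMonoidHom := by
    refine ⟨u, u.2, ?_⟩
    show σ.symm (u : SL(2, F)) = uT 1
    rw [← hgu, ← hσ, MulEquiv.symm_apply_apply]
  exact field_case_aux he _ hL₁ h1 he0 ((σ.symm.subgroupMap L).symm.trans e)

theorem field_case_PSL (he : Even (Fintype.card F)) (M : Subgroup PSL(2, F)) (hM : IsCoatom M)
    {K₀ : Type*} [Field K₀] [Fintype K₀] (he0 : Even (Fintype.card K₀))
    (e : M ≃* PSL(2, K₀)) :
    ∃ r : ℕ, r.Prime ∧ Fintype.card F = Fintype.card K₀ ^ r := by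
  obtain ⟨eS, -⟩ : ∃ eS : SL(2, F) ≃* PSL(2, F), ∀ x, eS x = mkP F x :=
    ⟨MulEquiv.ofBijective (mkP F) ⟨mkP_injective he, mkP_surjective⟩, fun x => rfl⟩
  exact field_case he (M.map eS.symm.toMonoidHom) (isCoatom_map eS.symm hM) he0
    ((eS.symm.subgroupMap M).symm.trans e)

end Cfsg.Agent.H64.MX
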