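import Mathlib
import Cfsg.Agent.H64.MX3
import Cfsg.Agent.H18.DkF3
import Cfsg.Agent.H3.Dihedral
import Cfsg.Agent.S0252

/-!
# Maximal subgroups of `PSL(2, q)`, `q` even (helper64)
-/

set_option autoImplicit false
set_option linter.unusedSectionVars false
set_option linter.unusedVariables false
set_option linter.style.haveILetI false

namespace Cfsg.Agent.H64.MX

open Matrix Cfsg.Agent.H65.SL2 Cfsg.Agent.H29.Dk Cfsg.Agent.H18.Dk
open scoped MatrixGroups

theorem dih1_comm : ∀ a b : DihedralGroup 1, a * b = b * a := by decide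

theorem dih2_comm : ∀ a b : DihedralGroup 2, a * b = b * a := by decide

theorem psl_equiv_pgl {K : Type*} [Field K] [Fintype K] (he : Even (Fintype.card K)) :
    Nonempty (PSL(2, K) ≃* Matrix.ProjGenLinGroup (Fin 2) K) := by
  have h2 := two_eq_zero he
  haveI : CharP K 2 := CharTwo.of_one_ne_zero_of_two_eq_zero one_ne_zero h2
  refine ⟨MulEquiv.ofBijective Matrix.ProjectiveSpecialLinearGroup.toPGL
    ⟨Matrix.ProjectiveSpecialLinearGroup.toPGL_injective,
     Matrix.ProjectiveSpecialLinearGroup.toPGL_surj_of_roots fun r => ?_⟩⟩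
  obtain ⟨s, hs⟩ := FiniteField.isSquare_of_char_two (ringChar.eq K 2) (r : K)
  have hs0 : s ≠ 0 := by
    rintro rfl
    rw [mul_zero] at hs
    exact r.ne_zero hs
  refine ⟨Units.mk0 s hs0, ?_⟩
  apply Units.ext
  simp [pow_two, hs]

variable {F : Type*} [Field F] [Fintype F]

theorem case_six (he : Even (Fintype.card F)) (h4 : 4 ≤ Fintype.card F)
    (M : Subgroup PSL(2, F)) (hM : IsCoatom M) (hcard : Nat.card M = 6) :
    Nonempty (M ≃* DihedralGroup (Fintype.card F - 1)) := by
  classical
  haveI := simple_PSL2 (F := F) h4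
  haveI : Fact (Nat.Prime 3) := ⟨Nat.prime_three⟩
  haveI : Fact (Nat.Prime 2) := ⟨Nat.prime_two⟩
  obtain ⟨x, hx⟩ := exists_prime_orderOf_dvd_card' (G := M) 3 (by rw [hcard]; norm_num)
  obtain ⟨τ, hτ⟩ := exists_prime_orderOf_dvd_card' (G := M) 2 (by rw [hcard]; norm_num)
  have hx3 : x ^ 3 = 1 := by
    have := pow_orderOf_eq_one x
    rwa [hx] at this
  have hx1 : x ≠ 1 := by
    rintro rfl
    rw [orderOf_one] at hx
    omega
  have hτ2 : τ * τ = 1 := by
    have := pow_orderOf_eq_one τ
    rwa [hτ, pow_two] at this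
  have hidx : (Subgroup.zpowers x).index = 2 := by
    have h := Subgroup.card_mul_index (Subgroup.zpowers x)
    rw [Nat.card_zpowers, hx, hcard] at h
    omega
  have hN : (Subgroup.zpowers x).Normal := Subgroup.normal_of_index_eq_two hidx
  have hX1 : (x : PSL(2, F)) ≠ 1 := fun h => hx1 (Subtype.ext h)
  have hXsq : (x : PSL(2, F)) ^ 2 ≠ 1 := by
    intro h
    have h' : x ^ 2 = 1 := Subtype.ext (by simpa using h)
    have := orderOf_dvd_of_pow_eq_one h'
    rw [hx] at this
    have := Nat.le_of_dvd (by norm_num) this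
    omega
  have hconj : ∀ m ∈ M, m * (x : PSL(2, F)) * m⁻¹ ∈ Subgroup.zpowers (x : PSL(2, F)) := by
    intro m hm
    have h := hN.conj_mem x (Subgroup.mem_zpowers x) ⟨m, hm⟩
    obtain ⟨k, hk⟩ := Subgroup.mem_zpowers_iff.mp h
    refine Subgroup.mem_zpowers_iff.mpr ⟨k, ?_⟩
    have := congrArg Subtype.val hk
    simpa using this
  have hcent := cent_le_coatom M hM (x : PSL(2, F)) x.2 hX1 hconj
  have hcd := Subgroup.card_dvd_of_le hcent
  rw [hcard] at hcd
  have hc := (card_centralizer_PSL he (x : PSL(2, F)) hX1).1 hXsq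
  have hq : Fintype.card F = 4 ∧
      Nat.card (Subgroup.centralizer ({(x : PSL(2, F))} : Set PSL(2, F))) = 3 := by
    obtain ⟨j, hj⟩ := he
    rcases hc with hc | hc
    · rw [hc] at hcd ⊢
      have hle := Nat.le_of_dvd (by norm_num) hcd
      obtain ⟨c, hc'⟩ := hcd
      have hj' : j = 2 ∨ j = 3 := by omega
      rcases hj' with rfl | rfl
      · omega
      · exfalso
        rw [hj] at hc'
        omega
    · exfalso
      rw [hc] at hcd
      have hle := Nat.le_of_dvd (by norm_num) hcd
      obtain ⟨c, hc'⟩ := hcd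
      have hj' : j = 2 := by omega
      rw [hj, hj'] at hc'
      omega
  have hτx : τ * x ≠ x * τ := by
    intro hcomm
    have hmem : (τ : PSL(2, F)) ∈ Subgroup.centralizer ({(x : PSL(2, F))} : Set PSL(2, F)) := by
      rw [Subgroup.mem_centralizer_singleton_iff]
      exact congrArg Subtype.val hcomm
    have h3 := pow_card_eq_one' (G := Subgroup.centralizer ({(x : PSL(2, F))} : Set PSL(2, F)))
      (x := ⟨(τ : PSL(2, F)), hmem⟩)
    rw [hq.2] at h3
    have h3' : τ ^ 3 = 1 := by
      apply Subtype.ext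
      have := congrArg Subtype.val h3
      simpa using this
    have := orderOf_dvd_of_pow_eq_one h3'
    rw [hτ] at this
    have := Nat.le_of_dvd (by norm_num) this
    have h5 : (2 : ℕ) ∣ 3 := by assumption
    omega
  have hconjτ : τ * x * τ⁻¹ = x⁻¹ := by
    have h := hN.conj_mem x (Subgroup.mem_zpowers x) τ
    obtain ⟨k, hk⟩ := Subgroup.mem_zpowers_iff.mp h
    have hk' : x ^ (k % 3) = τ * x * τ⁻¹ := by
      rw [← hk]
      have := zpow_mod_orderOf x k
      rw [hx] at this
      exact_mod_cast this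
    have hlt : k % 3 < 3 := Int.emod_lt_of_pos k (by norm_num)
    have hge : 0 ≤ k % 3 := Int.emod_nonneg k (by norm_num)
    obtain ⟨r, hr⟩ : ∃ r : ℤ, r = k % 3 := ⟨_, rfl⟩
    rw [← hr] at hk' hlt hge
    interval_cases r
    · exfalso
      apply hx1
      rw [zpow_zero] at hk'
      have : x = τ⁻¹ * (τ * x * τ⁻¹) * τ := by group
      rw [this, ← hk']
      group
    · exfalso
      apply hτx
      rw [zpow_one] at hk'
      calc τ * x = (τ * x * τ⁻¹) * τ := by group
        _ = x * τ := by rw [← hk']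
    · rw [← hk']
      apply eq_inv_of_mul_eq_one_left
      have : x ^ (2 : ℤ) * x = x ^ 3 := by
        rw [show (2 : ℤ) = ((2 : ℕ) : ℤ) from rfl, zpow_natCast, ← pow_succ]
      rw [this, hx3]
  have hτn : τ ∉ Subgroup.zpowers x := by
    intro h
    obtain ⟨k, hk⟩ := Subgroup.mem_zpowers_iff.mp h
    apply hτx
    rw [← hk]
    exact ((Commute.refl x).zpow_left k).eq
  have hres := Cfsg.Agent.H3.dihedral_of_gens (Q := M) 3 hcard x τ hx hτn hτ2 hconjτ
  rw [hq.1]
  exact hres

theorem psl_case (heven : Even (Fintype.card F)) (h4 : 4 ≤ Fintype.card F)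
    (M : Subgroup PSL(2, F)) (hM : IsCoatom M) (K : Type) [Field K] [Fintype K]
    (heK : Even (Fintype.card K)) (f : M ≃* PSL(2, K)) :
    Nat.card M = Fintype.card F * (Fintype.card F - 1) ∨
    Nonempty (M ≃* DihedralGroup (Fintype.card F - 1)) ∨
    Nonempty (M ≃* DihedralGroup (Fintype.card F + 1)) ∨
    (∃ (F₀ : Type) (_ : Field F₀) (_ : Fintype F₀) (r : ℕ), r.Prime ∧ Fintype.card F₀ ≠ 2 ∧
        Fintype.card F = Fintype.card F₀ ^ r ∧ Nonempty (M ≃* PSL(2, F₀))) := by
  by_cases hK2 : Fintype.card K = 2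
  · right; left
    apply case_six heven h4 M hM
    rw [Nat.card_congr f.toEquiv, card_PSL2_even heK, hK2]
    norm_num
  · right; right; right
    obtain ⟨r, hr, hqr⟩ := field_case_PSL heven M hM heK f
    exact ⟨K, inferInstance, inferInstance, r, hr, hK2, hqr, ⟨f⟩⟩

theorem main_5893 (heven : Even (Fintype.card F)) (h4 : 4 ≤ Fintype.card F)
    (M : Subgroup PSL(2, F)) (hM : IsCoatom M) :
    Nat.card M = Fintype.card F * (Fintype.card F - 1) ∨
    Nonempty (M ≃* DihedralGroup (Fintype.card F - 1)) ∨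
    Nonempty (M ≃* DihedralGroup (Fintype.card F + 1)) ∨
    (∃ (F₀ : Type) (_ : Field F₀) (_ : Fintype F₀) (r : ℕ), r.Prime ∧ Fintype.card F₀ ≠ 2 ∧
        Fintype.card F = Fintype.card F₀ ^ r ∧ Nonempty (M ≃* PSL(2, F₀))) := by
  classical
  have h2 := two_eq_zero heven
  haveI : CharP F 2 := CharTwo.of_one_ne_zero_of_two_eq_zero one_ne_zero h2
  haveI : Fact (Nat.Prime 2) := ⟨Nat.prime_two⟩
  haveI := simple_PSL2 (F := F) h4
  have hnc := noncomm_PSL2 (F := F)
  have habel : (∀ a b : M, a * b = b * a) → False := by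
    intro h
    exact abelian_coatom_false hnc M hM
      (fun a ha b hb => congrArg Subtype.val (h ⟨a, ha⟩ ⟨b, hb⟩))
  rcases Cfsg.Agent.H18.Dk.dickson (F := F) 2 M with
    ⟨k, hk, h | ⟨⟨f⟩⟩⟩ | ⟨P, K, hK, ⟨f⟩⟩ | ⟨⟨f⟩⟩ | ⟨⟨f⟩⟩ | ⟨⟨f⟩⟩ |
    ⟨K, i1, i2, m, hm, ⟨⟨f⟩⟩ | ⟨⟨f⟩⟩⟩
  · -- cyclic
    exfalso
    haveI := h.1
    exact habel (fun a b => mul_comm' a b)
  · -- dihedral
    rw [gcd_eq_one heven, Nat.div_one, Nat.div_one] at hk
    by_cases hk3 : 3 ≤ k
    · obtain ⟨x, hx2, hxn, hxc⟩ := dih_struct k hk3 f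
      have hX1 : (x : PSL(2, F)) ≠ 1 := by
        intro h
        apply hx2
        have : x = 1 := Subtype.ext h
        rw [this, one_pow]
      have hXsq : (x : PSL(2, F)) ^ 2 ≠ 1 := by
        intro h
        apply hx2
        apply Subtype.ext
        simpa using h
      have hconj : ∀ m ∈ M, m * (x : PSL(2, F)) * m⁻¹ ∈ Subgroup.zpowers (x : PSL(2, F)) := by
        intro m hm
        obtain ⟨j, hj⟩ := Subgroup.mem_zpowers_iff.mp (hxn ⟨m, hm⟩)
        refine Subgroup.mem_zpowers_iff.mpr ⟨j, ?_⟩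
        have := congrArg Subtype.val hj
        simpa using this
      have hcent := cent_le_coatom M hM (x : PSL(2, F)) x.2 hX1 hconj
      have hce := card_cent_eq M x hcent
      rw [hxc] at hce
      rcases (card_centralizer_PSL heven (x : PSL(2, F)) hX1).1 hXsq with hc | hc
      · right; left
        have : k = Fintype.card F - 1 := by rw [← hce, hc]
        rw [← this]
        exact ⟨f⟩
      · right; right; left
        have : k = Fintype.card F + 1 := by rw [← hce, hc]
        rw [← this]
        exact ⟨f⟩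
    · exfalso
      have hk0 : k ≠ 0 := by
        rintro rfl
        rcases hk with hk | hk
        · rw [zero_dvd_iff] at hk; omega
        · rw [zero_dvd_iff] at hk; omega
      have hk12 : k = 1 ∨ k = 2 := by omega
      apply habel
      intro a b
      apply f.injective
      rw [map_mul, map_mul]
      rcases hk12 with rfl | rfl
      · exact dih1_comm _ _
      · exact dih2_comm _ _
  · -- inside the normaliser of a Sylow `2`-subgroup
    by_cases hab : ∀ a ∈ K, ∀ b ∈ K, a * b = b * a
    · exfalso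
      apply habel
      intro a b
      apply f.injective
      rw [map_mul, map_mul]
      exact Subtype.ext (hab _ (f a).2 _ (f b).2)
    · left
      simp only [not_forall] at hab
      obtain ⟨a, ha, b, hb, hne⟩ := hab
      apply card_of_hasN2 heven h4 M hM
      apply HasN2.of_equiv f
      refine ⟨(P : Subgroup PSL(2, F)).subgroupOf K,
        Subgroup.normal_subgroupOf_of_le_normalizer hK, ?_, ?_⟩
      · intro hbot
        have hc := Cfsg.Agent.H64.DU.comm_mem_sylow_of_mem_normalizer 2 P a b (hK ha) (hK hb)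
        have hcK : a * b * a⁻¹ * b⁻¹ ∈ K :=
          K.mul_mem (K.mul_mem (K.mul_mem ha hb) (K.inv_mem ha)) (K.inv_mem hb)
        have hmem : (⟨_, hcK⟩ : K) ∈ (P : Subgroup PSL(2, F)).subgroupOf K :=
          Subgroup.mem_subgroupOf.mpr hc
        rw [hbot, Subgroup.mem_bot] at hmem
        have h1 : a * b * a⁻¹ * b⁻¹ = 1 := congrArg Subtype.val hmem
        apply hne
        calc a * b = (a * b * a⁻¹ * b⁻¹) * (b * a) := by group
          _ = b * a := by rw [h1, one_mul]
      · exact P.isPGroup'.comap_of_injective K.subtype K.subtype_injective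
  · -- `A₄`
    left
    exact card_of_hasN2 heven h4 M hM (HasN2.of_equiv f hasN2_A4)
  · -- `S₄`
    exfalso
    obtain ⟨x, hx4, hx2⟩ := s4_elt
    apply hx2
    have h4' : ((f.symm x : M) : PSL(2, F)) ^ 4 = 1 := by
      have h5 : (f.symm x) ^ 4 = 1 := by rw [← map_pow, hx4, map_one]
      have := congrArg Subtype.val h5
      simpa using this
    have h2' := sq_eq_one_of_pow_four_PSL heven _ h4'
    have h3 : (f.symm x) ^ 2 = 1 := by
      apply Subtype.ext
      simpa using h2'
    rw [← map_pow] at h3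
    have := congrArg f h3
    simpa using this
  · -- `A₅`
    haveI : Fintype (GaloisField 2 2) := Fintype.ofFinite _
    have hc4 : Fintype.card (GaloisField 2 2) = 4 := by
      rw [← Nat.card_eq_fintype_card, GaloisField.card 2 2 (by norm_num)]
      norm_num
    obtain ⟨g⟩ := Cfsg.Agent.S0252.result (F := GaloisField 2 2) hc4
    exact psl_case heven h4 M hM (GaloisField 2 2) (by rw [hc4]; decide) (f.trans g.symm)
  · have heK : Even (Fintype.card K) := by
      have : Even (Fintype.card K ^ m) := by rw [hm]; exact heven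
      exact (Nat.even_pow.mp this).1
    exact psl_case heven h4 M hM K heK f
  · have heK : Even (Fintype.card K) := by
      have : Even (Fintype.card K ^ m) := by rw [hm]; exact heven
      exact (Nat.even_pow.mp this).1
    obtain ⟨g⟩ := psl_equiv_pgl heK
    exact psl_case heven h4 M hM K heK (f.trans g.symm)

end Cfsg.Agent.H64.MX
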