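import Mathlib
import Cfsg.Agent.H69.Ord7920N

set_option autoImplicit false

open Subgroup

namespace Cfsg.Agent.H64.Ord7920

theorem exists_compl_in_subgroup {G : Type*} [Group G] [Finite G] (H : Subgroup G)
    (p : ℕ) [Fact p.Prime] (S : Subgroup G) (hSH : S ≤ H) (hS : IsPGroup p S)
    (hSyl : ¬ p ∣ Nat.card H / Nat.card S)
    (hNC : H ⊓ normalizer (S : Set G) ≤ centralizer (S : Set G)) :
    ∃ K : Subgroup G, K ≤ H ∧ H ≤ normalizer (K : Set G) ∧ Nat.card K * Nat.card S = Nat.card H ∧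
      ∀ n ∈ H, (orderOf n).Coprime p → n ∈ K := by
  have hS' : IsPGroup p (S.subgroupOf H) := hS.of_equiv (Subgroup.subgroupOfEquivOfLe hSH).symm
  have hcardS' : Nat.card (S.subgroupOf H) = Nat.card S :=
    Nat.card_congr (Subgroup.subgroupOfEquivOfLe hSH).toEquiv
  have hcardtop : Nat.card (⊤ : Subgroup H) = Nat.card H := Subgroup.card_top
  obtain ⟨K', hK'n, -, hK'c, hK'm⟩ := Cfsg.Agent.H69.Ord7920.exists_normal_compl
    (⊤ : Subgroup H) p (S.subgroupOf H) le_top hS' (by rw [hcardtop, hcardS']; exact hSyl) (by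
      intro x hx
      have hxN : (x : G) ∈ normalizer (S : Set G) := by
        rw [Subgroup.mem_normalizer_iff]
        intro h
        have hx2 : x ∈ normalizer ((S.subgroupOf H : Subgroup H) : Set H) := hx.2
        rw [Subgroup.mem_normalizer_iff] at hx2
        constructor
        · intro hh
          have := (hx2 ⟨h, hSH hh⟩).1 (by rw [Subgroup.mem_subgroupOf]; exact hh)
          rw [Subgroup.mem_subgroupOf] at this
          exact this
        · intro hh
          have hhH : h ∈ H := by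
            have h1 : (x : G) * h * (x : G)⁻¹ ∈ H := hSH hh
            have h2 := H.mul_mem (H.mul_mem (H.inv_mem x.2) h1) x.2
            have h3 : (x : G)⁻¹ * ((x : G) * h * (x : G)⁻¹) * (x : G) = h := by group
            rw [h3] at h2
            exact h2
          have := (hx2 ⟨h, hhH⟩).2 (by rw [Subgroup.mem_subgroupOf]; exact hh)
          rw [Subgroup.mem_subgroupOf] at this
          exact this
      have hxC : (x : G) ∈ centralizer (S : Set G) := hNC ⟨x.2, hxN⟩
      rw [Subgroup.mem_centralizer_iff]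
      intro h hh
      have hh' : (h : G) ∈ S := by
        have : h ∈ S.subgroupOf H := hh
        rw [Subgroup.mem_subgroupOf] at this
        exact this
      rw [Subgroup.mem_centralizer_iff] at hxC
      exact Subtype.ext (hxC _ hh'))
  refine ⟨K'.map H.subtype, Subgroup.map_subtype_le K', ?_, ?_, ?_⟩
  · intro h hh
    rw [Subgroup.mem_normalizer_iff]
    intro k
    constructor
    · rintro ⟨k', hk', rfl⟩
      exact ⟨⟨h, hh⟩ * k' * ⟨h, hh⟩⁻¹, hK'n.conj_mem k' hk' ⟨h, hh⟩, rfl⟩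
    · rintro ⟨k', hk', hk'e⟩
      have : (⟨h, hh⟩ : H)⁻¹ * k' * (⟨h, hh⟩ : H)⁻¹⁻¹ ∈ K' := hK'n.conj_mem k' hk' (⟨h, hh⟩⁻¹)
      refine ⟨_, this, ?_⟩
      simp only [Subgroup.coe_subtype, Subgroup.coe_mul, Subgroup.coe_inv, inv_inv]
      rw [show (k' : G) = h * k * h⁻¹ from hk'e]
      group
  · rw [Nat.card_congr (K'.equivMapOfInjective H.subtype H.subtype_injective).toEquiv.symm,
      ← hcardS', hK'c, hcardtop]
  · intro n hn hc
    refine ⟨⟨n, hn⟩, hK'm ⟨n, hn⟩ (Subgroup.mem_top _) ?_, rfl⟩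
    rwa [Subgroup.orderOf_mk]

example {G : Type*} [Group G] [Finite G] (H : Subgroup G)
    (p : ℕ) [Fact p.Prime] (S : Subgroup G) (hSH : S ≤ H) (hS : IsPGroup p S)
    (hSyl : ¬ p ∣ Nat.card H / Nat.card S)
    (hNC : H ⊓ normalizer (S : Set G) ≤ centralizer (S : Set G)) :
    ∃ K : Subgroup G, K ≤ H ∧ H ≤ normalizer (K : Set G) ∧ Nat.card K * Nat.card S = Nat.card H ∧
      ∀ n ∈ H, (orderOf n).Coprime p → n ∈ K :=
  exists_compl_in_subgroup H p S hSH hS hSyl hNC

end Cfsg.Agent.H64.Ord7920
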