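import Mathlib
import Cfsg.Agent.H11.SmallSimple

set_option autoImplicit false

/-!
# Groups of order 60 with more than one Sylow 5-subgroup are simple
-/

namespace Cfsg.Agent.H64.Sixty

open Subgroup

section Count

variable {G : Type*} [Group G]

/-- If the Sylow `p`-subgroups have order `p`, there are at least `n_p (p - 1)` elements of order
`p`. -/
theorem card_sylow_mul_pred_le [Finite G] (p : ℕ) [Fact p.Prime]
    (hP : ∀ P : Sylow p G, Nat.card (P : Subgroup G) = p) :
    Nat.card (Sylow p G) * (p - 1) ≤ Nat.card {g : G // orderOf g = p} := by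
  classical
  have hp := (Fact.out : p.Prime)
  have hgen : ∀ P : Sylow p G, ∃ g : G, g ∈ (P : Subgroup G) ∧ orderOf g = p := by
    intro P
    rcases Subgroup.bot_or_exists_ne_one (P : Subgroup G) with h | ⟨g, hg, hg1⟩
    · exfalso
      have := hP P
      rw [h, Subgroup.card_bot] at this
      exact hp.one_lt.ne this
    · refine ⟨g, hg, ?_⟩
      have hdvd : orderOf g ∣ p := by
        rw [← hP P]; exact Subgroup.orderOf_dvd_natCard _ hg
      rcases (Nat.dvd_prime hp).mp hdvd with h | h
      · exact absurd (orderOf_eq_one_iff.mp h) hg1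
      · exact h
  choose gen hgen1 hgen2 using hgen
  have hord : ∀ (P : Sylow p G) (i : Fin (p - 1)), orderOf (gen P ^ (i.1 + 1)) = p := by
    intro P i
    have hi := i.2
    rw [Nat.Coprime.orderOf_pow, hgen2]
    rw [hgen2]
    exact Nat.coprime_of_lt_prime (by omega) (by omega) hp
  have hz : ∀ (P : Sylow p G) (i : Fin (p - 1)),
      Subgroup.zpowers (gen P ^ (i.1 + 1)) = (P : Subgroup G) := by
    intro P i
    apply Subgroup.eq_of_le_of_card_ge
    · rw [Subgroup.zpowers_le]; exact pow_mem (hgen1 P) _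
    · rw [Nat.card_zpowers, hord, hP]
  have hf : Function.Injective (fun x : Sylow p G × Fin (p - 1) =>
      (⟨gen x.1 ^ (x.2.1 + 1), hord x.1 x.2⟩ : {g : G // orderOf g = p})) := by
    rintro ⟨P, i⟩ ⟨Q, j⟩ h
    have hx : gen P ^ (i.1 + 1) = gen Q ^ (j.1 + 1) := congrArg Subtype.val h
    have hPQ : P = Q := by
      apply Sylow.ext
      rw [← hz P i, ← hz Q j, hx]
    subst hPQ
    have hi := i.2
    have hj := j.2
    have := pow_injOn_Iio_orderOf (x := gen P) (x₁ := i.1 + 1) (x₂ := j.1 + 1)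
      (by rw [Set.mem_Iio, hgen2]; omega) (by rw [Set.mem_Iio, hgen2]; omega) hx
    have hij : i = j := Fin.ext (by omega)
    rw [hij]
  have := Nat.card_le_card_of_injective _ hf
  rwa [Nat.card_prod, Nat.card_fin] at this

/-- A group of order 30 has a normal Sylow 3-subgroup or a normal Sylow 5-subgroup. -/
theorem card_sylow_of_card_thirty {H : Type*} [Group H] [Finite H] (h : Nat.card H = 30) :
    Nat.card (Sylow 3 H) = 1 ∨ Nat.card (Sylow 5 H) = 1 := by
  have hp3 : Fact (Nat.Prime 3) := ⟨by norm_num⟩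
  have hp5 : Fact (Nat.Prime 5) := ⟨by norm_num⟩
  have hc3 : ∀ P : Sylow 3 H, Nat.card (P : Subgroup H) = 3 := fun P => by
    have := Cfsg.Agent.H11.sylow_card_of_eq 3 1 10 (by rw [h]; norm_num) (by norm_num) P
    simpa using this
  have hc5 : ∀ P : Sylow 5 H, Nat.card (P : Subgroup H) = 5 := fun P => by
    have := Cfsg.Agent.H11.sylow_card_of_eq 5 1 6 (by rw [h]; norm_num) (by norm_num) P
    simpa using this
  obtain ⟨P3⟩ : Nonempty (Sylow 3 H) := inferInstance
  obtain ⟨P5⟩ : Nonempty (Sylow 5 H) := inferInstance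
  have hd3 : Nat.card (Sylow 3 H) ∣ 10 := by
    have h1 := P3.card_dvd_index
    have h2 := (P3 : Subgroup H).card_mul_index
    rw [hc3 P3, h] at h2
    have : (P3 : Subgroup H).index = 10 := by omega
    rwa [this] at h1
  have hd5 : Nat.card (Sylow 5 H) ∣ 6 := by
    have h1 := P5.card_dvd_index
    have h2 := (P5 : Subgroup H).card_mul_index
    rw [hc5 P5, h] at h2
    have : (P5 : Subgroup H).index = 6 := by omega
    rwa [this] at h1
  have hm3 : Nat.card (Sylow 3 H) % 3 = 1 := card_sylow_modEq_one 3 H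
  have hm5 : Nat.card (Sylow 5 H) % 5 = 1 := card_sylow_modEq_one 5 H
  have h3 := card_sylow_mul_pred_le 3 hc3
  have h5 := card_sylow_mul_pred_le 5 hc5
  have hsum : Nat.card {g : H // orderOf g = 3} + Nat.card {g : H // orderOf g = 5}
      ≤ Nat.card H := by
    rw [← Nat.card_sum]
    apply Nat.card_le_card_of_injective (Sum.elim Subtype.val Subtype.val)
    rintro (a | a) (b | b) hab
    · simp only [Sum.elim_inl] at hab
      rw [Subtype.ext hab]
    · simp only [Sum.elim_inl, Sum.elim_inr] at hab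
      have h1 := a.2
      rw [hab, b.2] at h1
      omega
    · simp only [Sum.elim_inl, Sum.elim_inr] at hab
      have h1 := a.2
      rw [hab, b.2] at h1
      omega
    · simp only [Sum.elim_inr] at hab
      rw [Subtype.ext hab]
  rw [h] at hsum
  generalize Nat.card (Sylow 3 H) = n3 at *
  generalize Nat.card (Sylow 5 H) = n5 at *
  have hn3 : n3 ≤ 10 := Nat.le_of_dvd (by norm_num) hd3
  have hn5 : n5 ≤ 6 := Nat.le_of_dvd (by norm_num) hd5
  interval_cases n3 <;> interval_cases n5 <;> omega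

end Count

section Main

variable {G : Type*} [Group G] [Finite G]

theorem card_sylow_five (hG : Nat.card G = 60) (h5 : Nat.card (Sylow 5 G) ≠ 1) :
    Nat.card (Sylow 5 G) = 6 := by
  have hp5 : Fact (Nat.Prime 5) := ⟨by norm_num⟩
  obtain ⟨P5⟩ : Nonempty (Sylow 5 G) := inferInstance
  have hc5 : Nat.card (P5 : Subgroup G) = 5 := by
    have := Cfsg.Agent.H11.sylow_card_of_eq 5 1 12 (by rw [hG]; norm_num) (by norm_num) P5
    simpa using this
  have hd5 : Nat.card (Sylow 5 G) ∣ 12 := by
    have h1 := P5.card_dvd_index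
    have h2 := (P5 : Subgroup G).card_mul_index
    rw [hc5, hG] at h2
    have : (P5 : Subgroup G).index = 12 := by omega
    rwa [this] at h1
  have hm5 : Nat.card (Sylow 5 G) % 5 = 1 := card_sylow_modEq_one 5 G
  generalize Nat.card (Sylow 5 G) = n5 at *
  have hn5 : n5 ≤ 12 := Nat.le_of_dvd (by norm_num) hd5
  interval_cases n5 <;> omega

/-- Every subgroup of order 5 has a normalizer of order 10. -/
theorem card_normalizer_of_card_five (hG : Nat.card G = 60) (h5 : Nat.card (Sylow 5 G) ≠ 1)
    (P : Subgroup G) (hP : Nat.card P = 5) : Nat.card (normalizer (P : Set G)) = 10 := by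
  have hp5 : Fact (Nat.Prime 5) := ⟨by norm_num⟩
  have hpg : IsPGroup 5 P := IsPGroup.of_card (n := 1) (by rw [hP]; norm_num)
  obtain ⟨Q, hQ⟩ := hpg.exists_le_sylow
  have hc5 : Nat.card (Q : Subgroup G) = 5 := by
    have := Cfsg.Agent.H11.sylow_card_of_eq 5 1 12 (by rw [hG]; norm_num) (by norm_num) Q
    simpa using this
  have hPQ : P = (Q : Subgroup G) := Subgroup.eq_of_le_of_card_ge hQ (by rw [hc5, hP])
  have h1 := Q.card_eq_index_normalizer
  rw [card_sylow_five hG h5] at h1
  subst hPQ
  have h2 := (normalizer ((Q : Subgroup G) : Set G)).card_mul_index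
  have h1' : (normalizer ((Q : Subgroup G) : Set G)).index = 6 := h1.symm
  rw [h1', hG] at h2
  omega

/-- A normal subgroup of order divisible by 5 has order at least 25. -/
theorem le_card_of_five_dvd (hG : Nat.card G = 60) (h5 : Nat.card (Sylow 5 G) ≠ 1)
    (H : Subgroup G) [hHn : H.Normal] (hH : 5 ∣ Nat.card H) : 25 ≤ Nat.card H := by
  have hp5 : Fact (Nat.Prime 5) := ⟨by norm_num⟩
  obtain ⟨x, hx⟩ := exists_prime_orderOf_dvd_card' 5 hH
  have hxG : orderOf (x : G) = 5 := by rw [Subgroup.orderOf_coe, hx]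
  have hpg : IsPGroup 5 (zpowers (x : G)) :=
    IsPGroup.of_card (n := 1) (by rw [Nat.card_zpowers, hxG]; norm_num)
  obtain ⟨Q1, hQ1⟩ := hpg.exists_le_sylow
  have hc5 : ∀ Q : Sylow 5 G, Nat.card (Q : Subgroup G) = 5 := fun Q => by
    have := Cfsg.Agent.H11.sylow_card_of_eq 5 1 12 (by rw [hG]; norm_num) (by norm_num) Q
    simpa using this
  have hQ1' : zpowers (x : G) = (Q1 : Subgroup G) :=
    Subgroup.eq_of_le_of_card_ge hQ1 (by rw [hc5, Nat.card_zpowers, hxG])
  have hQ1H : (Q1 : Subgroup G) ≤ H := by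
    rw [← hQ1', Subgroup.zpowers_le]; exact x.2
  have hnt : Nontrivial (Sylow 5 G) := by
    rw [← Finite.one_lt_card_iff_nontrivial, card_sylow_five hG h5]; norm_num
  obtain ⟨Q2, hQ2⟩ := exists_ne Q1
  obtain ⟨g, hg⟩ := MulAction.exists_smul_eq G Q1 Q2
  have hQ2H : (Q2 : Subgroup G) ≤ H := by
    intro y hy
    rw [← hg, Sylow.coe_subgroup_smul] at hy
    obtain ⟨z, hz, rfl⟩ := hy
    exact hHn.conj_mem z (hQ1H hz) g
  have hinf : (Q1 : Subgroup G) ⊓ (Q2 : Subgroup G) = ⊥ := by
    have hd : Nat.card ((Q1 : Subgroup G) ⊓ (Q2 : Subgroup G) : Subgroup G) ∣ 5 := by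
      have := Subgroup.card_dvd_of_le (inf_le_left : (Q1 : Subgroup G) ⊓ (Q2 : Subgroup G) ≤ Q1)
      rwa [hc5 Q1] at this
    rcases (Nat.dvd_prime (by norm_num)).mp hd with h | h
    · exact Subgroup.eq_bot_of_card_eq _ h
    · exfalso
      apply hQ2
      apply Sylow.ext
      have e1 : (Q1 : Subgroup G) ⊓ (Q2 : Subgroup G) = (Q1 : Subgroup G) :=
        Subgroup.eq_of_le_of_card_ge inf_le_left (by rw [h, hc5])
      have e2 : (Q1 : Subgroup G) ⊓ (Q2 : Subgroup G) = (Q2 : Subgroup G) :=
        Subgroup.eq_of_le_of_card_ge inf_le_right (by rw [h, hc5])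
      rw [← e2, e1]
  have hinj : Function.Injective (fun ab : ↥(Q1 : Subgroup G) × ↥(Q2 : Subgroup G) =>
      (⟨(ab.1 : G) * (ab.2 : G), H.mul_mem (hQ1H ab.1.2) (hQ2H ab.2.2)⟩ : H)) := by
    rintro ⟨a, b⟩ ⟨a', b'⟩ hab
    have hab' : (a : G) * (b : G) = (a' : G) * (b' : G) := congrArg Subtype.val hab
    have hmem : (a' : G)⁻¹ * (a : G) ∈ (Q1 : Subgroup G) ⊓ (Q2 : Subgroup G) := by
      refine Subgroup.mem_inf.mpr ⟨mul_mem (inv_mem a'.2) a.2, ?_⟩
      have : (a' : G)⁻¹ * (a : G) = (b' : G) * (b : G)⁻¹ := by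
        rw [inv_mul_eq_iff_eq_mul, ← mul_assoc, ← hab', mul_assoc, mul_inv_cancel, mul_one]
      rw [this]
      exact mul_mem b'.2 (inv_mem b.2)
    rw [hinf, Subgroup.mem_bot] at hmem
    have ha : (a : G) = (a' : G) := by
      rw [inv_mul_eq_one] at hmem; exact hmem.symm
    have hb : (b : G) = (b' : G) := by
      rw [ha] at hab'; exact mul_left_cancel hab'
    exact Prod.ext (Subtype.ext ha) (Subtype.ext hb)
  have := Nat.card_le_card_of_injective _ hinj
  rwa [Nat.card_prod, hc5, hc5] at this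

/-- An element of order 5 normalizing a subgroup of order less than 5 centralizes it. -/
theorem commute_of_mem_normalizer (Q : Subgroup G) (hQ : Nat.card Q < 5) (x : G)
    (hx : orderOf x = 5) (hxN : x ∈ normalizer (Q : Set G)) (y : G) (hy : y ∈ Q) :
    Commute x y := by
  by_contra hxy
  have hC : centralizer {y} ⊓ zpowers x = ⊥ := by
    have hd : Nat.card (centralizer {y} ⊓ zpowers x : Subgroup G) ∣ 5 := by
      have := Subgroup.card_dvd_of_le (inf_le_right : centralizer {y} ⊓ zpowers x ≤ zpowers x)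
      rwa [Nat.card_zpowers, hx] at this
    rcases (Nat.dvd_prime (by norm_num)).mp hd with h | h
    · exact Subgroup.eq_bot_of_card_eq _ h
    · exfalso
      apply hxy
      have e1 : centralizer {y} ⊓ zpowers x = zpowers x :=
        Subgroup.eq_of_le_of_card_ge inf_le_right (by rw [h, Nat.card_zpowers, hx])
      have hxc : x ∈ centralizer {y} := by
        have : x ∈ centralizer {y} ⊓ zpowers x := by
          rw [e1]; exact Subgroup.mem_zpowers x
        exact (Subgroup.mem_inf.mp this).1
      rw [Subgroup.mem_centralizer_iff] at hxc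
      exact (hxc y rfl).symm
  have hmem : ∀ i : ℕ, x ^ i * y * (x ^ i)⁻¹ ∈ Q := by
    intro i
    have hi : x ^ i ∈ normalizer (Q : Set G) := pow_mem hxN i
    exact (Subgroup.mem_normalizer_iff.mp hi y).mp hy
  have hinj : Function.Injective (fun i : Fin 5 => (⟨x ^ i.1 * y * (x ^ i.1)⁻¹, hmem i.1⟩ : Q)) := by
    intro i j hij
    have h : x ^ i.1 * y * (x ^ i.1)⁻¹ = x ^ j.1 * y * (x ^ j.1)⁻¹ := congrArg Subtype.val hij
    have hm : (x ^ j.1)⁻¹ * x ^ i.1 ∈ centralizer {y} ⊓ zpowers x := by
      refine Subgroup.mem_inf.mpr ⟨?_, ?_⟩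
      · rw [Subgroup.mem_centralizer_iff]
        intro z hz
        rw [Set.mem_singleton_iff] at hz
        subst hz
        have h1 : x ^ i.1 * z = x ^ j.1 * z * (x ^ j.1)⁻¹ * x ^ i.1 := by
          rw [← h]; group
        calc z * ((x ^ j.1)⁻¹ * x ^ i.1)
            = (x ^ j.1)⁻¹ * (x ^ j.1 * z * (x ^ j.1)⁻¹ * x ^ i.1) := by group
          _ = (x ^ j.1)⁻¹ * x ^ i.1 * z := by rw [← h1, mul_assoc]
      · exact mul_mem (inv_mem (Subgroup.pow_mem _ (Subgroup.mem_zpowers x) _))
          (Subgroup.pow_mem _ (Subgroup.mem_zpowers x) _)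
    rw [hC, Subgroup.mem_bot, inv_mul_eq_one] at hm
    have hi := i.2
    have hj := j.2
    have := pow_injOn_Iio_orderOf (x := x) (x₁ := j.1) (x₂ := i.1)
      (by rw [Set.mem_Iio, hx]; exact hj) (by rw [Set.mem_Iio, hx]; exact hi) hm
    exact Fin.ext this.symm
  have := Nat.card_le_card_of_injective _ hinj
  rw [Nat.card_fin] at this
  omega

/-- A normal subgroup of order prime to 5 has order at most 2. -/
theorem card_le_two_of_not_five_dvd (hG : Nat.card G = 60) (h5 : Nat.card (Sylow 5 G) ≠ 1)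
    (H : Subgroup G) [hHn : H.Normal] (hH : ¬ 5 ∣ Nat.card H) : Nat.card H ≤ 2 := by
  have hp5 : Fact (Nat.Prime 5) := ⟨by norm_num⟩
  have hp5' : Nat.Prime 5 := by norm_num
  have hcop : Nat.Coprime (Nat.card H) 5 := ((Nat.Prime.coprime_iff_not_dvd hp5').mpr hH).symm
  have hd60 : Nat.card H ∣ 12 * 5 := by
    have := Subgroup.card_subgroup_dvd_card H
    rwa [hG] at this
  have hdvd : Nat.card H ∣ 12 := hcop.dvd_of_dvd_mul_right hd60
  have hidx : 5 ∣ H.index := by
    have h1 := H.card_mul_index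
    rw [hG] at h1
    have h2 : 5 ∣ Nat.card H * H.index := by rw [h1]; norm_num
    exact (hp5'.dvd_mul.mp h2).resolve_left hH
  have key : ∀ (q : ℕ) [Fact q.Prime] (Q : Sylow q H), Nat.card (Q : Subgroup H) ∣ 10 := by
    intro q hq Q
    have hq' := (Fact.out : q.Prime)
    set Q' : Subgroup G := (Q : Subgroup H).map H.subtype with hQ'
    have hcQ : Nat.card Q' = Nat.card (Q : Subgroup H) :=
      Subgroup.card_map_of_injective H.subtype_injective
    have hF : normalizer (Q' : Set G) ⊔ H = ⊤ := Sylow.normalizer_sup_eq_top Q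
    have h5N : 5 ∣ Nat.card (normalizer (Q' : Set G)) := by
      have h1 : H.relIndex (normalizer (Q' : Set G) ⊔ H) = H.relIndex (normalizer (Q' : Set G)) :=
        Subgroup.relIndex_sup_right _ _
      rw [hF, Subgroup.relIndex_top_right] at h1
      rw [h1] at hidx
      exact hidx.trans (Subgroup.relIndex_dvd_card _ _)
    obtain ⟨x, hx⟩ := exists_prime_orderOf_dvd_card' 5 h5N
    have hxG : orderOf (x : G) = 5 := by rw [Subgroup.orderOf_coe, hx]
    have hQlt : Nat.card Q' < 5 := by
      rw [hcQ]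
      obtain ⟨k, hk⟩ := IsPGroup.iff_card.mp Q.isPGroup'
      have hd12 : Nat.card (Q : Subgroup H) ∣ 12 :=
        (Subgroup.card_subgroup_dvd_card _).trans hdvd
      by_contra hlt
      push Not at hlt
      have hle : Nat.card (Q : Subgroup H) ≤ 12 := Nat.le_of_dvd (by norm_num) hd12
      have h23 : 2 ∣ Nat.card (Q : Subgroup H) ∧ 3 ∣ Nat.card (Q : Subgroup H) := by
        generalize Nat.card (Q : Subgroup H) = n at *
        interval_cases n <;> omega
      rw [hk] at h23
      have e2 := (Nat.prime_dvd_prime_iff_eq Nat.prime_two hq').mp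
        (Nat.prime_two.dvd_of_dvd_pow h23.1)
      have e3 := (Nat.prime_dvd_prime_iff_eq Nat.prime_three hq').mp
        (Nat.prime_three.dvd_of_dvd_pow h23.2)
      omega
    have hcomm : ∀ y ∈ Q', Commute (x : G) y :=
      fun y hy => commute_of_mem_normalizer Q' hQlt x hxG x.2 y hy
    have hle : Q' ≤ normalizer ((zpowers (x : G) : Subgroup G) : Set G) := by
      intro y hy
      apply Subgroup.centralizer_le_normalizer
      rw [Subgroup.mem_centralizer_iff]
      intro z hz
      obtain ⟨k, rfl⟩ := Subgroup.mem_zpowers_iff.mp hz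
      exact ((hcomm y hy).zpow_left k).eq
    have h10 := card_normalizer_of_card_five hG h5 (zpowers (x : G))
      (by rw [Nat.card_zpowers, hxG])
    rw [← hcQ, ← h10]
    exact Subgroup.card_dvd_of_le hle
  have h3 : ¬ 3 ∣ Nat.card H := by
    intro h3
    have hp3 : Fact (Nat.Prime 3) := ⟨by norm_num⟩
    obtain ⟨Q⟩ : Nonempty (Sylow 3 H) := inferInstance
    have h1 := Q.dvd_card_of_dvd_card h3
    have h2 := h1.trans (key 3 Q)
    omega
  have h4 : ¬ 4 ∣ Nat.card H := by
    intro h4
    have hp2 : Fact (Nat.Prime 2) := ⟨by norm_num⟩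
    obtain ⟨Q⟩ : Nonempty (Sylow 2 H) := inferInstance
    have h1 := Q.pow_dvd_card_of_pow_dvd_card (n := 2) (by norm_num; exact h4)
    have h2 := h1.trans (key 2 Q)
    omega
  have hle : Nat.card H ≤ 12 := Nat.le_of_dvd (by norm_num) hdvd
  generalize Nat.card H = n at *
  interval_cases n <;> omega

/-- No normal subgroup has order 30. -/
theorem card_ne_thirty (hG : Nat.card G = 60) (h5 : Nat.card (Sylow 5 G) ≠ 1)
    (H : Subgroup G) [hHn : H.Normal] : Nat.card H ≠ 30 := by
  intro h30
  have hp3 : Fact (Nat.Prime 3) := ⟨by norm_num⟩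
  have hp5 : Fact (Nat.Prime 5) := ⟨by norm_num⟩
  rcases card_sylow_of_card_thirty h30 with h | h
  · have hsub : Subsingleton (Sylow 3 H) := (Nat.card_eq_one_iff_unique.mp h).1
    obtain ⟨Q⟩ : Nonempty (Sylow 3 H) := inferInstance
    have hQn : (Q : Subgroup H).Normal := Q.normal_of_subsingleton
    have hQc : (Q : Subgroup H).Characteristic := Q.characteristic_of_normal hQn
    have hN : ((Q : Subgroup H).map H.subtype).Normal :=
      ConjAct.normal_of_characteristic_of_normal
    have hc : Nat.card ((Q : Subgroup H).map H.subtype) = 3 := by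
      rw [Subgroup.card_map_of_injective H.subtype_injective]
      have := Cfsg.Agent.H11.sylow_card_of_eq 3 1 10 (by rw [h30]; norm_num) (by norm_num) Q
      simpa using this
    have := card_le_two_of_not_five_dvd hG h5 ((Q : Subgroup H).map H.subtype)
      (by rw [hc]; norm_num)
    omega
  · have hsub : Subsingleton (Sylow 5 H) := (Nat.card_eq_one_iff_unique.mp h).1
    obtain ⟨Q⟩ : Nonempty (Sylow 5 H) := inferInstance
    have hQn : (Q : Subgroup H).Normal := Q.normal_of_subsingleton
    have hQc : (Q : Subgroup H).Characteristic := Q.characteristic_of_normal hQn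
    have hN : ((Q : Subgroup H).map H.subtype).Normal :=
      ConjAct.normal_of_characteristic_of_normal
    have hc : Nat.card ((Q : Subgroup H).map H.subtype) = 5 := by
      rw [Subgroup.card_map_of_injective H.subtype_injective]
      have := Cfsg.Agent.H11.sylow_card_of_eq 5 1 6 (by rw [h30]; norm_num) (by norm_num) Q
      simpa using this
    have := le_card_of_five_dvd hG h5 ((Q : Subgroup H).map H.subtype)
      (by rw [hc])
    omega

/-- No normal subgroup has order 2. -/
theorem card_ne_two (hG : Nat.card G = 60) (h5 : Nat.card (Sylow 5 G) ≠ 1)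
    (H : Subgroup G) [hHn : H.Normal] : Nat.card H ≠ 2 := by
  intro h2
  have hp3 : Fact (Nat.Prime 3) := ⟨by norm_num⟩
  have hp5 : Fact (Nat.Prime 5) := ⟨by norm_num⟩
  have hq : Nat.card (G ⧸ H) = 30 := by
    have := H.card_mul_index
    rw [h2, hG] at this
    rw [← Subgroup.index_eq_card]
    omega
  have hK : ∀ (q : ℕ) [Fact q.Prime] (Q : Sylow q (G ⧸ H)), Nat.card (Q : Subgroup (G ⧸ H)) = q →
      Nat.card ((Q : Subgroup (G ⧸ H)).comap (QuotientGroup.mk' H)) = 2 * q := by
    intro q _ Q hQ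
    have h1 : ((Q : Subgroup (G ⧸ H)).comap (QuotientGroup.mk' H)).index =
        (Q : Subgroup (G ⧸ H)).index :=
      Subgroup.index_comap_of_surjective _ (QuotientGroup.mk'_surjective H)
    have h3 := (Q : Subgroup (G ⧸ H)).card_mul_index
    have h4 := ((Q : Subgroup (G ⧸ H)).comap (QuotientGroup.mk' H)).card_mul_index
    rw [h1, hG] at h4
    rw [hQ, hq] at h3
    have hq0 : 0 < q := (Fact.out : q.Prime).pos
    have hi0 : 0 < (Q : Subgroup (G ⧸ H)).index := by
      rcases Nat.eq_zero_or_pos (Q : Subgroup (G ⧸ H)).index with h | h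
      · rw [h] at h3; omega
      · exact h
    have : Nat.card ((Q : Subgroup (G ⧸ H)).comap (QuotientGroup.mk' H)) *
        (Q : Subgroup (G ⧸ H)).index = 2 * q * (Q : Subgroup (G ⧸ H)).index := by
      rw [h4, mul_assoc, h3]; norm_num
    exact Nat.eq_of_mul_eq_mul_right hi0 this
  rcases card_sylow_of_card_thirty hq with h | h
  · have hsub : Subsingleton (Sylow 3 (G ⧸ H)) := (Nat.card_eq_one_iff_unique.mp h).1
    obtain ⟨Q⟩ : Nonempty (Sylow 3 (G ⧸ H)) := inferInstance
    have hQn : (Q : Subgroup (G ⧸ H)).Normal := Q.normal_of_subsingleton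
    have hN : ((Q : Subgroup (G ⧸ H)).comap (QuotientGroup.mk' H)).Normal := hQn.comap _
    have hc := hK 3 Q (by
      have := Cfsg.Agent.H11.sylow_card_of_eq 3 1 10 (by rw [hq]; norm_num) (by norm_num) Q
      simpa using this)
    have := card_le_two_of_not_five_dvd hG h5 ((Q : Subgroup (G ⧸ H)).comap (QuotientGroup.mk' H))
      (by rw [hc]; norm_num)
    omega
  · have hsub : Subsingleton (Sylow 5 (G ⧸ H)) := (Nat.card_eq_one_iff_unique.mp h).1
    obtain ⟨Q⟩ : Nonempty (Sylow 5 (G ⧸ H)) := inferInstance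
    have hQn : (Q : Subgroup (G ⧸ H)).Normal := Q.normal_of_subsingleton
    have hN : ((Q : Subgroup (G ⧸ H)).comap (QuotientGroup.mk' H)).Normal := hQn.comap _
    have hc := hK 5 Q (by
      have := Cfsg.Agent.H11.sylow_card_of_eq 5 1 6 (by rw [hq]; norm_num) (by norm_num) Q
      simpa using this)
    have := le_card_of_five_dvd hG h5 ((Q : Subgroup (G ⧸ H)).comap (QuotientGroup.mk' H))
      (by rw [hc]; norm_num)
    omega

/-- A group of order 60 with more than one Sylow 5-subgroup is simple. -/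
theorem isSimpleGroup_of_card_sixty (hG : Nat.card G = 60) (h5 : Nat.card (Sylow 5 G) ≠ 1) :
    IsSimpleGroup G := by
  have hnt : Nontrivial G := by
    rw [← Finite.one_lt_card_iff_nontrivial, hG]; norm_num
  refine { exists_pair_ne := hnt.exists_pair_ne, eq_bot_or_eq_top_of_normal := ?_ }
  intro H hHn
  have hd : Nat.card H ∣ 60 := by
    have := Subgroup.card_subgroup_dvd_card H
    rwa [hG] at this
  have hle : Nat.card H ≤ 60 := Nat.le_of_dvd (by norm_num) hd
  have h30 := card_ne_thirty hG h5 H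
  have h2 := card_ne_two hG h5 H
  by_cases h : 5 ∣ Nat.card H
  · right
    have h25 := le_card_of_five_dvd hG h5 H h
    rw [← Subgroup.card_eq_iff_eq_top, hG]
    generalize Nat.card H = n at *
    interval_cases n <;> omega
  · left
    have hle2 := card_le_two_of_not_five_dvd hG h5 H h
    have hpos : 0 < Nat.card H := Nat.card_pos
    apply Subgroup.eq_bot_of_card_eq
    omega

end Main

end Cfsg.Agent.H64.Sixty
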