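import Mathlib
import Cfsg.Agent.H69.Ord7920N

set_option autoImplicit false

open Subgroup

namespace Cfsg.Agent.H64.Ord7920

/-- a Sylow 5-subgroup of a group of order 7920 has order 5. -/
theorem card_sylow5 {G : Type*} [Group G] [Finite G] (hord : Nat.card G = 7920) (P : Sylow 5 G) :
    Nat.card (P : Subgroup G) = 5 := by
  haveI : Fact (Nat.Prime 5) := ⟨by norm_num⟩
  obtain ⟨k, hk⟩ := (IsPGroup.iff_card).mp P.2
  have h1 := Subgroup.card_mul_index (P : Subgroup G)
  have h2 : ¬ 5 ∣ (P : Subgroup G).index := P.not_dvd_index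
  rw [hord, hk] at h1
  rcases k with _ | _ | k
  · exfalso
    apply h2
    rw [pow_zero, one_mul] at h1
    rw [h1]
    norm_num
  · rw [hk]; norm_num
  · exfalso
    have : (25 : ℕ) ∣ 7920 := by
      rw [← h1]
      exact Dvd.dvd.mul_right (by rw [pow_succ, pow_succ]; exact ⟨5 ^ k, by ring⟩) _
    omega

/-- in a simple group of order 7920 the normalizer of a Sylow 5-subgroup does not centralize it. -/
theorem not_normalizer_le_centralizer5 {G : Type*} [Group G] [Finite G] [IsSimpleGroup G]
    (hord : Nat.card G = 7920) (P : Sylow 5 G)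
    (h : normalizer ((P : Subgroup G) : Set G) ≤ centralizer ((P : Subgroup G) : Set G)) :
    False := by
  haveI : Fact (Nat.Prime 5) := ⟨by norm_num⟩
  have hP := card_sylow5 hord P
  obtain ⟨K, hKn, -, hKc, -⟩ := Cfsg.Agent.H69.Ord7920.exists_normal_compl (⊤ : Subgroup G) 5
    (P : Subgroup G) le_top P.2 (by rw [Subgroup.card_top, hord, hP]; norm_num)
    (by rw [top_inf_eq]; exact h)
  rw [Subgroup.card_top, hord, hP] at hKc
  rcases hKn.eq_bot_or_eq_top with rfl | rfl
  · rw [Subgroup.card_bot] at hKc; omega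
  · rw [Subgroup.card_top, hord] at hKc; omega

theorem sylow5_normalizer {G : Type*} [Group G] [Finite G] [IsSimpleGroup G]
    (hord : Nat.card G = 7920) (P : Sylow 5 G)
    (hle : Nat.card (normalizer ((P : Subgroup G) : Set G)) ≤ 70) :
    Nat.card (normalizer ((P : Subgroup G) : Set G)) = 20 ∧
      (Nat.card (centralizer ((P : Subgroup G) : Set G)) = 5 ∨
       Nat.card (centralizer ((P : Subgroup G) : Set G)) = 10) := by
  haveI : Fact (Nat.Prime 5) := ⟨by norm_num⟩
  have hP := card_sylow5 hord P
  have h1 : Nat.card (Sylow 5 G) = (normalizer ((P : Subgroup G) : Set G)).index :=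
    Sylow.card_eq_index_normalizer P
  have h2 := Subgroup.card_mul_index (normalizer ((P : Subgroup G) : Set G))
  have h3 : Nat.card (Sylow 5 G) ≡ 1 [MOD 5] := card_sylow_modEq_one 5 G
  rw [← h1, hord] at h2
  unfold Nat.ModEq at h3
  have hNC := Cfsg.Agent.H69.Ord7920.card_inf_normalizer_dvd 5 (P : Subgroup G) hP (⊤ : Subgroup G)
  rw [top_inf_eq, top_inf_eq] at hNC
  have hCN : centralizer ((P : Subgroup G) : Set G) ≤ normalizer ((P : Subgroup G) : Set G) :=
    Subgroup.centralizer_le_normalizer _
  have hCdvd : Nat.card (centralizer ((P : Subgroup G) : Set G))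
      ∣ Nat.card (normalizer ((P : Subgroup G) : Set G)) := Subgroup.card_dvd_of_le hCN
  have hCpos : 0 < Nat.card (centralizer ((P : Subgroup G) : Set G)) := Nat.card_pos
  have hneq : Nat.card (centralizer ((P : Subgroup G) : Set G))
      ≠ Nat.card (normalizer ((P : Subgroup G) : Set G)) := by
    intro he
    apply not_normalizer_le_centralizer5 hord P
    have := Subgroup.eq_of_le_of_card_ge hCN (le_of_eq he.symm)
    rw [this]
  set N := Nat.card (normalizer ((P : Subgroup G) : Set G)) with hN
  set C := Nat.card (centralizer ((P : Subgroup G) : Set G)) with hC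
  set n5 := Nat.card (Sylow 5 G) with hn5
  have hNpos : 0 < N := Nat.card_pos
  have hN2 : N = 20 ∨ N = 45 := by
    clear_value N n5
    interval_cases N <;> omega
  rcases hN2 with hN20 | hN45
  · refine ⟨hN20, ?_⟩
    rw [hN20] at hCdvd hNC hneq
    have hCle : C ≤ 20 := Nat.le_of_dvd (by norm_num) hCdvd
    clear_value C
    interval_cases C <;> omega
  · exfalso
    rw [hN45] at hCdvd hNC hneq
    have hCle : C ≤ 45 := Nat.le_of_dvd (by norm_num) hCdvd
    clear_value C
    interval_cases C <;> omega

example {G : Type*} [Group G] [Finite G] [IsSimpleGroup G]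
    (hord : Nat.card G = 7920) (P : Sylow 5 G)
    (hle : Nat.card (normalizer ((P : Subgroup G) : Set G)) ≤ 70) :
    Nat.card (normalizer ((P : Subgroup G) : Set G)) = 20 ∧
      (Nat.card (centralizer ((P : Subgroup G) : Set G)) = 5 ∨
       Nat.card (centralizer ((P : Subgroup G) : Set G)) = 10) :=
  sylow5_normalizer hord P hle

end Cfsg.Agent.H64.Ord7920
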