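import Mathlib
import Cfsg.Prelude.Def_Blocks
import Cfsg.Agent.H82.Irr

set_option autoImplicit false

open Subgroup

namespace Cfsg.Agent.H64.Ord7920

/-- a simple group of composite order has no nontrivial homomorphism to a commutative group. -/
theorem hom_comm_trivial {G : Type*} [Group G] [Finite G] [IsSimpleGroup G]
    (hord : ¬ (Nat.card G).Prime) {A : Type*} [CommGroup A] (f : G →* A) (x : G) : f x = 1 := by
  rcases (inferInstance : f.ker.Normal).eq_bot_or_eq_top with h | h
  · exfalso
    have hinj : Function.Injective f := (MonoidHom.ker_eq_bot_iff f).mp h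
    have hcomm : ∀ a b : G, a * b = b * a := by
      intro a b
      apply hinj
      rw [map_mul, map_mul, mul_comm]
    letI : CommGroup G := { ‹Group G› with mul_comm := hcomm }
    exact hord (IsSimpleGroup.prime_card (α := G))
  · have : x ∈ f.ker := by rw [h]; exact Subgroup.mem_top x
    exact MonoidHom.mem_ker.mp this

theorem existsUnique_linear {G : Type*} [Group G] [Finite G] [IsSimpleGroup G]
    (hord : Nat.card G = 7920) :
    ∃! χ : Cfsg.IrrCharacter G, Cfsg.charDegree (χ : G → ℂ) = 1 := by
  have hnp : ¬ (Nat.card G).Prime := by rw [hord]; norm_num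
  refine ⟨Cfsg.Agent.H82.linChar (1 : G →* ℂˣ), ?_, ?_⟩
  · have h1 := Cfsg.Agent.H82.irr_one_eq_charDegree (Cfsg.Agent.H82.linChar (1 : G →* ℂˣ))
    rw [Cfsg.Agent.H82.linChar_one] at h1
    exact_mod_cast h1.symm
  · intro χ hχ
    have h1 : χ.1 1 = 1 := by
      rw [Cfsg.Agent.H82.irr_one_eq_charDegree χ, hχ]
      norm_num
    rw [← Cfsg.Agent.H82.linChar_irrLinearHom χ h1]
    congr 1
    ext x
    rw [hom_comm_trivial hnp (Cfsg.Agent.H82.irrLinearHom χ h1) x]
    rfl

example {G : Type*} [Group G] [Finite G] [IsSimpleGroup G]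
    (hord : Nat.card G = 7920) :
    ∃! χ : Cfsg.IrrCharacter G, Cfsg.charDegree (χ : G → ℂ) = 1 :=
  existsUnique_linear hord

end Cfsg.Agent.H64.Ord7920
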