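import Mathlib
import Cfsg.Prelude.Def_Blocks
import Cfsg.Agent.H4.IrrCount
import Cfsg.Agent.H82.Irr

set_option autoImplicit false

open Subgroup

namespace Cfsg.Agent.H64.Ord7920

theorem sum_sq_charDegree {G : Type*} [Group G] [Finite G] [Fintype (Cfsg.IrrCharacter G)] :
    ∑ χ : Cfsg.IrrCharacter G, Cfsg.charDegree (χ : G → ℂ) ^ 2 = Nat.card G := by
  have h := Cfsg.Agent.H4.sum_irr_sq (G := G)
  rw [finsum_eq_sum_of_fintype] at h
  have h2 : ∑ χ : Cfsg.IrrCharacter G, (χ : G → ℂ) 1 ^ 2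
      = ((∑ χ : Cfsg.IrrCharacter G, Cfsg.charDegree (χ : G → ℂ) ^ 2 : ℕ) : ℂ) := by
    rw [Nat.cast_sum]
    refine Finset.sum_congr rfl (fun χ _ => ?_)
    rw [Cfsg.Agent.H82.irr_one_eq_charDegree χ, Nat.cast_pow]
  rw [h2] at h
  exact_mod_cast h

example {G : Type*} [Group G] [Finite G] [Fintype (Cfsg.IrrCharacter G)] :
    ∑ χ : Cfsg.IrrCharacter G, Cfsg.charDegree (χ : G → ℂ) ^ 2 = Nat.card G :=
  sum_sq_charDegree

end Cfsg.Agent.H64.Ord7920
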