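import Mathlib

/-!
# Downstream of Dickson: tools for maximality of subgroups of `PSL_2(q)`

Two isomorphism-invariant predicates:
* `SqComm X`: squares commute (true for cyclic and dihedral groups);
* `CP p X`: every commutator is a `p`-element (true for subgroups of a Sylow normaliser of
  `PSL_2(q)` in characteristic `p`).
-/

set_option autoImplicit false

namespace Cfsg.Agent.H64.DU

/-- Squares commute. -/
def SqComm (X : Type*) [Group X] : Prop := ∀ x y : X, x ^ 2 * y ^ 2 = y ^ 2 * x ^ 2

/-- All commutators are `p`-elements. -/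
def CP (p : ℕ) (X : Type*) [Group X] : Prop :=
  ∀ x y : X, ∃ n : ℕ, (x * y * x⁻¹ * y⁻¹) ^ (p ^ n) = 1

theorem SqComm.of_injective {A B : Type*} [Group A] [Group B] (f : A →* B)
    (hf : Function.Injective f) (h : SqComm B) : SqComm A := by
  intro x y
  apply hf
  simpa using h (f x) (f y)

theorem CP.of_injective {p : ℕ} {A B : Type*} [Group A] [Group B] (f : A →* B)
    (hf : Function.Injective f) (h : CP p B) : CP p A := by
  intro x y
  obtain ⟨n, hn⟩ := h (f x) (f y)
  refine ⟨n, hf ?_⟩
  simpa using hn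

theorem sqComm_of_isCyclic (X : Type*) [Group X] [IsCyclic X] : SqComm X := by
  intro x y
  let _ := IsCyclic.commGroup (α := X)
  exact mul_comm _ _

theorem sqComm_dihedral (k : ℕ) : SqComm (DihedralGroup k) := by
  intro x y
  rcases x with i | i <;> rcases y with j | j <;>
    simp [sq, add_comm]

/-- A commutator of prime order `r` in a `CP p` group forces `r = p`. -/
theorem CP.prime_eq {p : ℕ} [Fact p.Prime] {X : Type*} [Group X] (h : CP p X) (x y : X)
    (r : ℕ) (hr : r.Prime) (h1 : (x * y * x⁻¹ * y⁻¹) ^ r = 1) (h2 : x * y * x⁻¹ * y⁻¹ ≠ 1) :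
    r = p := by
  obtain ⟨n, hn⟩ := h x y
  have : Fact r.Prime := ⟨hr⟩
  have ho : orderOf (x * y * x⁻¹ * y⁻¹) = r := orderOf_eq_prime h1 h2
  have hd : r ∣ p ^ n := ho ▸ orderOf_dvd_of_pow_eq_one hn
  exact (Nat.prime_dvd_prime_iff_eq hr (Fact.out : p.Prime)).mp (hr.dvd_of_dvd_pow hd)

/-! ### Small permutation groups -/

theorem not_sqComm_S4 : ¬ SqComm (Equiv.Perm (Fin 4)) := by
  intro h
  have := h (c[0, 1, 2]) (c[0, 1, 3])
  revert this
  decide

theorem not_cp_S4 (p : ℕ) [Fact p.Prime] : ¬ CP p (Equiv.Perm (Fin 4)) := by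
  intro h
  have h2 : 2 = p := h.prime_eq (c[0, 1, 2]) (c[0, 1, 3]) 2 Nat.prime_two (by decide) (by decide)
  have h3 : 3 = p := h.prime_eq (c[0, 1]) (c[0, 2]) 3 Nat.prime_three (by decide) (by decide)
  omega

def a4x : alternatingGroup (Fin 4) := ⟨c[0, 1, 2], Equiv.Perm.mem_alternatingGroup.mpr (by decide)⟩
def a4y : alternatingGroup (Fin 4) := ⟨c[0, 1, 3], Equiv.Perm.mem_alternatingGroup.mpr (by decide)⟩

theorem not_sqComm_A4 : ¬ SqComm (alternatingGroup (Fin 4)) := by
  intro h
  have := congrArg Subtype.val (h a4x a4y)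
  simp only [a4x, a4y, Subgroup.coe_mul, Subgroup.coe_pow] at this
  revert this
  decide

theorem not_cp_A4 (p : ℕ) [Fact p.Prime] (hp : p ≠ 2) : ¬ CP p (alternatingGroup (Fin 4)) := by
  intro h
  have h2 : 2 = p := by
    refine h.prime_eq a4x a4y 2 Nat.prime_two (Subtype.ext ?_) (fun hh => ?_)
    · simp only [a4x, a4y, Subgroup.coe_mul, Subgroup.coe_pow, Subgroup.coe_inv, Subgroup.coe_one]
      decide
    · have := congrArg Subtype.val hh
      simp only [a4x, a4y, Subgroup.coe_mul, Subgroup.coe_inv, Subgroup.coe_one] at this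
      revert this
      decide
  omega

def a5x : alternatingGroup (Fin 5) := ⟨c[0, 1, 2], Equiv.Perm.mem_alternatingGroup.mpr (by decide)⟩
def a5y : alternatingGroup (Fin 5) := ⟨c[0, 1, 3], Equiv.Perm.mem_alternatingGroup.mpr (by decide)⟩
def a5u : alternatingGroup (Fin 5) :=
  ⟨c[0, 1] * c[3, 4], Equiv.Perm.mem_alternatingGroup.mpr (by decide)⟩
def a5v : alternatingGroup (Fin 5) :=
  ⟨c[0, 2] * c[3, 4], Equiv.Perm.mem_alternatingGroup.mpr (by decide)⟩

theorem not_sqComm_A5 : ¬ SqComm (alternatingGroup (Fin 5)) := by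
  intro h
  have := congrArg Subtype.val (h a5x a5y)
  simp only [a5x, a5y, Subgroup.coe_mul, Subgroup.coe_pow] at this
  revert this
  decide

set_option maxRecDepth 100000 in
theorem not_cp_A5 (p : ℕ) [Fact p.Prime] : ¬ CP p (alternatingGroup (Fin 5)) := by
  intro h
  have h2 : 2 = p := by
    refine h.prime_eq a5x a5y 2 Nat.prime_two (Subtype.ext ?_) (fun hh => ?_)
    · simp only [a5x, a5y, Subgroup.coe_mul, Subgroup.coe_pow, Subgroup.coe_inv, Subgroup.coe_one]
      decide
    · have := congrArg Subtype.val hh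
      simp only [a5x, a5y, Subgroup.coe_mul, Subgroup.coe_inv, Subgroup.coe_one] at this
      revert this
      decide
  have h3 : 3 = p := by
    refine h.prime_eq a5u a5v 3 Nat.prime_three (Subtype.ext ?_) (fun hh => ?_)
    · simp only [a5u, a5v, Subgroup.coe_mul, Subgroup.coe_pow, Subgroup.coe_inv, Subgroup.coe_one]
      decide
    · have := congrArg Subtype.val hh
      simp only [a5u, a5v, Subgroup.coe_mul, Subgroup.coe_inv, Subgroup.coe_one] at this
      revert this
      decide
  omega

theorem card_A4 : Nat.card (alternatingGroup (Fin 4)) = 12 := by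
  have h := two_mul_card_alternatingGroup (α := Fin 4)
  rw [Fintype.card_perm, Fintype.card_fin] at h
  rw [Nat.card_eq_fintype_card]
  have : Nat.factorial 4 = 24 := rfl
  omega

theorem card_S4 : Nat.card (Equiv.Perm (Fin 4)) = 24 := by
  rw [Nat.card_eq_fintype_card, Fintype.card_perm]; rfl

theorem card_A5 : Nat.card (alternatingGroup (Fin 5)) = 60 := by
  have h := two_mul_card_alternatingGroup (α := Fin 5)
  rw [Fintype.card_perm, Fintype.card_fin] at h
  rw [Nat.card_eq_fintype_card]
  have : Nat.factorial 5 = 120 := rfl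
  omega

end Cfsg.Agent.H64.DU
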