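import Cfsg.Agent.H64.DU4
import Cfsg.Agent.S0802

/-!
# Downstream of Dickson, part 5: the maximal subgroups `S_4`, `A_4`, `A_5`, `PGL_2(q₀)`,
`PSL_2(q₀)` of `PSL_2(q)`, conditionally on Dickson's list (`DkConcl`) for all subgroups.
-/

set_option autoImplicit false

namespace Cfsg.Agent.H64.DU

open scoped MatrixGroups
open Matrix

theorem main_5938 {F : Type*} [Field F] [Fintype F] (p : ℕ) [Fact p.Prime]
    (hF : Fintype.card F = p) (hp : p % 8 = 1 ∨ p % 8 = 7)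
    (hD : ∀ M : Subgroup PSL(2, F), DkConcl (p ^ 1) p M) :
    ∃ H : Subgroup PSL(2, F), IsCoatom H ∧ Nonempty (H ≃* Equiv.Perm (Fin 4)) := by
  have hF' : Fintype.card F = p ^ 1 := by rw [pow_one]; exact hF
  have : CharP F p := charP_of_card_eq_prime_pow p 1 hF'
  have h16 : p ^ 2 % 16 = 1 := by
    have h' : p % 16 = 1 ∨ p % 16 = 9 ∨ p % 16 = 7 ∨ p % 16 = 15 := by omega
    rcases h' with h | h | h | h <;> simp [Nat.pow_mod, h]
  obtain ⟨H, ⟨e⟩⟩ := (Cfsg.Agent.S0803.result hF).mpr h16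
  refine ⟨H, isCoatom_of_dk p 1 hF' hD H e not_sqComm_S4 (not_cp_S4 p) ?_, ⟨e⟩⟩
  rw [card_S4]
  exact arith_5938 p Fact.out hp

theorem main_5940 {F : Type*} [Field F] [Fintype F] (p : ℕ) [Fact p.Prime]
    (hF : Fintype.card F = p) (h5 : 5 ≤ p) (h8 : p % 8 = 3 ∨ p % 8 = 5)
    (h10 : p % 10 ≠ 1 ∧ p % 10 ≠ 9)
    (hD : ∀ M : Subgroup PSL(2, F), DkConcl (p ^ 1) p M) :
    ∃ H : Subgroup PSL(2, F), IsCoatom H ∧ Nonempty (H ≃* alternatingGroup (Fin 4)) := by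
  have hF' : Fintype.card F = p ^ 1 := by rw [pow_one]; exact hF
  have : CharP F p := charP_of_card_eq_prime_pow p 1 hF'
  obtain ⟨H, ⟨e⟩⟩ := (Cfsg.Agent.S0802.result p 1 hF').mpr (fun h => by omega)
  refine ⟨H, isCoatom_of_dk p 1 hF' hD H e not_sqComm_A4 (not_cp_A4 p (by omega)) ?_, ⟨e⟩⟩
  rw [card_A4]
  exact arith_5940 p Fact.out h5 h8 h10

theorem main_5939 {F : Type*} [Field F] [Fintype F] (p : ℕ) [Fact p.Prime] [CharP F p]
    (h : (Fintype.card F = p ∧ (p % 10 = 1 ∨ p % 10 = 9)) ∨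
      (Fintype.card F = p ^ 2 ∧ (p % 10 = 3 ∨ p % 10 = 7)))
    (hD : ∀ n : ℕ, Fintype.card F = p ^ n → ∀ M : Subgroup PSL(2, F), DkConcl (p ^ n) p M) :
    ∃ H : Subgroup PSL(2, F), IsCoatom H ∧ Nonempty (H ≃* alternatingGroup (Fin 5)) := by
  rcases h with ⟨hF, h10⟩ | ⟨hF, h10⟩
  · have hF' : Fintype.card F = p ^ 1 := by rw [pow_one]; exact hF
    have h5 : 5 ∣ p * (p ^ 2 - 1) := by
      apply dvd_mul_of_dvd_right
      have h' : p % 5 = 1 ∨ p % 5 = 4 := by omega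
      have h4 : p ^ 2 % 5 = 1 := by
        rcases h' with h' | h' <;> simp [Nat.pow_mod, h']
      omega
    obtain ⟨H, ⟨e⟩⟩ := (Cfsg.Agent.S0804.result hF).mpr h5
    refine ⟨H, isCoatom_of_dk p 1 hF' (hD 1 hF') H e not_sqComm_A5 (not_cp_A5 p) ?_, ⟨e⟩⟩
    rw [card_A5]
    exact arith_5939a p Fact.out h10
  · have h5 : 5 ∣ p ^ 2 * ((p ^ 2) ^ 2 - 1) := by
      apply dvd_mul_of_dvd_right
      have h' : p % 5 = 3 ∨ p % 5 = 2 := by omega
      have h4 : (p ^ 2) ^ 2 % 5 = 1 := by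
        rw [← pow_mul]
        rcases h' with h' | h' <;> simp [Nat.pow_mod, h']
      omega
    obtain ⟨H, ⟨e⟩⟩ := (Cfsg.Agent.S0804.result hF).mpr h5
    refine ⟨H, isCoatom_of_dk p 2 hF (hD 2 hF) H e not_sqComm_A5 (not_cp_A5 p) ?_, ⟨e⟩⟩
    rw [card_A5]
    exact arith_5939b p Fact.out h10

theorem main_5941 {F K : Type*} [Field F] [Fintype F] [Field K] [Fintype K] (q : ℕ)
    (hK : Fintype.card K = q) (hF : Fintype.card F = q ^ 2) (hq : Odd q)
    (hD : ∀ (p n : ℕ) [Fact p.Prime] [CharP F p], Fintype.card F = p ^ n →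
      ∀ M : Subgroup PSL(2, F), DkConcl (p ^ n) p M) :
    ∃ H : Subgroup PSL(2, F), IsCoatom H ∧ Nonempty (H ≃* Matrix.ProjGenLinGroup (Fin 2) K) := by
  obtain ⟨p, hpK⟩ := CharP.exists K
  have : Fact p.Prime := ⟨CharP.char_is_prime K p⟩
  obtain ⟨e, -, hcard⟩ := FiniteField.card K p
  have hFc : Fintype.card F = p ^ ((e : ℕ) * 2) := by rw [hF, ← hK, hcard, pow_mul]
  have : CharP F p := charP_of_card_eq_prime_pow p _ hFc
  have hp2 : p ≠ 2 := by
    rintro rfl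
    have hev : Even (Fintype.card K) := by
      rw [hcard]
      exact Nat.even_pow.mpr ⟨even_two, e.pos.ne'⟩
    rw [hK] at hev
    exact (Nat.not_even_iff_odd.mpr hq) hev
  have hK3 : 3 ≤ Fintype.card K := by
    have h2 : 2 ≤ Fintype.card K := Fintype.one_lt_card
    rw [hK] at h2 ⊢
    obtain ⟨k, hk⟩ := hq
    omega
  obtain ⟨H, ⟨e'⟩⟩ := ((Cfsg.Agent.S0805.result (F := F) (K := K) hF hq.pow 2 (by norm_num)
    (by rw [hK])).2).mpr even_two
  refine ⟨H, isCoatom_of_dk p ((e : ℕ) * 2) hFc (hD p _ hFc) H e' ?_ ?_ ?_, ⟨e'⟩⟩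
  · intro h
    exact not_sqComm_PSL2 K hK3 (h.of_injective Matrix.ProjectiveSpecialLinearGroup.toPGL
      Matrix.ProjectiveSpecialLinearGroup.toPGL_injective)
  · intro h
    exact not_cp_PSL2 K p (h.of_injective Matrix.ProjectiveSpecialLinearGroup.toPGL
      Matrix.ProjectiveSpecialLinearGroup.toPGL_injective)
  · rw [card_PGL2, hcard]
    exact arith_5941 p Fact.out hp2 e e.pos

theorem main_5942 {F K : Type*} [Field F] [Fintype F] [Field K] [Fintype K] (q r : ℕ)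
    (hK : Fintype.card K = q) (hF : Fintype.card F = q ^ r) (hq : Odd q) (hr : r.Prime)
    (hr2 : r ≠ 2)
    (hD : ∀ (p n : ℕ) [Fact p.Prime] [CharP F p], Fintype.card F = p ^ n →
      ∀ M : Subgroup PSL(2, F), DkConcl (p ^ n) p M) :
    ∃ H : Subgroup PSL(2, F), IsCoatom H ∧ Nonempty (H ≃* PSL(2, K)) := by
  obtain ⟨p, hpK⟩ := CharP.exists K
  have : Fact p.Prime := ⟨CharP.char_is_prime K p⟩
  obtain ⟨e, -, hcard⟩ := FiniteField.card K p
  have hFc : Fintype.card F = p ^ ((e : ℕ) * r) := by rw [hF, ← hK, hcard, pow_mul]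
  have : CharP F p := charP_of_card_eq_prime_pow p _ hFc
  have hp2 : p ≠ 2 := by
    rintro rfl
    have hev : Even (Fintype.card K) := by
      rw [hcard]
      exact Nat.even_pow.mpr ⟨even_two, e.pos.ne'⟩
    rw [hK] at hev
    exact (Nat.not_even_iff_odd.mpr hq) hev
  have hK3 : 3 ≤ Fintype.card K := by
    have h2 : 2 ≤ Fintype.card K := Fintype.one_lt_card
    rw [hK] at h2 ⊢
    obtain ⟨k, hk⟩ := hq
    omega
  obtain ⟨H, ⟨e'⟩⟩ := (Cfsg.Agent.S0805.result (F := F) (K := K) hF hq.pow r hr.one_le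
    (by rw [hK])).1
  refine ⟨H, isCoatom_of_dk p ((e : ℕ) * r) hFc (hD p _ hFc) H e' (not_sqComm_PSL2 K hK3)
    (not_cp_PSL2 K p) ?_, ⟨e'⟩⟩
  refine arith_5942 p Fact.out hp2 e r e.pos hr hr2 _ ?_
  have := card_PSL2_gcd K
  rwa [hcard] at this

theorem charP_two_of_even_card (F : Type*) [Field F] [Fintype F] (he : Even (Fintype.card F)) :
    CharP F 2 := by
  have hc : ringChar F = 2 := FiniteField.even_card_iff_char_two.mpr (Nat.even_iff.mp he)
  exact ringChar.of_eq hc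

theorem main_5943 {F K : Type*} [Field F] [Fintype F] [Field K] [Fintype K] (q r : ℕ)
    (hK : Fintype.card K = q) (hF : Fintype.card F = q ^ r) (hq : Even q) (hq2 : q ≠ 2)
    (hr : r.Prime)
    (hD : ∀ (p n : ℕ) [Fact p.Prime] [CharP F p], Fintype.card F = p ^ n →
      ∀ M : Subgroup PSL(2, F), DkConcl (p ^ n) p M) :
    ∃ H : Subgroup PSL(2, F), IsCoatom H ∧ Nonempty (H ≃* PSL(2, K)) := by
  have : CharP K 2 := charP_two_of_even_card K (hK ▸ hq)
  obtain ⟨e, -, hcard⟩ := FiniteField.card K 2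
  have he2 : 2 ≤ (e : ℕ) := by
    by_contra hlt
    have h1 : (e : ℕ) = 1 := by
      have := e.pos
      omega
    rw [h1, pow_one] at hcard
    omega
  have hFc : Fintype.card F = 2 ^ ((e : ℕ) * r) := by rw [hF, ← hK, hcard, pow_mul]
  have : CharP F 2 := charP_of_card_eq_prime_pow 2 _ hFc
  have hK3 : 3 ≤ Fintype.card K := by
    rw [hcard]
    calc 3 ≤ 2 ^ 2 := by norm_num
      _ ≤ 2 ^ (e : ℕ) := Nat.pow_le_pow_right (by norm_num) he2
  obtain ⟨f⟩ := Cfsg.Agent.S0805.exists_field_hom (F := F) (K := K) r (by rw [hK, hF])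
  obtain ⟨H, ⟨e'⟩⟩ := Cfsg.Agent.S0805.exists_subgroup_of_range_le _
    Matrix.ProjectiveSpecialLinearGroup.toPGL_injective
    ((Cfsg.Agent.S0805.pglMap f).comp Matrix.ProjectiveSpecialLinearGroup.toPGL)
    ((Cfsg.Agent.S0805.pglMap_injective f).comp
      Matrix.ProjectiveSpecialLinearGroup.toPGL_injective)
    (Cfsg.Agent.S0805.psl_range_le f)
  refine ⟨H, isCoatom_of_dk 2 ((e : ℕ) * r) hFc (hD 2 _ hFc) H e' (not_sqComm_PSL2 K hK3)
    (not_cp_PSL2 K 2) ?_, ⟨e'⟩⟩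
  refine arith_5943 e r he2 hr _ ?_
  have := card_PSL2_gcd K
  rwa [hcard] at this

end Cfsg.Agent.H64.DU
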