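import Mathlib

/-!
# S0420-TI (helper64 for helper93): Sylow 3-subgroups through an element of order 3
-/

set_option autoImplicit false
set_option linter.style.haveILetI false

namespace Cfsg.Agent.H64.M11

open Subgroup

/-- The order of a Sylow `p`-subgroup when `|G| = p ^ k * m` with `p ∤ m`. -/
theorem card_sylow_eq {G : Type*} [Group G] [Finite G] {p : ℕ} [hp : Fact p.Prime]
    (P : Sylow p G) (k m : ℕ) (hG : Nat.card G = p ^ k * m) (hm : ¬ p ∣ m) :
    Nat.card (P : Subgroup G) = p ^ k := by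
  rw [Sylow.card_eq_multiplicity, hG]
  congr 1
  have hm0 : m ≠ 0 := by
    rintro rfl
    exact hm (dvd_zero p)
  rw [Nat.factorization_mul (pow_ne_zero _ hp.out.ne_zero) hm0, Finsupp.add_apply,
    Nat.Prime.factorization_pow hp.out, Finsupp.single_eq_same,
    Nat.factorization_eq_zero_of_not_dvd hm, add_zero]

/-- A subgroup of order `p ^ 2` is commutative (element form). -/
theorem comm_of_card_sq {G : Type*} [Group G] {p : ℕ} [Fact p.Prime] (H : Subgroup G)
    (hH : Nat.card H = p ^ 2) {a b : G} (ha : a ∈ H) (hb : b ∈ H) : a * b = b * a := by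
  have hc := IsPGroup.isMulCommutative_of_card_eq_prime_sq hH
  have := hc.is_comm.comm (⟨a, ha⟩ : H) ⟨b, hb⟩
  exact congrArg Subtype.val this

/-- **S0420-TI**. -/
theorem sylow3_unique_of_mem {G : Type*} [Group G] [Finite G] (hG : Nat.card G = 7920)
    (h18 : ∀ x : G, orderOf x = 3 → Nat.card (centralizer ({x} : Set G)) = 18)
    (P P' : Sylow 3 G) (x : G) (hx : orderOf x = 3) (hP : x ∈ (P : Subgroup G))
    (hP' : x ∈ (P' : Subgroup G)) : P = P' := by
  haveI : Fact (Nat.Prime 3) := ⟨by norm_num⟩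
  have h9 : ∀ Q : Sylow 3 G, Nat.card (Q : Subgroup G) = 3 ^ 2 := fun Q =>
    card_sylow_eq Q 2 880 (by rw [hG]; norm_num) (by norm_num)
  have hle : ∀ Q : Sylow 3 G, x ∈ (Q : Subgroup G) →
      (Q : Subgroup G) ≤ centralizer ({x} : Set G) := by
    intro Q hxQ y hy
    rw [Subgroup.mem_centralizer_iff]
    intro z hz
    rw [Set.mem_singleton_iff] at hz
    subst hz
    exact comm_of_card_sq (Q : Subgroup G) (h9 Q) hxQ hy
  have hidx : ((P : Subgroup G).subgroupOf (centralizer ({x} : Set G))).index = 2 := by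
    have h1 := Subgroup.card_mul_index
      ((P : Subgroup G).subgroupOf (centralizer ({x} : Set G)))
    have h2 : Nat.card ((P : Subgroup G).subgroupOf (centralizer ({x} : Set G))) = 9 := by
      rw [Nat.card_congr (Subgroup.subgroupOfEquivOfLe (hle P hP)).toEquiv, h9 P]
      norm_num
    rw [h2, h18 x hx] at h1
    omega
  have hle' : (P' : Subgroup G) ≤ (P : Subgroup G) := by
    intro y hy
    have hyC : y ∈ centralizer ({x} : Set G) := hle P' hP' hy
    have h1 := Subgroup.sq_mem_of_index_two hidx (⟨y, hyC⟩ : centralizer ({x} : Set G))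
    rw [Subgroup.mem_subgroupOf] at h1
    have h1' : y ^ 2 ∈ (P : Subgroup G) := by simpa using h1
    have h2 : y ^ 9 = 1 := by
      have h3 : orderOf y ∣ 9 := by
        have := Subgroup.orderOf_dvd_natCard (P' : Subgroup G) hy
        rw [h9 P'] at this
        simpa using this
      exact orderOf_dvd_iff_pow_eq_one.mp h3
    have h3 : y = y ^ 9 * ((y ^ 2) ^ 4)⁻¹ := by
      rw [← pow_mul]
      group
    rw [h3, h2, one_mul]
    exact inv_mem (pow_mem h1' 4)
  exact (Sylow.ext (Subgroup.eq_of_le_of_card_ge hle' (by rw [h9 P, h9 P']))).symm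

example {G : Type*} [Group G] [Finite G] (hG : Nat.card G = 7920)
    (h18 : ∀ x : G, orderOf x = 3 → Nat.card (centralizer ({x} : Set G)) = 18)
    (P P' : Sylow 3 G) (x : G) (hx : orderOf x = 3) (hP : x ∈ (P : Subgroup G))
    (hP' : x ∈ (P' : Subgroup G)) : P = P' :=
  sylow3_unique_of_mem hG h18 P P' x hx hP hP'

end Cfsg.Agent.H64.M11
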