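import Mathlib
import Cfsg.Agent.H64.M11TI

/-!
# S0420-FREE (helper64 for helper93): the centralizer of a pair `(g, x)` is trivial
-/

set_option autoImplicit false
set_option linter.style.haveILetI false

namespace Cfsg.Agent.H64.M11

open Subgroup

/-- Adjoining a commuting involution `c ∉ H` to a subgroup `H` doubles its order. -/
theorem exists_ext_invol {G : Type*} [Group G] [Finite G] (H : Subgroup G) (c : G)
    (hc : c * c = 1) (hcH : c ∉ H) (hcomm : ∀ h ∈ H, c * h = h * c) :
    ∃ K : Subgroup G, (∀ y, y ∈ K ↔ y ∈ H ∨ y * c ∈ H) ∧ Nat.card K = 2 * Nat.card H ∧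
      ((∀ h ∈ H, h * h = 1) → ∀ y ∈ K, y * y = 1) ∧
      (∀ d : G, (∀ h ∈ H, d * h = h * d) → d * c = c * d → ∀ y ∈ K, d * y = y * d) := by
  have hcinv : c⁻¹ = c := inv_eq_of_mul_eq_one_left hc
  let K : Subgroup G :=
    { carrier := {y | y ∈ H ∨ y * c ∈ H}
      one_mem' := Or.inl H.one_mem
      mul_mem' := by
        rintro a b (ha | ha) (hb | hb)
        · exact Or.inl (H.mul_mem ha hb)
        · right
          rw [mul_assoc]
          exact H.mul_mem ha hb
        · right
          have h1 : a * b * c = a * c * b := by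
            rw [mul_assoc, mul_assoc, hcomm b hb]
          rw [h1]
          exact H.mul_mem ha hb
        · left
          have h1 : a * b = (a * c) * (b * c) := by
            rw [mul_assoc a c, hcomm (b * c) hb, mul_assoc b c c, hc, mul_one]
          rw [h1]
          exact H.mul_mem ha hb
      inv_mem' := by
        rintro a (ha | ha)
        · exact Or.inl (H.inv_mem ha)
        · right
          have h1 := hcomm (a * c)⁻¹ (H.inv_mem ha)
          have h2 : a⁻¹ * c = (a * c)⁻¹ := by
            calc a⁻¹ * c = c * (a * c)⁻¹ * c := by group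
              _ = (a * c)⁻¹ * c * c := by rw [h1]
              _ = (a * c)⁻¹ := by rw [mul_assoc, hc, mul_one]
          rw [h2]
          exact H.inv_mem ha }
  have hmem : ∀ y, y ∈ K ↔ y ∈ H ∨ y * c ∈ H := fun y => Iff.rfl
  refine ⟨K, hmem, ?_, ?_, ?_⟩
  · have hset : (K : Set G) = (H : Set G) ∪ (fun h => h * c) '' (H : Set G) := by
      ext y
      simp only [SetLike.mem_coe, Set.mem_union, Set.mem_image]
      rw [hmem]
      constructor
      · rintro (h | h)
        · exact Or.inl h
        · exact Or.inr ⟨y * c, h, by rw [mul_assoc, hc, mul_one]⟩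
      · rintro (h | ⟨z, hz, rfl⟩)
        · exact Or.inl h
        · right
          rw [mul_assoc, hc, mul_one]
          exact hz
    have hdisj : Disjoint (H : Set G) ((fun h => h * c) '' (H : Set G)) := by
      rw [Set.disjoint_left]
      rintro y hy ⟨z, hz, rfl⟩
      apply hcH
      have : c = z⁻¹ * (z * c) := by group
      rw [this]
      exact H.mul_mem (H.inv_mem hz) hy
    have h1 : Nat.card K = (K : Set G).ncard := Nat.card_coe_set_eq (K : Set G)
    have h2 : Nat.card H = (H : Set G).ncard := Nat.card_coe_set_eq (H : Set G)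
    rw [h1, hset, Set.ncard_union_eq hdisj (Set.toFinite _) (Set.toFinite _),
      Set.ncard_image_of_injective _ (mul_left_injective c), ← h2]
    ring
  · intro hexp y hy
    rcases (hmem y).1 hy with h | h
    · exact hexp y h
    · have h1 := hexp _ h
      have h2 := hcomm _ h
      have hy' : y = y * c * c := by rw [mul_assoc, hc, mul_one]
      calc y * y = (y * c * c) * (y * c * c) := by rw [← hy']
        _ = (y * c) * (c * (y * c)) * c := by simp only [mul_assoc]
        _ = (y * c) * ((y * c) * c) * c := by rw [h2]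
        _ = ((y * c) * (y * c)) * (c * c) := by simp only [mul_assoc]
        _ = 1 := by rw [h1, hc, one_mul]
  · intro d hd hdc y hy
    rcases (hmem y).1 hy with h | h
    · exact hd y h
    · have h1 := hd _ h
      have h2 : d * y * c = y * d * c := by
        calc d * y * c = d * (y * c) := by rw [mul_assoc]
          _ = y * c * d := h1
          _ = y * (c * d) := by rw [mul_assoc]
          _ = y * (d * c) := by rw [hdc]
          _ = y * d * c := by rw [mul_assoc]
      exact mul_right_cancel h2

/-- **S0420-FREE**. -/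
theorem centralizer_pair_trivial {G : Type*} [Group G] [Finite G]
    (h18 : ∀ x : G, orderOf x = 3 → Nat.card (centralizer ({x} : Set G)) = 18)
    (hnoE8 : ∀ E : Subgroup G, Nat.card E = 8 → ¬ ∀ e ∈ E, e * e = 1)
    (g x c : G) (hg : orderOf g = 2) (hx : orderOf x = 3) (hgx : orderOf (g * x) = 3)
    (hcg : c * g = g * c) (hcx : c * x = x * c) : c = 1 := by
  by_contra hc1
  haveI : Fact (Nat.Prime 3) := ⟨by norm_num⟩
  have hg2 : g * g = 1 := by rw [← pow_two, ← hg, pow_orderOf_eq_one]
  have hginv : g⁻¹ = g := inv_eq_of_mul_eq_one_left hg2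
  have hg1 : g ≠ 1 := by
    rintro rfl
    simp at hg
  have hx3 : x ^ 3 = 1 := by rw [← hx, pow_orderOf_eq_one]
  have hgx3 : (g * x) ^ 3 = 1 := by rw [← hgx, pow_orderOf_eq_one]
  have hncomm : ∀ a : G, a * a = 1 → a ≠ 1 → (a * x) ^ 3 = 1 → a * x ≠ x * a := by
    intro a ha2 ha1 hax3 h
    have h1 : (a * x) ^ 3 = a ^ 3 * x ^ 3 := Commute.mul_pow (show Commute a x from h) 3
    rw [hax3, hx3, mul_one] at h1
    apply ha1
    have h3 : a ^ 3 = a := by rw [pow_succ, pow_two, ha2, one_mul]
    rw [← h3, ← h1]
  have hgxne := hncomm g hg2 hg1 hgx3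
  have hcC : c ∈ centralizer ({x} : Set G) := by
    rw [Subgroup.mem_centralizer_iff]
    intro z hz
    rw [Set.mem_singleton_iff] at hz
    subst hz
    exact hcx.symm
  have hdvd : orderOf c ∣ 18 := by
    have := Subgroup.orderOf_dvd_natCard _ hcC
    rwa [h18 x hx] at this
  have hne1 : orderOf c ≠ 1 := by rwa [Ne, orderOf_eq_one_iff]
  obtain ⟨q, hq, hqc⟩ := Nat.exists_prime_and_dvd hne1
  have hq23 : q = 2 ∨ q = 3 := by
    have hq18 : q ∣ 2 * 3 ^ 2 := hqc.trans hdvd
    rcases (Nat.Prime.dvd_mul hq).1 hq18 with h | h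
    · exact Or.inl ((Nat.prime_dvd_prime_iff_eq hq Nat.prime_two).1 h)
    · exact Or.inr ((Nat.prime_dvd_prime_iff_eq hq Nat.prime_three).1
        (hq.dvd_of_dvd_pow h))
  have hord : orderOf (c ^ (orderOf c / q)) = q :=
    orderOf_pow_orderOf_div (orderOf_pos c).ne' hqc
  have hc'g : c ^ (orderOf c / q) * g = g * c ^ (orderOf c / q) :=
    (Commute.pow_left (show Commute c g from hcg) _).eq
  have hc'x : c ^ (orderOf c / q) * x = x * c ^ (orderOf c / q) :=
    (Commute.pow_left (show Commute c x from hcx) _).eq
  generalize c ^ (orderOf c / q) = c' at hord hc'g hc'x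
  rcases hq23 with rfl | rfl
  · -- an involution `c'` commuting with `g` and `x`
    have hc2 : c' * c' = 1 := by rw [← pow_two, ← hord, pow_orderOf_eq_one]
    have hc'1 : c' ≠ 1 := by
      rintro rfl
      simp at hord
    have hc'inv : c'⁻¹ = c' := inv_eq_of_mul_eq_one_left hc2
    have hxinv : x⁻¹ * x⁻¹ = x := by
      have : x * (x⁻¹ * x⁻¹)⁻¹ = 1 := by
        rw [mul_inv_rev, inv_inv, ← pow_two, ← pow_succ']
        exact hx3
      have h2 := eq_of_mul_inv_eq_one this
      exact h2.symm
    -- relations
    have hrel : g * x * g = x⁻¹ * g * x⁻¹ := by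
      have h1 : (g * x * g) * (x * g * x) = 1 := by
        have := hgx3
        simp only [pow_succ, pow_zero, one_mul] at this
        simpa [mul_assoc] using this
      have h2 := eq_inv_of_mul_eq_one_left h1
      rw [h2, mul_inv_rev, mul_inv_rev, hginv, mul_assoc]
    have hg₁2 : (x * g * x⁻¹) * (x * g * x⁻¹) = 1 := by
      calc (x * g * x⁻¹) * (x * g * x⁻¹) = x * (g * g) * x⁻¹ := by group
        _ = 1 := by rw [hg2]; group
    have hprod : g * (x * g * x⁻¹) = x⁻¹ * g * x := by
      calc g * (x * g * x⁻¹) = (g * x * g) * x⁻¹ := by group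
        _ = x⁻¹ * g * (x⁻¹ * x⁻¹) := by rw [hrel]; group
        _ = x⁻¹ * g * x := by rw [hxinv]
    have hprod2 : (g * (x * g * x⁻¹)) * (g * (x * g * x⁻¹)) = 1 := by
      rw [hprod]
      calc x⁻¹ * g * x * (x⁻¹ * g * x) = x⁻¹ * (g * g) * x := by group
        _ = 1 := by rw [hg2]; group
    have hcomm₁ : (x * g * x⁻¹) * g = g * (x * g * x⁻¹) := by
      have h1 := eq_inv_of_mul_eq_one_left hprod2
      have h2 : (g * (x * g * x⁻¹))⁻¹ = (x * g * x⁻¹) * g := by
        rw [mul_inv_rev, hginv, inv_eq_of_mul_eq_one_left hg₁2]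
      rw [← h2, ← h1]
    have hg₁ne1 : x * g * x⁻¹ ≠ 1 := by
      intro h
      apply hg1
      have : g = x⁻¹ * (x * g * x⁻¹) * x := by group
      rw [this, h]
      group
    have hg₁neg : x * g * x⁻¹ ≠ g := by
      intro h
      apply hgxne
      have : x * g = x * g * x⁻¹ * x := by group
      rw [this, h]
    -- `c'` is none of `g`, `x g x⁻¹`, `x⁻¹ g x`
    have hc'neg : c' ≠ g := by
      rintro rfl
      exact hgxne hc'x
    have hc'g₁ : c' * (x * g * x⁻¹) = (x * g * x⁻¹) * c' := by
      calc c' * (x * g * x⁻¹) = (c' * x) * g * x⁻¹ := by group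
        _ = x * (c' * g) * x⁻¹ := by rw [hc'x]; group
        _ = x * g * (c' * x⁻¹) := by rw [hc'g]; group
        _ = x * g * (x⁻¹ * c') := by
            have : c' * x⁻¹ = x⁻¹ * c' := by
              calc c' * x⁻¹ = x⁻¹ * (x * c') * x⁻¹ := by group
                _ = x⁻¹ * (c' * x) * x⁻¹ := by rw [hc'x]
                _ = x⁻¹ * c' := by group
            rw [this]
        _ = (x * g * x⁻¹) * c' := by group
    -- the chain of subgroups
    obtain ⟨K1, hK1mem, hK1card, hK1exp, hK1comm⟩ :=
      exists_ext_invol (⊥ : Subgroup G) g hg2 (by simpa using hg1)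
        (by intro h hh; rw [Subgroup.mem_bot] at hh; subst hh; simp)
    have hK1 : ∀ y, y ∈ K1 → y = 1 ∨ y = g := by
      intro y hy
      rcases (hK1mem y).1 hy with h | h
      · exact Or.inl (by simpa using h)
      · right
        rw [Subgroup.mem_bot] at h
        rw [← hginv]
        exact eq_inv_of_mul_eq_one_left h
    obtain ⟨K2, hK2mem, hK2card, hK2exp, hK2comm⟩ :=
      exists_ext_invol K1 (x * g * x⁻¹) hg₁2
        (by
          intro h
          rcases hK1 _ h with h | h
          · exact hg₁ne1 h
          · exact hg₁neg h)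
        (by
          intro h hh
          rcases hK1 _ hh with rfl | rfl
          · simp
          · exact hcomm₁)
    obtain ⟨K3, hK3mem, hK3card, hK3exp, hK3comm⟩ :=
      exists_ext_invol K2 c' hc2
        (by
          intro h
          rcases (hK2mem c').1 h with h | h
          · rcases hK1 _ h with h | h
            · exact hc'1 h
            · exact hc'neg h
          · rcases hK1 _ h with h | h
            · -- c' * g₁ = 1, so c' = g₁
              have h1 : c' = x * g * x⁻¹ := by
                have := eq_inv_of_mul_eq_one_left h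
                rw [this, inv_eq_of_mul_eq_one_left hg₁2]
              apply hc'neg
              have h2 : g = x⁻¹ * (x * g * x⁻¹) * x := by group
              rw [h2, ← h1]
              calc c' = x⁻¹ * (x * c') := by group
                _ = x⁻¹ * c' * x := by rw [← hc'x]; group
            · -- c' * g₁ = g, so c' = g * g₁ = x⁻¹ g x
              have h1 : c' = x⁻¹ * g * x := by
                have h3 := eq_mul_inv_of_mul_eq h
                rw [inv_eq_of_mul_eq_one_left hg₁2, hprod] at h3
                exact h3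
              apply hc'neg
              have h2 : g = x * (x⁻¹ * g * x) * x⁻¹ := by group
              rw [h2, ← h1]
              calc c' = (c' * x) * x⁻¹ := by group
                _ = x * c' * x⁻¹ := by rw [hc'x])
        (by
          intro h hh
          exact hK2comm c' (hK1comm c' (by
            intro z hz; rw [Subgroup.mem_bot] at hz; subst hz; simp) hc'g) hc'g₁ h hh)
    apply hnoE8 K3
    · rw [hK3card, hK2card, hK1card, Subgroup.card_bot]
    · exact hK3exp (hK2exp (hK1exp (by
        intro h hh; rw [Subgroup.mem_bot] at hh; subst hh; simp)))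
  · -- an element `c'` of order 3 commuting with `g` and `x`
    have hmemC : ∀ y : G, c' * y = y * c' → y ∈ centralizer ({c'} : Set G) := by
      intro y hy
      rw [Subgroup.mem_centralizer_iff]
      intro z hz
      rw [Set.mem_singleton_iff] at hz
      subst hz
      exact hy
    have hcardC := h18 c' hord
    obtain ⟨S⟩ := (inferInstance : Nonempty (Sylow 3 ↥(centralizer ({c'} : Set G))))
    have hS9 : Nat.card (S : Subgroup ↥(centralizer ({c'} : Set G))) = 3 ^ 2 :=
      card_sylow_eq S 2 2 (by rw [hcardC]; norm_num) (by norm_num)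
    have hidx : (S : Subgroup ↥(centralizer ({c'} : Set G))).index = 2 := by
      have := Subgroup.card_mul_index (S : Subgroup ↥(centralizer ({c'} : Set G)))
      rw [hS9, hcardC] at this
      omega
    have hmemS : ∀ y : ↥(centralizer ({c'} : Set G)), y ^ 3 = 1 →
        y ∈ (S : Subgroup ↥(centralizer ({c'} : Set G))) := by
      intro y hy
      have h1 := Subgroup.sq_mem_of_index_two hidx y
      have h2 : y = (y ^ 2) ^ 2 := by
        rw [← pow_mul]
        have : y ^ (2 * 2) = y ^ 3 * y := by rw [← pow_succ]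
        rw [this, hy, one_mul]
      rw [h2]
      exact pow_mem h1 2
    have hxS := hmemS ⟨x, hmemC x hc'x⟩ (by
      apply Subtype.ext
      simpa using hx3)
    have hgxC : c' * (g * x) = (g * x) * c' := by
      rw [← mul_assoc, hc'g, mul_assoc, hc'x, mul_assoc]
    have hgxS := hmemS ⟨g * x, hmemC (g * x) hgxC⟩ (by
      apply Subtype.ext
      simpa using hgx3)
    have hgS : (⟨g, hmemC g hc'g⟩ : ↥(centralizer ({c'} : Set G))) ∈
        (S : Subgroup ↥(centralizer ({c'} : Set G))) := by
      have : (⟨g, hmemC g hc'g⟩ : ↥(centralizer ({c'} : Set G))) =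
          ⟨g * x, hmemC (g * x) hgxC⟩ * (⟨x, hmemC x hc'x⟩)⁻¹ := by
        apply Subtype.ext
        simp
      rw [this]
      exact mul_mem hgxS (inv_mem hxS)
    have h9 : orderOf (⟨g, hmemC g hc'g⟩ : ↥(centralizer ({c'} : Set G))) ∣ 9 := by
      have := Subgroup.orderOf_dvd_natCard _ hgS
      rw [hS9] at this
      simpa using this
    rw [Subgroup.orderOf_mk, hg] at h9
    omega

example {G : Type*} [Group G] [Finite G]
    (h18 : ∀ x : G, orderOf x = 3 → Nat.card (centralizer ({x} : Set G)) = 18)
    (hnoE8 : ∀ E : Subgroup G, Nat.card E = 8 → ¬ ∀ e ∈ E, e * e = 1)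
    (g x c : G) (hg : orderOf g = 2) (hx : orderOf x = 3) (hgx : orderOf (g * x) = 3)
    (hcg : c * g = g * c) (hcx : c * x = x * c) : c = 1 :=
  centralizer_pair_trivial h18 hnoE8 g x c hg hx hgx hcg hcx

end Cfsg.Agent.H64.M11
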