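import Mathlib
import Cfsg.Agent.H64.M11TI

/-!
# S0420-NOE8 (helper64 for helper93): no elementary abelian subgroup of order 8
-/

set_option autoImplicit false
set_option linter.style.haveILetI false

namespace Cfsg.Agent.H64.M11

open Subgroup

/-- Core: an elementary abelian `E` of order 8 cannot normalize `P` of order 9 with
`|C(P)| = 9` when elements of order 3 have centralizers of order 18. -/
theorem no_e8_in_normalizer {G : Type*} [Group G] [Finite G]
    (h18 : ∀ x : G, orderOf x = 3 → Nat.card (centralizer ({x} : Set G)) = 18)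
    (P : Subgroup G) (hP9 : Nat.card P = 9)
    (hC : Nat.card (centralizer (P : Set G)) = 9)
    (E : Subgroup G) (hE : Nat.card E = 8) (hexp : ∀ e ∈ E, e * e = 1)
    (hEN : E ≤ normalizer (P : Set G)) : False := by
  classical
  haveI : Fact (Nat.Prime 3) := ⟨by norm_num⟩
  haveI : Fintype G := Fintype.ofFinite G
  have hPcomm : ∀ {a b : G}, a ∈ P → b ∈ P → a * b = b * a := fun ha hb =>
    comm_of_card_sq (p := 3) P (by rw [hP9]; norm_num) ha hb
  have hP9pow : ∀ p ∈ P, p ^ 9 = 1 := by
    intro p hp
    have := Subgroup.orderOf_dvd_natCard P hp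
    rw [hP9] at this
    exact orderOf_dvd_iff_pow_eq_one.mp this
  have hodd : ∀ y : G, y ^ 9 = 1 → y * y = 1 → y = 1 := by
    intro y h9 h2
    have : y = y ^ 9 * ((y * y) ^ 4)⁻¹ := by
      rw [← pow_two, ← pow_mul]; group
    rw [this, h9, h2]; simp
  have hEinv : ∀ e ∈ E, e⁻¹ = e := fun e he => inv_eq_of_mul_eq_one_left (hexp e he)
  have hEconj : ∀ e ∈ E, ∀ p ∈ P, e * p * e⁻¹ ∈ P := by
    intro e he p hp
    exact ((Subgroup.mem_normalizer_iff).1 (hEN he) p).1 hp
  let r : G → G → Prop := fun e p => e * p * e⁻¹ = p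
  let inv : G → Prop := fun e => ∀ p ∈ P, e * p * e⁻¹ = p⁻¹
  let s : Finset G := Finset.univ.filter (fun e => e ∈ E ∧ e ≠ 1 ∧ ¬ inv e)
  let s' : Finset G := Finset.univ.filter (fun e => e ∈ E ∧ e ≠ 1 ∧ inv e)
  let t : Finset G := Finset.univ.filter (fun p => p ∈ P ∧ p ≠ 1)
  have ht : t.card = 8 := by
    have h1 : t = (Finset.univ.filter (fun p => p ∈ P)).erase 1 := by
      ext p; simp [t, and_comm]
    rw [h1, Finset.card_erase_of_mem (by simp [P.one_mem])]
    have h2 : (Finset.univ.filter (fun p => p ∈ P)).card = 9 := by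
      rw [← hP9, Nat.card_eq_fintype_card, Fintype.card_subtype]
    rw [h2]
  have hs' : s'.card ≤ 1 := by
    rw [Finset.card_le_one]
    intro e he e' he'
    simp only [s', Finset.mem_filter, Finset.mem_univ, true_and] at he he'
    have hmem : e * e' ∈ centralizer (P : Set G) := by
      rw [Subgroup.mem_centralizer_iff]
      intro p hp
      have h1 := he'.2.2 p hp
      have h2 := he.2.2 p⁻¹ (P.inv_mem hp)
      rw [inv_inv] at h2
      calc p * (e * e') = (e * (e' * p * e'⁻¹) * e⁻¹) * (e * e') := by rw [h1, h2]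
        _ = e * e' * p := by group
    have h9 : (e * e') ^ 9 = 1 := by
      have := Subgroup.orderOf_dvd_natCard _ hmem
      rw [hC] at this
      exact orderOf_dvd_iff_pow_eq_one.mp this
    have h1 := hodd _ h9 (hexp _ (E.mul_mem he.1 he'.1))
    have h2 : e' = e⁻¹ := (inv_eq_of_mul_eq_one_right h1).symm
    rw [h2, hEinv e he.1]
  have hss' : s.card + s'.card = 7 := by
    have h1 : s ∪ s' = (Finset.univ.filter (fun e => e ∈ E)).erase 1 := by
      ext e
      simp only [s, s', Finset.mem_union, Finset.mem_filter, Finset.mem_univ, true_and,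
        Finset.mem_erase]
      tauto
    have h2 : Disjoint s s' := by
      rw [Finset.disjoint_left]
      intro e he he'
      simp only [s, s', Finset.mem_filter, Finset.mem_univ, true_and] at he he'
      exact he.2.2 he'.2.2
    rw [← Finset.card_union_of_disjoint h2, h1,
      Finset.card_erase_of_mem (by simp [E.one_mem])]
    have h3 : (Finset.univ.filter (fun e => e ∈ E)).card = 8 := by
      rw [← hE, Nat.card_eq_fintype_card, Fintype.card_subtype]
    rw [h3]
  have key : s.card * 2 ≤ t.card * 1 := by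
    refine Finset.card_mul_le_card_mul r ?_ ?_
    · intro e he
      simp only [s, Finset.mem_filter, Finset.mem_univ, true_and] at he
      obtain ⟨heE, he1, hninv⟩ := he
      simp only [inv] at hninv
      push Not at hninv
      obtain ⟨p₀, hp₀, hne⟩ := hninv
      have hep : e * p₀ * e⁻¹ ∈ P := hEconj e heE p₀ hp₀
      have hqP : p₀ * (e * p₀ * e⁻¹) ∈ P := P.mul_mem hp₀ hep
      have hq1 : p₀ * (e * p₀ * e⁻¹) ≠ 1 := by
        intro h
        apply hne
        exact (inv_eq_of_mul_eq_one_right h).symm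
      have hfix : e * (p₀ * (e * p₀ * e⁻¹)) * e⁻¹ = p₀ * (e * p₀ * e⁻¹) := by
        have hee : e * e = 1 := hexp e heE
        have h1 : e⁻¹ = e := hEinv e heE
        have h2 : e * (p₀ * (e * p₀ * e⁻¹)) * e⁻¹ = (e * p₀ * e⁻¹) * p₀ := by
          rw [h1]
          calc e * (p₀ * (e * p₀ * e)) * e = e * p₀ * e * p₀ * (e * e) := by group
            _ = e * p₀ * e * p₀ := by rw [hee, mul_one]
        rw [h2, hPcomm hep hp₀]
      generalize p₀ * (e * p₀ * e⁻¹) = q at hqP hq1 hfix
      have hqinv : q⁻¹ ≠ q := by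
        intro h
        apply hq1
        apply hodd q (hP9pow q hqP)
        calc q * q = q⁻¹ * q := by rw [h]
          _ = 1 := inv_mul_cancel q
      rw [show (2 : ℕ) ≤ _ ↔ 1 < _ from Iff.rfl, Finset.one_lt_card]
      refine ⟨q, ?_, q⁻¹, ?_, hqinv.symm⟩
      · simp only [Finset.bipartiteAbove, Finset.mem_filter, t, Finset.mem_univ, true_and]
        exact ⟨⟨hqP, hq1⟩, hfix⟩
      · simp only [Finset.bipartiteAbove, Finset.mem_filter, t, Finset.mem_univ, true_and]
        refine ⟨⟨P.inv_mem hqP, inv_ne_one.mpr hq1⟩, ?_⟩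
        show e * q⁻¹ * e⁻¹ = q⁻¹
        calc e * q⁻¹ * e⁻¹ = (e * q * e⁻¹)⁻¹ := by group
          _ = q⁻¹ := by rw [hfix]
    · intro p hp
      simp only [t, Finset.mem_filter, Finset.mem_univ, true_and] at hp
      obtain ⟨hpP, hp1⟩ := hp
      rw [Finset.card_le_one]
      intro e he e' he'
      simp only [Finset.bipartiteBelow, Finset.mem_filter, s, Finset.mem_univ, true_and]
        at he he'
      obtain ⟨⟨heE, he1, -⟩, hre⟩ := he
      obtain ⟨⟨heE', he1', -⟩, hre'⟩ := he'
      obtain ⟨k, hk⟩ : ∃ k : ℕ, orderOf (p ^ k) = 3 := by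
        have hdvd : orderOf p ∣ 3 ^ 2 := by
          have := Subgroup.orderOf_dvd_natCard P hpP
          rw [hP9] at this
          simpa using this
        obtain ⟨m, hm, hmo⟩ := (Nat.dvd_prime_pow (by norm_num : Nat.Prime 3)).1 hdvd
        interval_cases m
        · exfalso
          apply hp1
          rw [← orderOf_eq_one_iff]
          simpa using hmo
        · exact ⟨1, by simpa using hmo⟩
        · refine ⟨3, ?_⟩
          rw [orderOf_pow_of_dvd (by norm_num) (by rw [hmo]; norm_num), hmo]
          norm_num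
      have hcent : ∀ e : G, e * p * e⁻¹ = p → e ∈ centralizer ({p ^ k} : Set G) := by
        intro e he
        rw [Subgroup.mem_centralizer_iff]
        intro z hz
        rw [Set.mem_singleton_iff] at hz
        subst hz
        have h1 : e * p = p * e := by
          calc e * p = e * p * e⁻¹ * e := by group
            _ = p * e := by rw [he]
        exact ((Commute.pow_right (show Commute e p from h1) k).eq).symm
      have hKe : e ∈ E ⊓ centralizer ({p ^ k} : Set G) := ⟨heE, hcent e hre⟩
      have hKe' : e' ∈ E ⊓ centralizer ({p ^ k} : Set G) := ⟨heE', hcent e' hre'⟩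
      have hd1 : Nat.card ↥(E ⊓ centralizer ({p ^ k} : Set G)) ∣ 8 := by
        rw [← hE]; exact Subgroup.card_dvd_of_le inf_le_left
      have hd2 : Nat.card ↥(E ⊓ centralizer ({p ^ k} : Set G)) ∣ 18 := by
        rw [← h18 _ hk]; exact Subgroup.card_dvd_of_le inf_le_right
      have hd : Nat.card ↥(E ⊓ centralizer ({p ^ k} : Set G)) ∣ 2 := by
        have := Nat.dvd_gcd hd1 hd2
        simpa using this
      have hKpos : 0 < Nat.card ↥(E ⊓ centralizer ({p ^ k} : Set G)) := Nat.card_pos
      have hle := Nat.le_of_dvd (by norm_num) hd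
      generalize E ⊓ centralizer ({p ^ k} : Set G) = K at hKe hKe' hd hKpos hle
      have h12 : Nat.card K = 1 ∨ Nat.card K = 2 := by omega
      rcases h12 with h | h
      · exfalso
        apply he1
        have := Subgroup.eq_bot_of_card_eq K h
        rw [this] at hKe
        simpa using hKe
      · rw [Nat.card_eq_two_iff' (1 : K)] at h
        obtain ⟨y, -, hy⟩ := h
        have h1 := hy ⟨e, hKe⟩ (by intro h; apply he1; exact congrArg Subtype.val h)
        have h2 := hy ⟨e', hKe'⟩ (by intro h; apply he1'; exact congrArg Subtype.val h)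
        have := h1.trans h2.symm
        exact congrArg Subtype.val this
  omega

/-- **S0420-NOE8**. -/
theorem no_elementary_eight {G : Type*} [Group G] [Finite G] (hG : Nat.card G = 7920)
    (h18 : ∀ x : G, orderOf x = 3 → Nat.card (centralizer ({x} : Set G)) = 18)
    (hN : ∀ P : Sylow 3 G, Nat.card (normalizer ((P : Subgroup G) : Set G)) = 144)
    (hC : ∀ P : Sylow 3 G, Nat.card (centralizer ((P : Subgroup G) : Set G)) = 9)
    (E : Subgroup G) (hE : Nat.card E = 8) (hexp : ∀ e ∈ E, e * e = 1) : False := by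
  haveI : Fact (Nat.Prime 3) := ⟨by norm_num⟩
  haveI : Fact (Nat.Prime 2) := ⟨by norm_num⟩
  obtain ⟨P⟩ := (inferInstance : Nonempty (Sylow 3 G))
  have hP9 : Nat.card (P : Subgroup G) = 9 := by
    have := card_sylow_eq P 2 880 (by rw [hG]; norm_num) (by norm_num)
    simpa using this
  have hidx : (normalizer ((P : Subgroup G) : Set G)).index = 55 := by
    have := Subgroup.card_mul_index (normalizer ((P : Subgroup G) : Set G))
    rw [hN P, hG] at this
    omega
  have hE2 : IsPGroup 2 E := IsPGroup.of_card (n := 3) (by rw [hE]; norm_num)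
  obtain ⟨q, hq⟩ := hE2.nonempty_fixed_point_of_prime_not_dvd_card
    (G ⧸ normalizer ((P : Subgroup G) : Set G)) (by
      rw [← Subgroup.index_eq_card, hidx]; norm_num)
  obtain ⟨g, rfl⟩ := QuotientGroup.mk_surjective q
  rw [MulAction.mem_fixedPoints] at hq
  have hconj : ∀ e ∈ E, g⁻¹ * e * g ∈ normalizer ((P : Subgroup G) : Set G) := by
    intro e he
    have h1 := hq ⟨e, he⟩
    have h2 : ((e * g : G) : G ⧸ normalizer ((P : Subgroup G) : Set G)) =
        (g : G ⧸ normalizer ((P : Subgroup G) : Set G)) := h1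
    have h3 := QuotientGroup.eq.mp h2.symm
    simpa [mul_assoc] using h3
  refine no_e8_in_normalizer h18 (P : Subgroup G) hP9 (hC P)
    (E.map (MulAut.conj g⁻¹).toMonoidHom) ?_ ?_ ?_
  · rw [Subgroup.card_map_of_injective (MulAut.conj g⁻¹).injective]
    exact hE
  · rintro _ ⟨e, he, rfl⟩
    simp only [MulEquiv.coe_toMonoidHom, MulAut.conj_apply, inv_inv]
    calc g⁻¹ * e * g * (g⁻¹ * e * g) = g⁻¹ * (e * e) * g := by group
      _ = 1 := by rw [hexp e he]; group
  · rintro _ ⟨e, he, rfl⟩
    simp only [MulEquiv.coe_toMonoidHom, MulAut.conj_apply, inv_inv]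
    exact hconj e he

example {G : Type*} [Group G] [Finite G] (hG : Nat.card G = 7920)
    (h18 : ∀ x : G, orderOf x = 3 → Nat.card (centralizer ({x} : Set G)) = 18)
    (hN : ∀ P : Sylow 3 G, Nat.card (normalizer ((P : Subgroup G) : Set G)) = 144)
    (hC : ∀ P : Sylow 3 G, Nat.card (centralizer ((P : Subgroup G) : Set G)) = 9)
    (E : Subgroup G) (hE : Nat.card E = 8) (hexp : ∀ e ∈ E, e * e = 1) : False :=
  no_elementary_eight hG h18 hN hC E hE hexp

end Cfsg.Agent.H64.M11
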