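import Mathlib
import Cfsg.Agent.H7.PSL2
import Cfsg.Agent.H64.PSL2Even

set_option autoImplicit false

/-!
# Class sizes of `PSL₂(q)`, `q` odd
-/

namespace Cfsg.Agent.H64.PSL2Odd

open Matrix
open scoped MatrixGroups
open Cfsg.Agent.H7 Cfsg.Agent.H64.PSL2Even

section Conic

variable {F : Type*} [Field F] [Fintype F] [DecidableEq F]

theorem card_conic_of_rep (t c z₁ z₂ : F) (hc : c ≠ 0) (hz : z₁ ^ 2 + t * z₁ * z₂ + z₂ ^ 2 = c) :
    (conic t c).card = (conic t 1).card := by
  symm
  have hcc : c * c⁻¹ = 1 := mul_inv_cancel₀ hc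
  refine Finset.card_nbij'
    (fun ab => (ab.1 * z₁ - ab.2 * z₂, ab.1 * z₂ + ab.2 * z₁ + t * ab.2 * z₂))
    (fun ab => (ab.1 * ((z₁ + t * z₂) * c⁻¹) - ab.2 * (-z₂ * c⁻¹),
      ab.1 * (-z₂ * c⁻¹) + ab.2 * ((z₁ + t * z₂) * c⁻¹) + t * ab.2 * (-z₂ * c⁻¹)))
    ?_ ?_ ?_ ?_
  · intro ab hab
    have hab' := mem_conic.mp (Finset.mem_coe.mp hab)
    refine Finset.mem_coe.mpr (mem_conic.mpr ?_)
    simp only
    linear_combination (z₁ ^ 2 + t * z₁ * z₂ + z₂ ^ 2) * hab' + hz
  · intro ab hab
    have hab' := mem_conic.mp (Finset.mem_coe.mp hab)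
    refine Finset.mem_coe.mpr (mem_conic.mpr ?_)
    simp only
    linear_combination (c⁻¹ ^ 2 * (z₁ ^ 2 + t * z₁ * z₂ + z₂ ^ 2)) * hab' +
      (c * c⁻¹ ^ 2) * hz + (c * c⁻¹ + 1) * hcc
  · intro ab _
    apply Prod.ext
    · simp only
      linear_combination (ab.1 * c⁻¹) * hz + ab.1 * hcc
    · simp only
      linear_combination (ab.2 * c⁻¹) * hz + ab.2 * hcc
  · intro ab _
    apply Prod.ext
    · simp only
      linear_combination (ab.1 * c⁻¹) * hz + ab.1 * hcc
    · simp only
      linear_combination (ab.2 * c⁻¹) * hz + ab.2 * hcc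

theorem exists_rep (hodd : Fintype.card F % 2 = 1) (h2 : (2 : F) ≠ 0) (t c : F)
    (ht : t ^ 2 ≠ 4) : ∃ a b : F, a ^ 2 + t * a * b + b ^ 2 = c := by
  have h4 : (4 : F) ≠ 0 := by
    have : (4 : F) = 2 * 2 := by norm_num
    rw [this]
    exact mul_ne_zero h2 h2
  have hD : 1 - t ^ 2 / 4 ≠ 0 := by
    intro h
    apply ht
    field_simp at h
    linear_combination -h
  obtain ⟨A, B, hAB⟩ := FiniteField.exists_root_sum_quadratic (R := F)
    (f := Polynomial.X ^ 2)
    (g := Polynomial.C (1 - t ^ 2 / 4) * Polynomial.X ^ 2 - Polynomial.C c)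
    (Polynomial.degree_X_pow 2)
    (by
      rw [Polynomial.degree_sub_C, Polynomial.degree_C_mul_X_pow 2 hD]
      · rfl
      · rw [Polynomial.degree_C_mul_X_pow 2 hD]
        exact by norm_num) hodd
  simp only [Polynomial.eval_pow, Polynomial.eval_X, Polynomial.eval_sub, Polynomial.eval_mul,
    Polynomial.eval_C] at hAB
  refine ⟨A - t * B / 2, B, ?_⟩
  field_simp
  field_simp at hAB
  linear_combination hAB

theorem card_conic_one_odd (hodd : Fintype.card F % 2 = 1) (h2 : (2 : F) ≠ 0) (t : F)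
    (ht : t ^ 2 ≠ 4) :
    (conic t 1).card + (qroots t).card = Fintype.card F + 1 := by
  have hsum := sum_card_conic t
  rw [← Finset.add_sum_erase _ _ (Finset.mem_univ (0 : F))] at hsum
  have hconst : ∀ c ∈ (Finset.univ : Finset F).erase 0, (conic t c).card = (conic t 1).card := by
    intro c hc
    obtain ⟨z₁, z₂, hz⟩ := exists_rep hodd h2 t c ht
    exact card_conic_of_rep t c z₁ z₂ (Finset.ne_of_mem_erase hc) hz
  rw [Finset.sum_congr rfl hconst, Finset.sum_const, Finset.card_erase_of_mem (Finset.mem_univ _),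
    Finset.card_univ, card_conic_zero, smul_eq_mul] at hsum
  have hq : 2 ≤ Fintype.card F := Fintype.one_lt_card
  obtain ⟨m, hm⟩ : ∃ m, Fintype.card F = m + 1 := ⟨Fintype.card F - 1, by omega⟩
  rw [hm] at hsum ⊢
  simp only [Nat.add_sub_cancel] at hsum
  have hm1 : 1 ≤ m := by omega
  have : m * ((conic t 1).card + (qroots t).card) = m * (m + 2) := by nlinarith
  have := Nat.eq_of_mul_eq_mul_left (by omega) this
  omega

theorem card_conic_one_deg (h2 : (2 : F) ≠ 0) (t : F) (ht : t ^ 2 = 4) :
    (conic t 1).card = 2 * Fintype.card F := by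
  have he : (t / 2) ^ 2 = 1 := by
    field_simp
    linear_combination ht
  have hset : conic t 1 = (Finset.univ.image fun b : F => (1 - t / 2 * b, b)) ∪
      (Finset.univ.image fun b : F => (-1 - t / 2 * b, b)) := by
    ext ⟨a, b⟩
    simp only [mem_conic, Finset.mem_union, Finset.mem_image, Finset.mem_univ, true_and,
      Prod.mk.injEq]
    have hQ : a ^ 2 + t * a * b + b ^ 2 = (a + t / 2 * b) ^ 2 := by
      have : (a + t / 2 * b) ^ 2 = a ^ 2 + t * a * b + (t / 2) ^ 2 * b ^ 2 := by
        field_simp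
        ring
      rw [this, he]
      ring
    rw [hQ]
    constructor
    · intro h
      have h' : (a + t / 2 * b - 1) * (a + t / 2 * b + 1) = 0 := by linear_combination h
      rcases mul_eq_zero.mp h' with h | h
      · left
        exact ⟨b, by linear_combination -h, rfl⟩
      · right
        exact ⟨b, by linear_combination -h, rfl⟩
    · rintro (⟨b', h1, rfl⟩ | ⟨b', h1, rfl⟩)
      · rw [← h1]; ring
      · rw [← h1]; ring
  rw [hset, Finset.card_union_of_disjoint, Finset.card_image_of_injective,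
    Finset.card_image_of_injective, Finset.card_univ]
  · ring
  · intro b b' h
    exact (Prod.mk.injEq _ _ _ _ ▸ h).2
  · intro b b' h
    exact (Prod.mk.injEq _ _ _ _ ▸ h).2
  · rw [Finset.disjoint_left]
    intro x hx hx'
    simp only [Finset.mem_image, Finset.mem_univ, true_and] at hx hx'
    obtain ⟨b, rfl⟩ := hx
    obtain ⟨b', hb'⟩ := hx'
    simp only [Prod.mk.injEq] at hb'
    obtain ⟨h1, rfl⟩ := hb'
    apply h2
    linear_combination -h1

theorem qroots_of_mem_odd {t l : F} (ht : t ^ 2 ≠ 4) (hl : l ∈ qroots t) :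
    (qroots t).card = 2 := by
  have hl' := mem_qroots.mp hl
  have : qroots t = {l, -t - l} := by
    ext m
    simp only [mem_qroots, Finset.mem_insert, Finset.mem_singleton]
    constructor
    · intro hm
      have : (m - l) * (m - (-t - l)) = 0 := by linear_combination hm - hl'
      rcases mul_eq_zero.mp this with h | h
      · left; exact sub_eq_zero.mp h
      · right; exact sub_eq_zero.mp h
    · rintro (rfl | rfl)
      · exact hl'
      · linear_combination hl'
  rw [this, Finset.card_pair]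
  intro h
  apply ht
  have h1 : t = -2 * l := by linear_combination h
  rw [h1] at hl'
  rw [h1]
  linear_combination -4 * hl'

theorem qroots_cases_odd {t : F} (ht : t ^ 2 ≠ 4) :
    (qroots t).card = 0 ∨ (qroots t).card = 2 := by
  rcases (qroots t).eq_empty_or_nonempty with h | ⟨l, hl⟩
  · left; rw [h, Finset.card_empty]
  · right; exact qroots_of_mem_odd ht hl

theorem qroots_zero_odd (h2 : (2 : F) ≠ 0) :
    (Fintype.card F % 4 = 1 → (qroots (0 : F)).card = 2) ∧
    (Fintype.card F % 4 = 3 → (qroots (0 : F)).card = 0) := by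
  have h4 : (4 : F) ≠ 0 := by
    have : (4 : F) = 2 * 2 := by norm_num
    rw [this]
    exact mul_ne_zero h2 h2
  have ht : (0 : F) ^ 2 ≠ 4 := by
    intro h
    apply h4
    rw [← h]; ring
  constructor
  · intro hq
    have hsq : IsSquare (-1 : F) := FiniteField.isSquare_neg_one_iff.mpr (by omega)
    obtain ⟨i, hi⟩ := hsq
    apply qroots_of_mem_odd ht (l := i)
    rw [mem_qroots]
    linear_combination -hi
  · intro hq
    rw [Finset.card_eq_zero, Finset.eq_empty_iff_forall_notMem]
    intro l hl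
    rw [mem_qroots] at hl
    have hsq : IsSquare (-1 : F) := ⟨l, by linear_combination -hl⟩
    have := FiniteField.isSquare_neg_one_iff.mp hsq
    omega

theorem sum_card_qroots : ∑ t : F, (qroots t).card = Fintype.card F - 1 := by
  have h := Finset.card_eq_sum_card_fiberwise (s := (Finset.univ : Finset F).erase 0)
    (t := (Finset.univ : Finset F)) (f := fun l : F => -(l ^ 2 + 1) / l)
    (fun _ _ => Finset.mem_univ _)
  rw [Finset.card_erase_of_mem (Finset.mem_univ _), Finset.card_univ] at h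
  rw [h]
  apply Finset.sum_congr rfl
  intro t _
  congr 1
  ext l
  simp only [mem_qroots, Finset.mem_filter, Finset.mem_erase, Finset.mem_univ, and_true]
  constructor
  · intro hl
    have hl0 : l ≠ 0 := by
      rintro rfl
      simp at hl
    refine ⟨hl0, ?_⟩
    field_simp
    linear_combination -hl
  · rintro ⟨hl0, hl⟩
    field_simp at hl
    linear_combination -hl

/-- for `q ≥ 7` there is `t ≠ 0`, `t² ≠ 4` such that `x² + t x + 1` has no root -/
theorem exists_no_root (h7 : 7 ≤ Fintype.card F) :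
    ∃ t : F, t ≠ 0 ∧ t ^ 2 ≠ 4 ∧ (qroots t).card = 0 := by
  by_contra hcon
  push Not at hcon
  have h1 : ∀ t ∈ (Finset.univ : Finset F) \ {0, 2, -2}, (qroots t).card = 2 := by
    intro t ht
    simp only [Finset.mem_sdiff, Finset.mem_univ, Finset.mem_insert, Finset.mem_singleton,
      true_and, not_or] at ht
    have ht4 : t ^ 2 ≠ 4 := by
      intro h
      have : (t - 2) * (t + 2) = 0 := by linear_combination h
      rcases mul_eq_zero.mp this with h | h
      · exact ht.2.1 (sub_eq_zero.mp h)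
      · exact ht.2.2 (by linear_combination h)
    rcases qroots_cases_odd ht4 with h | h
    · exact absurd h (hcon t ht.1 ht4)
    · exact h
  have h2 : ∑ t ∈ (Finset.univ : Finset F) \ {0, 2, -2}, (qroots t).card ≤
      ∑ t : F, (qroots t).card :=
    Finset.sum_le_sum_of_subset (Finset.subset_univ _)
  rw [Finset.sum_congr rfl h1, Finset.sum_const, sum_card_qroots, smul_eq_mul] at h2
  have h3 : Fintype.card F - 3 ≤ ((Finset.univ : Finset F) \ {0, 2, -2}).card := by
    have := Finset.le_card_sdiff ({0, 2, -2} : Finset F) (Finset.univ : Finset F)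
    have h3' : ({0, 2, -2} : Finset F).card ≤ 3 := Finset.card_le_three
    rw [Finset.card_univ] at this
    omega
  have : (Fintype.card F - 3) * 2 ≤ Fintype.card F - 1 :=
    (Nat.mul_le_mul_right 2 h3).trans h2
  omega

end Conic

section Grp

variable {F : Type*} [Field F]

/-- the matrix `-1` in `SL₂` -/
def negOne : SL(2, F) := ⟨!![-1, 0; 0, -1], by simp [Matrix.det_fin_two_of]⟩

theorem negOne_val : (negOne : SL(2, F)).1 = -1 := by
  ext i j
  fin_cases i <;> fin_cases j <;> simp [negOne]

theorem negOne_mem_center : (negOne : SL(2, F)) ∈ Subgroup.center SL(2, F) := by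
  rw [sl2_mem_center_iff]
  simp [negOne]

theorem center_cases (z : SL(2, F)) (hz : z ∈ Subgroup.center SL(2, F)) :
    z.1 = 1 ∨ z.1 = -1 := by
  rw [sl2_mem_center_iff] at hz
  obtain ⟨h01, h10, h00⟩ := hz
  have hd := sl2_det z
  rw [h01, ← h00] at hd
  have h' : (z.1 0 0 - 1) * (z.1 0 0 + 1) = 0 := by linear_combination hd
  rcases mul_eq_zero.mp h' with h | h
  · left
    have h1 : z.1 0 0 = 1 := sub_eq_zero.mp h
    ext i j
    fin_cases i <;> fin_cases j
    · simpa using h1
    · simpa using h01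
    · simpa using h10
    · simpa using h00.symm.trans h1
  · right
    have h1 : z.1 0 0 = -1 := by linear_combination h
    ext i j
    fin_cases i <;> fin_cases j
    · simpa using h1
    · simpa using h01
    · simpa using h10
    · simpa using h00.symm.trans h1

/-- the preimage in `SL₂` of the centralizer of the image of `g` in `PSL₂` -/
def K (g : SL(2, F)) : Subgroup SL(2, F) :=
  (Subgroup.centralizer
    ({(QuotientGroup.mk' (Subgroup.center SL(2, F))) g} : Set PSL(2, F))).comap
    (QuotientGroup.mk' (Subgroup.center SL(2, F)))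

theorem mem_K (g x : SL(2, F)) :
    x ∈ K g ↔ x.1 * g.1 = g.1 * x.1 ∨ x.1 * g.1 = -(g.1 * x.1) := by
  unfold K
  rw [Subgroup.mem_comap, Subgroup.mem_centralizer_iff]
  constructor
  · intro h
    have h1 := h _ rfl
    rw [← map_mul, ← map_mul, QuotientGroup.mk'_eq_mk'] at h1
    obtain ⟨z, hz, hzz⟩ := h1
    have hzz' : g.1 * x.1 * z.1 = x.1 * g.1 := by
      have := congrArg Subtype.val hzz
      simpa [Matrix.SpecialLinearGroup.coe_mul] using this
    rcases center_cases z hz with h | h
    · left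
      rw [← hzz', h, mul_one]
    · right
      rw [← hzz', h, mul_neg, mul_one]
  · intro h k hk
    rw [Set.mem_singleton_iff] at hk
    subst hk
    rw [← map_mul, ← map_mul, QuotientGroup.mk'_eq_mk']
    rcases h with h | h
    · refine ⟨1, Subgroup.one_mem _, ?_⟩
      rw [mul_one]
      apply Subtype.ext
      simp only [Matrix.SpecialLinearGroup.coe_mul]
      exact h.symm
    · refine ⟨negOne, negOne_mem_center, ?_⟩
      apply Subtype.ext
      simp only [Matrix.SpecialLinearGroup.coe_mul, negOne_val]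
      rw [h, mul_neg, mul_one]

theorem index_K (g : SL(2, F)) :
    (Subgroup.centralizer
      ({(QuotientGroup.mk' (Subgroup.center SL(2, F))) g} : Set PSL(2, F))).index =
      (K g).index := by
  unfold K
  rw [Subgroup.index_comap_of_surjective _ (QuotientGroup.mk'_surjective _)]

theorem centralizer_le_K (g : SL(2, F)) : Subgroup.centralizer ({g} : Set SL(2, F)) ≤ K g := by
  intro x hx
  rw [Subgroup.mem_centralizer_iff] at hx
  rw [mem_K]
  left
  have := congrArg Subtype.val (hx g rfl)
  simp only [Matrix.SpecialLinearGroup.coe_mul] at this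
  exact this.symm

theorem mem_centralizer_iff' (g x : SL(2, F)) :
    x ∈ Subgroup.centralizer ({g} : Set SL(2, F)) ↔ x.1 * g.1 = g.1 * x.1 := by
  rw [Subgroup.mem_centralizer_iff]
  constructor
  · intro hx
    have := congrArg Subtype.val (hx g rfl)
    simp only [Matrix.SpecialLinearGroup.coe_mul] at this
    exact this.symm
  · intro h k hk
    rw [Set.mem_singleton_iff] at hk
    subst hk
    apply Subtype.ext
    simp only [Matrix.SpecialLinearGroup.coe_mul]
    exact h.symm

theorem not_comm_and_anti (h2 : (2 : F) ≠ 0) (g x : SL(2, F))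
    (h : x.1 * g.1 = g.1 * x.1) (h' : x.1 * g.1 = -(g.1 * x.1)) : False := by
  have h0 : g.1 * x.1 = 0 := by
    have h1 : g.1 * x.1 = -(g.1 * x.1) := h.symm.trans h'
    have h3 : (2 : F) • (g.1 * x.1) = 0 := by
      rw [two_smul]
      nth_rewrite 1 [h1]
      exact neg_add_cancel _
    exact (smul_eq_zero.mp h3).resolve_left h2
  have hd : Matrix.det (g.1 * x.1) = 1 := by
    rw [Matrix.det_mul, g.2, x.2, mul_one]
  rw [h0, Matrix.det_zero] at hd
  exact zero_ne_one hd

theorem trace_zero_of_anti (h2 : (2 : F) ≠ 0) (g x : SL(2, F))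
    (h : x.1 * g.1 = -(g.1 * x.1)) : g.1 0 0 + g.1 1 1 = 0 := by
  have e00 := congrFun (congrFun h 0) 0
  have e01 := congrFun (congrFun h 0) 1
  have e10 := congrFun (congrFun h 1) 0
  have e11 := congrFun (congrFun h 1) 1
  simp only [Matrix.mul_apply, Fin.sum_univ_two, Matrix.neg_apply] at e00 e01 e10 e11
  have hd := sl2_det x
  have : 2 * (g.1 0 0 + g.1 1 1) = 0 := by
    linear_combination x.1 1 1 * e00 - x.1 0 1 * e10 - x.1 1 0 * e01 + x.1 0 0 * e11 -
      2 * (g.1 0 0 + g.1 1 1) * hd
  exact (mul_eq_zero.mp this).resolve_left h2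

theorem K_eq_centralizer (h2 : (2 : F) ≠ 0) (g : SL(2, F)) (ht : g.1 0 0 + g.1 1 1 ≠ 0) :
    K g = Subgroup.centralizer ({g} : Set SL(2, F)) := by
  apply le_antisymm
  · intro x hx
    rw [mem_K] at hx
    rw [mem_centralizer_iff']
    rcases hx with h | h
    · exact h
    · exact absurd (trace_zero_of_anti h2 g x h) ht
  · exact centralizer_le_K g

theorem anti_aux1 (p u w a b : F) (hw : w ≠ 0) :
    !![-(a + b * p), (2 * p * (a + b * p) + b * u * w) / w; -(b * w), a + b * p] *
      !![p, u; w, -p] = -(!![p, u; w, -p] *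
      !![-(a + b * p), (2 * p * (a + b * p) + b * u * w) / w; -(b * w), a + b * p]) := by
  ext i j
  fin_cases i <;> fin_cases j <;>
    simp [Matrix.mul_apply, Fin.sum_univ_two] <;> field_simp <;> ring

theorem anti_aux2 (p u w a b : F) (hu : u ≠ 0) :
    !![a - b * p, -(b * u); (b * w * u - 2 * p * (a - b * p)) / u, -(a - b * p)] *
      !![p, u; w, -p] = -(!![p, u; w, -p] *
      !![a - b * p, -(b * u); (b * w * u - 2 * p * (a - b * p)) / u, -(a - b * p)]) := by
  ext i j
  fin_cases i <;> fin_cases j <;>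
    simp [Matrix.mul_apply, Fin.sum_univ_two] <;> field_simp <;> ring

theorem anti_aux3 (p a b : F) :
    !![0, a + b * p; a - b * p, 0] * !![p, 0; 0, -p] =
      -(!![p, 0; 0, -p] * !![0, a + b * p; a - b * p, 0]) := by
  ext i j
  fin_cases i <;> fin_cases j <;>
    simp [Matrix.mul_apply, Fin.sum_univ_two] <;> ring

theorem exists_anti [Fintype F] (hodd : Fintype.card F % 2 = 1) (h2 : (2 : F) ≠ 0)
    (g : SL(2, F)) (ht : g.1 0 0 + g.1 1 1 = 0) :
    ∃ x : SL(2, F), x.1 * g.1 = -(g.1 * x.1) := by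
  classical
  have h4 : (4 : F) ≠ 0 := by
    have : (4 : F) = 2 * 2 := by norm_num
    rw [this]
    exact mul_ne_zero h2 h2
  have ht0 : (0 : F) ^ 2 ≠ 4 := by
    intro h
    apply h4
    rw [← h]; ring
  obtain ⟨a, b, hab⟩ := exists_rep hodd h2 (0 : F) (-1) ht0
  have hab' : a ^ 2 + b ^ 2 = -1 := by linear_combination hab
  have hg11 : g.1 1 1 = -g.1 0 0 := by linear_combination ht
  have hgm : g.1 = !![g.1 0 0, g.1 0 1; g.1 1 0, -g.1 0 0] := by
    rw [← hg11]
    exact Matrix.eta_fin_two g.1
  have hd := sl2_det g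
  rw [hg11] at hd
  by_cases hw : g.1 1 0 = 0
  · by_cases hu : g.1 0 1 = 0
    · refine ⟨⟨!![0, a + b * g.1 0 0; a - b * g.1 0 0, 0], ?_⟩, ?_⟩
      · rw [Matrix.det_fin_two_of]
        rw [hu] at hd
        linear_combination -hab' - b ^ 2 * hd
      · simp only
        rw [hgm, hu, hw]
        simp only [Matrix.of_apply, Matrix.cons_val', Matrix.cons_val_zero, Matrix.cons_val_one]
        exact anti_aux3 _ a b
    · refine ⟨⟨!![a - b * g.1 0 0, -(b * g.1 0 1);
        (b * g.1 1 0 * g.1 0 1 - 2 * g.1 0 0 * (a - b * g.1 0 0)) / g.1 0 1,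
        -(a - b * g.1 0 0)], ?_⟩, ?_⟩
      · rw [Matrix.det_fin_two_of]
        field_simp
        linear_combination -hab' - b ^ 2 * hd
      · simp only
        rw [hgm]
        simp only [Matrix.of_apply, Matrix.cons_val', Matrix.cons_val_zero, Matrix.cons_val_one]
        exact anti_aux2 _ _ _ a b hu
  · refine ⟨⟨!![-(a + b * g.1 0 0),
        (2 * g.1 0 0 * (a + b * g.1 0 0) + b * g.1 0 1 * g.1 1 0) / g.1 1 0;
        -(b * g.1 1 0), a + b * g.1 0 0], ?_⟩, ?_⟩
    · rw [Matrix.det_fin_two_of]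
      field_simp
      linear_combination -hab' - b ^ 2 * hd
    · simp only
      rw [hgm]
      simp only [Matrix.of_apply, Matrix.cons_val', Matrix.cons_val_zero, Matrix.cons_val_one]
      exact anti_aux1 _ _ _ a b hw

theorem two_mul_index_K [Fintype F] (hodd : Fintype.card F % 2 = 1) (h2 : (2 : F) ≠ 0)
    (g : SL(2, F)) (ht : g.1 0 0 + g.1 1 1 = 0) :
    2 * (K g).index = (Subgroup.centralizer ({g} : Set SL(2, F))).index := by
  obtain ⟨x₀, hx₀⟩ := exists_anti hodd h2 g ht
  have hx₀K : x₀ ∈ K g := (mem_K g x₀).mpr (Or.inr hx₀)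
  have hrel : (Subgroup.centralizer ({g} : Set SL(2, F))).relIndex (K g) = 2 := by
    unfold Subgroup.relIndex
    rw [Subgroup.index_eq_two_iff]
    refine ⟨⟨x₀, hx₀K⟩, ?_⟩
    rintro ⟨b, hb⟩
    simp only [Subgroup.mem_subgroupOf, Subgroup.coe_mul, mem_centralizer_iff',
      Matrix.SpecialLinearGroup.coe_mul]
    rcases (mem_K g b).mp hb with h | h
    · right
      refine ⟨h, ?_⟩
      intro h'
      have hanti : (b * x₀).1 * g.1 = -(g.1 * (b * x₀).1) := by
        simp only [Matrix.SpecialLinearGroup.coe_mul]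
        rw [Matrix.mul_assoc, hx₀, Matrix.mul_neg, ← Matrix.mul_assoc, h, Matrix.mul_assoc]
      exact not_comm_and_anti h2 g (b * x₀)
        (by simpa only [Matrix.SpecialLinearGroup.coe_mul] using h') hanti
    · left
      refine ⟨?_, fun h' => not_comm_and_anti h2 g b h' h⟩
      rw [Matrix.mul_assoc, hx₀, Matrix.mul_neg, ← Matrix.mul_assoc, h, Matrix.neg_mul, neg_neg,
        Matrix.mul_assoc]
  have := Subgroup.relIndex_mul_index (centralizer_le_K g)
  rw [hrel] at this
  exact this

end Grp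

section Main

variable {F : Type*} [Field F] [Fintype F]

/-- the class size of the image of `g` in `PSL₂` -/
noncomputable def cls (g : SL(2, F)) : ℕ :=
  (Subgroup.centralizer
    ({(QuotientGroup.mk' (Subgroup.center SL(2, F))) g} : Set PSL(2, F))).index

theorem cls_of_scalar (g : SL(2, F)) (hg : ¬ Nonscalar g) : cls g = 1 := by
  unfold Nonscalar at hg
  push Not at hg
  have hc : g ∈ Subgroup.center SL(2, F) := (sl2_mem_center_iff g).mpr hg
  have h1 : (QuotientGroup.mk' (Subgroup.center SL(2, F))) g = 1 :=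
    (QuotientGroup.eq_one_iff g).mpr hc
  unfold cls
  rw [h1]
  have : Subgroup.centralizer ({1} : Set PSL(2, F)) = ⊤ := by
    rw [Subgroup.centralizer_eq_top_iff_subset]
    intro x hx
    rw [Set.mem_singleton_iff] at hx
    subst hx
    exact Subgroup.one_mem _
  rw [this, Subgroup.index_top]

theorem four_ne_zero' (h2 : (2 : F) ≠ 0) : (4 : F) ≠ 0 := by
  have : (4 : F) = 2 * 2 := by norm_num
  rw [this]
  exact mul_ne_zero h2 h2

theorem cls_cases [DecidableEq F] (hodd : Fintype.card F % 2 = 1) (h7 : 7 ≤ Fintype.card F)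
    (h2 : (2 : F) ≠ 0) (g : SL(2, F)) (hg : Nonscalar g) :
    ((g.1 0 0 + g.1 1 1) ^ 2 = 4 → cls g = (Fintype.card F ^ 2 - 1) / 2) ∧
    (g.1 0 0 + g.1 1 1 ≠ 0 → (g.1 0 0 + g.1 1 1) ^ 2 ≠ 4 →
      (qroots (g.1 0 0 + g.1 1 1)).card = 0 →
      cls g = Fintype.card F * (Fintype.card F - 1)) ∧
    (g.1 0 0 + g.1 1 1 ≠ 0 → (g.1 0 0 + g.1 1 1) ^ 2 ≠ 4 →
      (qroots (g.1 0 0 + g.1 1 1)).card = 2 →
      cls g = Fintype.card F * (Fintype.card F + 1)) ∧
    (g.1 0 0 + g.1 1 1 = 0 → (qroots (g.1 0 0 + g.1 1 1)).card = 0 →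
      cls g = Fintype.card F * (Fintype.card F - 1) / 2) ∧
    (g.1 0 0 + g.1 1 1 = 0 → (qroots (g.1 0 0 + g.1 1 1)).card = 2 →
      cls g = Fintype.card F * (Fintype.card F + 1) / 2) := by
  have h4 := four_ne_zero' h2
  have hq : 2 ≤ Fintype.card F := by omega
  have hC := Subgroup.index_mul_card (Subgroup.centralizer ({g} : Set SL(2, F)))
  rw [card_centralizer g hg, card_SL2] at hC
  have hcls : cls g = (K g).index := index_K g
  have hval : (g.1 0 0 + g.1 1 1) ^ 2 ≠ 4 →
      (Subgroup.centralizer ({g} : Set SL(2, F))).index *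
        (Fintype.card F + 1 - (qroots (g.1 0 0 + g.1 1 1)).card) =
        Fintype.card F * (Fintype.card F ^ 2 - 1) := by
    intro ht4
    have h' := card_conic_one_odd hodd h2 (g.1 0 0 + g.1 1 1) ht4
    rw [← hC, ← h']
    simp
  refine ⟨?_, ?_, ?_, ?_, ?_⟩
  · intro ht4
    have ht0 : g.1 0 0 + g.1 1 1 ≠ 0 := by
      intro h
      rw [h] at ht4
      apply h4
      rw [← ht4]; ring
    rw [hcls, K_eq_centralizer h2 g ht0]
    rw [card_conic_one_deg h2 _ ht4] at hC
    have h1 : (Subgroup.centralizer ({g} : Set SL(2, F))).index * 2 * Fintype.card F =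
        (Fintype.card F ^ 2 - 1) * Fintype.card F := by
      rw [mul_comm (Fintype.card F ^ 2 - 1), ← hC]; ring
    have h3 := Nat.eq_of_mul_eq_mul_right (by omega) h1
    omega
  · intro ht0 ht4 hr
    rw [hcls, K_eq_centralizer h2 g ht0]
    exact (index_value _ _ _ hq (hval ht4)).1 hr
  · intro ht0 ht4 hr
    rw [hcls, K_eq_centralizer h2 g ht0]
    exact (index_value _ _ _ hq (hval ht4)).2.2 hr
  · intro ht0 hr
    have ht4 : (g.1 0 0 + g.1 1 1) ^ 2 ≠ 4 := by
      rw [ht0]
      intro h
      apply h4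
      rw [← h]; ring
    have h1 := two_mul_index_K hodd h2 g ht0
    have h3 := (index_value _ _ _ hq (hval ht4)).1 hr
    rw [hcls]
    omega
  · intro ht0 hr
    have ht4 : (g.1 0 0 + g.1 1 1) ^ 2 ≠ 4 := by
      rw [ht0]
      intro h
      apply h4
      rw [← h]; ring
    have h1 := two_mul_index_K hodd h2 g ht0
    have h3 := (index_value _ _ _ hq (hval ht4)).2.2 hr
    rw [hcls]
    omega

theorem cls_subset [DecidableEq F] (hodd : Fintype.card F % 2 = 1) (h7 : 7 ≤ Fintype.card F)
    (h2 : (2 : F) ≠ 0) (g : SL(2, F)) :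
    cls g = 1 ∨ cls g = (Fintype.card F ^ 2 - 1) / 2 ∨
      cls g = Fintype.card F * (Fintype.card F - 1) ∨
      cls g = Fintype.card F * (Fintype.card F + 1) ∨
      ((qroots (0 : F)).card = 0 ∧ cls g = Fintype.card F * (Fintype.card F - 1) / 2) ∨
      ((qroots (0 : F)).card = 2 ∧ cls g = Fintype.card F * (Fintype.card F + 1) / 2) := by
  have h4 := four_ne_zero' h2
  by_cases hg : Nonscalar g
  · have hc := cls_cases hodd h7 h2 g hg
    by_cases ht4 : (g.1 0 0 + g.1 1 1) ^ 2 = 4
    · right; left; exact hc.1 ht4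
    · by_cases ht0 : g.1 0 0 + g.1 1 1 = 0
      · rcases qroots_cases_odd ht4 with h | h
        · right; right; right; right; left
          exact ⟨by rw [← ht0]; exact h, hc.2.2.2.1 ht0 h⟩
        · right; right; right; right; right
          exact ⟨by rw [← ht0]; exact h, hc.2.2.2.2 ht0 h⟩
      · rcases qroots_cases_odd ht4 with h | h
        · right; right; left; exact hc.2.1 ht0 ht4 h
        · right; right; right; left; exact hc.2.2.1 ht0 ht4 h
  · left; exact cls_of_scalar g hg

theorem cls_witness [DecidableEq F] (hodd : Fintype.card F % 2 = 1) (h7 : 7 ≤ Fintype.card F)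
    (h2 : (2 : F) ≠ 0) :
    (∃ g : SL(2, F), cls g = 1) ∧ (∃ g : SL(2, F), cls g = (Fintype.card F ^ 2 - 1) / 2) ∧
      (∃ g : SL(2, F), cls g = Fintype.card F * (Fintype.card F - 1)) ∧
      (∃ g : SL(2, F), cls g = Fintype.card F * (Fintype.card F + 1)) ∧
      ((qroots (0 : F)).card = 0 →
        ∃ g : SL(2, F), cls g = Fintype.card F * (Fintype.card F - 1) / 2) ∧
      ((qroots (0 : F)).card = 2 →
        ∃ g : SL(2, F), cls g = Fintype.card F * (Fintype.card F + 1) / 2) := by
  have h4 := four_ne_zero' h2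
  -- the trace zero element
  have hdet0 : Matrix.det !![(0 : F), -1; 1, 0] = 1 := by
    rw [Matrix.det_fin_two_of]; ring
  have hg0 : Nonscalar (⟨!![(0 : F), -1; 1, 0], hdet0⟩ : SL(2, F)) := Or.inl (by simp)
  have htr0 : (⟨!![(0 : F), -1; 1, 0], hdet0⟩ : SL(2, F)).1 0 0 +
      (⟨!![(0 : F), -1; 1, 0], hdet0⟩ : SL(2, F)).1 1 1 = 0 := by simp
  have hc0 := cls_cases hodd h7 h2 _ hg0
  refine ⟨⟨1, cls_of_scalar 1 ?_⟩, ?_, ?_, ?_, ?_, ?_⟩
  · unfold Nonscalar
    simp
  · -- unipotent
    have hdet : Matrix.det !![(1 : F), 1; 0, 1] = 1 := by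
      rw [Matrix.det_fin_two_of]; ring
    have hg : Nonscalar (⟨!![(1 : F), 1; 0, 1], hdet⟩ : SL(2, F)) := Or.inl (by simp)
    refine ⟨_, (cls_cases hodd h7 h2 _ hg).1 ?_⟩
    simp only [Matrix.of_apply, Matrix.cons_val', Matrix.cons_val_zero, Matrix.cons_val_one]
    norm_num
  · -- no roots
    obtain ⟨t, ht0, ht4, hr⟩ := exists_no_root (F := F) h7
    have hdet : Matrix.det !![(0 : F), -1; 1, t] = 1 := by
      rw [Matrix.det_fin_two_of]; ring
    have hg : Nonscalar (⟨!![(0 : F), -1; 1, t], hdet⟩ : SL(2, F)) := Or.inl (by simp)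
    have htr : (⟨!![(0 : F), -1; 1, t], hdet⟩ : SL(2, F)).1 0 0 +
        (⟨!![(0 : F), -1; 1, t], hdet⟩ : SL(2, F)).1 1 1 = t := by simp
    refine ⟨_, (cls_cases hodd h7 h2 _ hg).2.1 ?_ ?_ ?_⟩
    · rw [htr]; exact ht0
    · rw [htr]; exact ht4
    · rw [htr]; exact hr
  · -- split
    have ht0' : (0 : F) ^ 2 ≠ 4 := by
      intro h
      apply h4
      rw [← h]; ring
    obtain ⟨l, hl⟩ : ∃ l : F, l ∉ ({0, 1, -1} : Finset F) ∪ qroots (0 : F) := by
      by_contra hcon
      push Not at hcon
      have h1 : Fintype.card F ≤ (({0, 1, -1} : Finset F) ∪ qroots (0 : F)).card := by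
        rw [← Finset.card_univ]
        exact Finset.card_le_card (fun x _ => hcon x)
      have h3 : ({0, 1, -1} : Finset F).card ≤ 3 := Finset.card_le_three
      have h5 := Finset.card_union_le ({0, 1, -1} : Finset F) (qroots (0 : F))
      rcases qroots_cases_odd ht0' with h | h <;> omega
    simp only [Finset.mem_union, Finset.mem_insert, Finset.mem_singleton, mem_qroots, not_or]
      at hl
    obtain ⟨⟨hl0, hl1, hlm1⟩, hli⟩ := hl
    have hll : l * l⁻¹ = 1 := mul_inv_cancel₀ hl0
    have hdet : Matrix.det !![l, 0; 0, l⁻¹] = 1 := by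
      rw [Matrix.det_fin_two_of]
      linear_combination hll
    have hne : l ≠ l⁻¹ := by
      intro h
      have h' : (l - 1) * (l + 1) = 0 := by
        have : l * l = 1 := by
          nth_rewrite 2 [h]
          exact hll
        linear_combination this
      rcases mul_eq_zero.mp h' with h | h
      · exact hl1 (sub_eq_zero.mp h)
      · exact hlm1 (by linear_combination h)
    have hg : Nonscalar (⟨!![l, 0; 0, l⁻¹], hdet⟩ : SL(2, F)) :=
      Or.inr (Or.inr (by simpa using hne))
    have htr : (⟨!![l, 0; 0, l⁻¹], hdet⟩ : SL(2, F)).1 0 0 +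
        (⟨!![l, 0; 0, l⁻¹], hdet⟩ : SL(2, F)).1 1 1 = l + l⁻¹ := by simp
    have ht0 : l + l⁻¹ ≠ 0 := by
      intro h
      apply hli
      linear_combination l * h - hll
    have ht4 : (l + l⁻¹) ^ 2 ≠ 4 := by
      intro h
      apply hne
      have h' : (l - l⁻¹) ^ 2 = 0 := by linear_combination h - 4 * hll
      have : l - l⁻¹ = 0 := by simpa using h'
      exact sub_eq_zero.mp this
    refine ⟨_, (cls_cases hodd h7 h2 _ hg).2.2.1 ?_ ?_ ?_⟩
    · rw [htr]; exact ht0
    · rw [htr]; exact ht4
    · rw [htr]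
      apply qroots_of_mem_odd ht4 (l := -l)
      rw [mem_qroots]
      linear_combination -hll
  · intro hr
    exact ⟨_, hc0.2.2.2.1 htr0 (by rw [htr0]; exact hr)⟩
  · intro hr
    exact ⟨_, hc0.2.2.2.2 htr0 (by rw [htr0]; exact hr)⟩

theorem range_eq_cls :
    Set.range (fun g : PSL(2, F) => (Subgroup.centralizer ({g} : Set PSL(2, F))).index) =
      Set.range (cls (F := F)) := by
  apply Set.eq_of_subset_of_subset
  · rintro _ ⟨x, rfl⟩
    obtain ⟨g, rfl⟩ := QuotientGroup.mk'_surjective (Subgroup.center SL(2, F)) x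
    exact ⟨g, rfl⟩
  · rintro _ ⟨g, rfl⟩
    exact ⟨(QuotientGroup.mk' (Subgroup.center SL(2, F))) g, rfl⟩

theorem range_index_PSL_odd (hodd : ¬ 2 ∣ Fintype.card F) (h7 : 7 ≤ Fintype.card F) :
    (Fintype.card F % 4 = 1 →
      Set.range (fun g : PSL(2, F) => (Subgroup.centralizer ({g} : Set PSL(2, F))).index) =
        {1, (Fintype.card F ^ 2 - 1) / 2, Fintype.card F * (Fintype.card F + 1) / 2,
          Fintype.card F * (Fintype.card F - 1), Fintype.card F * (Fintype.card F + 1)}) ∧
    (Fintype.card F % 4 = 3 →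
      Set.range (fun g : PSL(2, F) => (Subgroup.centralizer ({g} : Set PSL(2, F))).index) =
        {1, (Fintype.card F ^ 2 - 1) / 2, Fintype.card F * (Fintype.card F - 1) / 2,
          Fintype.card F * (Fintype.card F + 1), Fintype.card F * (Fintype.card F - 1)}) := by
  classical
  have hodd' : Fintype.card F % 2 = 1 := by omega
  have h2 : (2 : F) ≠ 0 := two_ne_zero_of_odd_card (Nat.odd_iff.mpr hodd')
  have hz := qroots_zero_odd (F := F) h2
  have hw := cls_witness hodd' h7 h2
  rw [range_eq_cls]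
  constructor
  · intro hq
    have hr := hz.1 hq
    apply Set.eq_of_subset_of_subset
    · rintro _ ⟨g, rfl⟩
      simp only [Set.mem_insert_iff, Set.mem_singleton_iff]
      rcases cls_subset hodd' h7 h2 g with h | h | h | h | ⟨h0, h⟩ | ⟨h0, h⟩
      · left; exact h
      · right; left; exact h
      · right; right; right; left; exact h
      · right; right; right; right; exact h
      · omega
      · right; right; left; exact h
    · intro n hn
      simp only [Set.mem_insert_iff, Set.mem_singleton_iff] at hn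
      rcases hn with rfl | rfl | rfl | rfl | rfl
      · exact hw.1
      · exact hw.2.1
      · exact hw.2.2.2.2.2 hr
      · exact hw.2.2.1
      · exact hw.2.2.2.1
  · intro hq
    have hr := hz.2 hq
    apply Set.eq_of_subset_of_subset
    · rintro _ ⟨g, rfl⟩
      simp only [Set.mem_insert_iff, Set.mem_singleton_iff]
      rcases cls_subset hodd' h7 h2 g with h | h | h | h | ⟨h0, h⟩ | ⟨h0, h⟩
      · left; exact h
      · right; left; exact h
      · right; right; right; right; exact h
      · right; right; right; left; exact h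
      · right; right; left; exact h
      · omega
    · intro n hn
      simp only [Set.mem_insert_iff, Set.mem_singleton_iff] at hn
      rcases hn with rfl | rfl | rfl | rfl | rfl
      · exact hw.1
      · exact hw.2.1
      · exact hw.2.2.2.2.1 hr
      · exact hw.2.2.2.1
      · exact hw.2.2.1

end Main

end Cfsg.Agent.H64.PSL2Odd
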