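import Mathlib

set_option autoImplicit false

namespace Cfsg.Agent.H64

open scoped IsMulCommutative

/-- Commuting nontrivial `p`- and `q`-elements give an element of order `p * q`. -/
theorem exists_orderOf_mul_of_commute {T : Type*} [Group T] {p q : ℕ} (hp : p.Prime) (hq : q.Prime)
    (hpq : p ≠ q) (a b : T) (ha : a ≠ 1) (hpa : ∃ k : ℕ, a ^ p ^ k = 1) (hb : b ≠ 1)
    (hqb : ∃ l : ℕ, b ^ q ^ l = 1) (hab : Commute a b) : ∃ g : T, orderOf g = p * q := by
  obtain ⟨k, hk⟩ := hpa
  obtain ⟨l, hl⟩ := hqb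
  have hoa : orderOf a ∣ p ^ k := orderOf_dvd_of_pow_eq_one hk
  have hob : orderOf b ∣ q ^ l := orderOf_dvd_of_pow_eq_one hl
  have hoa0 : orderOf a ≠ 0 := fun h => by
    rw [h] at hoa
    exact (pow_ne_zero k hp.ne_zero) (zero_dvd_iff.mp hoa)
  have hob0 : orderOf b ≠ 0 := fun h => by
    rw [h] at hob
    exact (pow_ne_zero l hq.ne_zero) (zero_dvd_iff.mp hob)
  have hpa' : p ∣ orderOf a := by
    obtain ⟨i, -, hi⟩ := (Nat.dvd_prime_pow hp).mp hoa
    rcases Nat.eq_zero_or_pos i with h0 | h0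
    · rw [h0, pow_zero, orderOf_eq_one_iff] at hi
      exact absurd hi ha
    · rw [hi]; exact dvd_pow_self p h0.ne'
  have hqb' : q ∣ orderOf b := by
    obtain ⟨i, -, hi⟩ := (Nat.dvd_prime_pow hq).mp hob
    rcases Nat.eq_zero_or_pos i with h0 | h0
    · rw [h0, pow_zero, orderOf_eq_one_iff] at hi
      exact absurd hi hb
    · rw [hi]; exact dvd_pow_self q h0.ne'
  refine ⟨a ^ (orderOf a / p) * b ^ (orderOf b / q), ?_⟩
  have h1 : orderOf (a ^ (orderOf a / p)) = p := orderOf_pow_orderOf_div hoa0 hpa'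
  have h2 : orderOf (b ^ (orderOf b / q)) = q := orderOf_pow_orderOf_div hob0 hqb'
  have hc : Commute (a ^ (orderOf a / p)) (b ^ (orderOf b / q)) := hab.pow_pow _ _
  have := hc.orderOf_mul_eq_mul_orderOf_of_coprime (by
    rw [h1, h2]; exact (Nat.coprime_primes hp hq).mpr hpq)
  rw [this, h1, h2]

/-- A counting lemma for Frobenius-like actions: if `Q` and `x` (of order dividing `r`,
normalizing `Q`) act on the commutative group `V` such that `Q`, and every `Q`-conjugate of `x`,
has no nontrivial fixed point, and no nontrivial element of `Q` commutes with a nontrivial power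
of `x`, then `V` is killed by `|Q|`. -/
theorem frob_fixed {T V : Type*} [Group T] [Group V] [IsMulCommutative V] (φ : T →* MulAut V)
    (Q : Subgroup T) [Finite Q] (x : T) (r : ℕ) (hr : 0 < r) (hxr : x ^ r = 1)
    (hxQ : ∀ y ∈ Q, x * y * x⁻¹ ∈ Q)
    (ha : ∀ v : V, (∀ y ∈ Q, φ y v = v) → v = 1)
    (hb : ∀ y ∈ Q, ∀ v : V, φ (y * x * y⁻¹) v = v → v = 1)
    (hc : ∀ y ∈ Q, ∀ j : ℕ, 0 < j → j < r → Commute y (x ^ j) → y = 1) :
    ∀ v : V, v ^ Nat.card Q = 1 := by
  classical
  have : Fintype Q := Fintype.ofFinite Q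
  have hA : ∀ v : V, ∏ y : Q, φ (y : T) v = 1 := by
    intro v
    apply ha
    intro y0 hy0
    rw [map_prod]
    have : ∀ y : Q, φ y0 (φ (y : T) v) = φ (((⟨y0, hy0⟩ : Q) * y : Q) : T) v := by
      intro y
      rw [Subgroup.coe_mul, map_mul]
      rfl
    simp_rw [this]
    exact Fintype.prod_equiv (Equiv.mulLeft (⟨y0, hy0⟩ : Q)) _ _ (fun y => rfl)
  have hB : ∀ z : T, z ^ r = 1 → ∀ v : V,
      φ z (∏ j ∈ Finset.range r, φ (z ^ j) v) = ∏ j ∈ Finset.range r, φ (z ^ j) v := by
    intro z hz v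
    rw [map_prod]
    have h1 : ∀ j : ℕ, φ z (φ (z ^ j) v) = φ (z ^ (j + 1)) v := by
      intro j
      rw [pow_succ', map_mul]
      rfl
    simp_rw [h1]
    have h2 := Finset.prod_range_succ' (fun j => φ (z ^ j) v) r
    have h3 := Finset.prod_range_succ (fun j => φ (z ^ j) v) r
    rw [h3] at h2
    simp only [hz, pow_zero] at h2
    exact (mul_right_cancel h2).symm
  -- conjugation by powers of x preserves Q
  have hxQ' : ∀ j : ℕ, ∀ y ∈ Q, x ^ j * y * (x ^ j)⁻¹ ∈ Q := by
    intro j
    induction j with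
    | zero => intro y hy; simpa using hy
    | succ j ih =>
      intro y hy
      have := hxQ _ (ih y hy)
      rw [pow_succ']
      simpa [mul_assoc] using this
  intro v
  have hBy : ∀ y : Q, ∏ j ∈ Finset.range r, φ (((y : T) * x * (y : T)⁻¹) ^ j) v = 1 := by
    intro y
    apply hb y y.2
    apply hB
    rw [conj_pow, hxr]
    simp
  have hprod : ∏ y : Q, ∏ j ∈ Finset.range r, φ (((y : T) * x * (y : T)⁻¹) ^ j) v = 1 := by
    apply Finset.prod_eq_one
    intro y _
    exact hBy y
  rw [Finset.prod_comm] at hprod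
  rw [Finset.prod_eq_single 0] at hprod
  · simpa [Finset.prod_const, Finset.card_univ, Nat.card_eq_fintype_card] using hprod
  · intro j hj hj0
    rw [Finset.mem_range] at hj
    have hjpos : 0 < j := Nat.pos_of_ne_zero hj0
    -- ψ y = y * x^j * y⁻¹ * (x^j)⁻¹ ∈ Q
    have hψmem : ∀ y : Q, (y : T) * x ^ j * (y : T)⁻¹ * (x ^ j)⁻¹ ∈ Q := by
      intro y
      have := hxQ' j _ (Q.inv_mem y.2)
      have h2 := Q.mul_mem y.2 this
      simpa [mul_assoc] using h2
    let ψ : Q → Q := fun y => ⟨(y : T) * x ^ j * (y : T)⁻¹ * (x ^ j)⁻¹, hψmem y⟩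
    have hψinj : Function.Injective ψ := by
      intro y y' hyy'
      have h1 : (y : T) * x ^ j * (y : T)⁻¹ * (x ^ j)⁻¹ = (y' : T) * x ^ j * (y' : T)⁻¹ * (x ^ j)⁻¹ :=
        congrArg Subtype.val hyy'
      have h2 : (y : T) * x ^ j * (y : T)⁻¹ = (y' : T) * x ^ j * (y' : T)⁻¹ := mul_right_cancel h1
      have h3 : Commute ((y' : T)⁻¹ * (y : T)) (x ^ j) := by
        unfold Commute SemiconjBy
        calc (y' : T)⁻¹ * (y : T) * x ^ j = (y' : T)⁻¹ * ((y : T) * x ^ j * (y : T)⁻¹) * (y : T) := by group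
          _ = (y' : T)⁻¹ * ((y' : T) * x ^ j * (y' : T)⁻¹) * (y : T) := by rw [h2]
          _ = x ^ j * ((y' : T)⁻¹ * (y : T)) := by group
      have h4 := hc _ (Q.mul_mem (Q.inv_mem y'.2) y.2) j hjpos hj h3
      have h5 : (y : T) = (y' : T) := by
        have := congrArg (fun t => (y' : T) * t) h4
        simpa using this
      exact Subtype.ext h5
    have hψbij : Function.Bijective ψ := Finite.injective_iff_bijective.mp hψinj
    have h6 : ∀ y : Q, φ (((y : T) * x * (y : T)⁻¹) ^ j) v = φ ((ψ y : Q) : T) (φ (x ^ j) v) := by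
      intro y
      have : ((y : T) * x * (y : T)⁻¹) ^ j = ((ψ y : Q) : T) * x ^ j := by
        rw [conj_pow]
        simp [ψ]
      rw [this, map_mul]
      rfl
    simp_rw [h6]
    rw [hψbij.prod_comp (fun y : Q => φ (y : T) (φ (x ^ j) v))]
    exact hA _
  · intro h
    exact absurd (Finset.mem_range.mpr hr) h

/-- A normal `p`-subgroup `P`, a `q`-subgroup `Q` and an element `x` of order `r` normalizing `Q`
force an element of order `p * q`, `p * r` or `q * r`. -/
theorem exists_orderOf_of_normal_pgroup {T : Type*} [Group T] [Finite T] {p q r : ℕ}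
    (hp : p.Prime) (hq : q.Prime) (hr : r.Prime) (hpq : p ≠ q) (hpr : p ≠ r) (hqr : q ≠ r)
    (P : Subgroup T) [P.Normal] (hP : IsPGroup p P) (hP1 : P ≠ ⊥)
    (Q : Subgroup T) (hQ : IsPGroup q Q) (hQ1 : Q ≠ ⊥)
    (x : T) (hx : orderOf x = r) (hxQ : ∀ y ∈ Q, x * y * x⁻¹ ∈ Q) :
    (∃ g : T, orderOf g = p * q) ∨ (∃ g : T, orderOf g = p * r) ∨ (∃ g : T, orderOf g = q * r) := by
  by_contra hcon
  push Not at hcon
  obtain ⟨hnpq, hnpr, hnqr⟩ := hcon
  have := Fact.mk hp
  have := Fact.mk hq
  have hx1 : x ≠ 1 := by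
    intro h
    rw [h, orderOf_one] at hx
    exact hr.one_lt.ne hx
  have hxr : x ^ r = 1 := by rw [← hx]; exact pow_orderOf_eq_one x
  -- the centre of P, as a normal commutative subgroup of T
  let V : Subgroup T := (Subgroup.center ↥P).map P.subtype
  have hVP : ∀ v ∈ V, v ∈ P := by
    rintro v ⟨z, -, rfl⟩
    exact z.2
  have hVp : ∀ v : V, ∃ k : ℕ, (v : T) ^ p ^ k = 1 := by
    intro v
    obtain ⟨k, hk⟩ := hP ⟨v, hVP v v.2⟩
    refine ⟨k, ?_⟩
    have := congrArg Subtype.val hk
    simpa using this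
  have hcl := frob_fixed (MulAut.conjNormal (H := V)) Q x r hr.pos hxr hxQ ?_ ?_ ?_
  · -- contradiction: the centre of P is nontrivial
    have : Nontrivial ↥P := (Subgroup.nontrivial_iff_ne_bot P).mpr hP1
    have hnt := hP.center_nontrivial
    obtain ⟨z, hz⟩ := exists_ne (1 : Subgroup.center ↥P)
    have hzV : ((z : ↥P) : T) ∈ V := ⟨(z : ↥P), z.2, rfl⟩
    have hz1 : ((z : ↥P) : T) ≠ 1 := by
      intro h
      apply hz
      apply Subtype.ext
      apply Subtype.ext
      simpa using h
    obtain ⟨k, hk⟩ := hVp ⟨_, hzV⟩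
    obtain ⟨l, hl⟩ := hQ.exists_card_eq
    have h1 := hcl ⟨_, hzV⟩
    have h1' : ((z : ↥P) : T) ^ Nat.card Q = 1 := by
      have := congrArg Subtype.val h1
      simpa using this
    have ho1 : orderOf ((z : ↥P) : T) ∣ q ^ l := by
      rw [← hl]; exact orderOf_dvd_of_pow_eq_one h1'
    have ho2 : orderOf ((z : ↥P) : T) ∣ p ^ k := orderOf_dvd_of_pow_eq_one hk
    have hcop : Nat.Coprime (q ^ l) (p ^ k) :=
      Nat.Coprime.pow _ _ ((Nat.coprime_primes hq hp).mpr (Ne.symm hpq))
    have := Nat.eq_one_of_dvd_coprimes hcop ho1 ho2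
    rw [orderOf_eq_one_iff] at this
    exact hz1 this
  · -- (a) no fixed points of Q
    intro v hv
    by_contra hv1
    obtain ⟨y, hyQ, hy1⟩ : ∃ y ∈ Q, y ≠ 1 := by
      obtain ⟨y, hy⟩ := (Subgroup.ne_bot_iff_exists_ne_one (H := Q)).mp hQ1
      exact ⟨(y : T), y.2, fun h => hy (Subtype.ext h)⟩
    have hcomm : Commute (v : T) y := by
      have := congrArg Subtype.val (hv y hyQ)
      rw [MulAut.conjNormal_apply] at this
      unfold Commute SemiconjBy
      calc (v : T) * y = (y * (v : T) * y⁻¹) * y := by rw [this]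
        _ = y * (v : T) := by group
    have hyq : ∃ l : ℕ, y ^ q ^ l = 1 := by
      obtain ⟨l, hl⟩ := hQ ⟨y, hyQ⟩
      exact ⟨l, by simpa using congrArg Subtype.val hl⟩
    obtain ⟨g, hg⟩ := exists_orderOf_mul_of_commute hp hq hpq (v : T) y
      (fun h => hv1 (Subtype.ext h)) (hVp v) hy1 hyq hcomm
    exact hnpq g hg
  · -- (b) no fixed points of conjugates of x
    intro y hyQ v hv
    by_contra hv1
    have hz1 : y * x * y⁻¹ ≠ 1 := by
      intro h
      apply hx1
      have : x = y⁻¹ * (y * x * y⁻¹) * y := by group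
      rw [this, h]; group
    have hzr : ∃ l : ℕ, (y * x * y⁻¹) ^ r ^ l = 1 := ⟨1, by rw [pow_one, conj_pow, hxr]; group⟩
    have hcomm : Commute (v : T) (y * x * y⁻¹) := by
      have := congrArg Subtype.val hv
      rw [MulAut.conjNormal_apply] at this
      unfold Commute SemiconjBy
      calc (v : T) * (y * x * y⁻¹) = ((y * x * y⁻¹) * (v : T) * (y * x * y⁻¹)⁻¹) * (y * x * y⁻¹) := by
            rw [this]
        _ = (y * x * y⁻¹) * (v : T) := by group
    obtain ⟨g, hg⟩ := exists_orderOf_mul_of_commute hp hr hpr (v : T) (y * x * y⁻¹)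
      (fun h => hv1 (Subtype.ext h)) (hVp v) hz1 hzr hcomm
    exact hnpr g hg
  · -- (c) no element of Q commutes with a nontrivial power of x
    intro y hyQ j hj0 hjr hcomm
    by_contra hy1
    have hxj1 : x ^ j ≠ 1 := by
      intro h
      have := orderOf_dvd_of_pow_eq_one h
      rw [hx] at this
      exact absurd (Nat.le_of_dvd hj0 this) (not_le.mpr hjr)
    have hxjr : ∃ l : ℕ, (x ^ j) ^ r ^ l = 1 := ⟨1, by rw [pow_one, ← pow_mul, mul_comm, pow_mul, hxr, one_pow]⟩
    have hyq : ∃ l : ℕ, y ^ q ^ l = 1 := by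
      obtain ⟨l, hl⟩ := hQ ⟨y, hyQ⟩
      exact ⟨l, by simpa using congrArg Subtype.val hl⟩
    obtain ⟨g, hg⟩ := exists_orderOf_mul_of_commute hq hr hqr y (x ^ j) hy1 hyq hxj1 hxjr hcomm
    exact hnqr g hg

/-- Frattini step: if `N` is normal, `q ∣ |N|` and `r ∣ [G : N]`, there are a nontrivial
`q`-subgroup `Q` and an element of order `r` normalizing it. -/
theorem exists_normalizing_elt {G : Type*} [Group G] [Finite G] {q r : ℕ} (hq : q.Prime)
    (hr : r.Prime) (N : Subgroup G) [N.Normal] (hqN : q ∣ Nat.card N) (hrN : r ∣ N.index) :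
    ∃ Q : Subgroup G, IsPGroup q Q ∧ Q ≠ ⊥ ∧ ∃ x : G, orderOf x = r ∧ ∀ y ∈ Q, x * y * x⁻¹ ∈ Q := by
  have := Fact.mk hq
  have := Fact.mk hr
  obtain ⟨Q0⟩ : Nonempty (Sylow q N) := inferInstance
  refine ⟨(Q0 : Subgroup N).map N.subtype, Q0.isPGroup'.map _, ?_, ?_⟩
  · intro h
    rw [Subgroup.map_eq_bot_iff_of_injective _ N.subtype_injective] at h
    exact Q0.ne_bot_of_dvd_card hqN h
  · have hfr : Subgroup.normalizer (((Q0 : Subgroup N).map N.subtype : Subgroup G) : Set G) ⊔ N = ⊤ :=
      Sylow.normalizer_sup_eq_top Q0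
    have h1 : N.relIndex (Subgroup.normalizer (((Q0 : Subgroup N).map N.subtype : Subgroup G) : Set G))
        = N.index := by
      rw [← Subgroup.relIndex_sup_right, hfr, Subgroup.relIndex_top_right]
    have h2 : r ∣ Nat.card (Subgroup.normalizer (((Q0 : Subgroup N).map N.subtype : Subgroup G) : Set G)) :=
      dvd_trans (h1 ▸ hrN) (Subgroup.relIndex_dvd_card _ _)
    obtain ⟨x, hx⟩ := exists_prime_orderOf_dvd_card' r h2
    refine ⟨(x : G), by rw [Subgroup.orderOf_coe]; exact hx, ?_⟩
    intro y hy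
    exact (Subgroup.mem_normalizer_iff.mp x.2 y).mp hy

/-- If `K ≤ M` are normal subgroups of the finite group `G` and the distinct primes `p`, `q`, `r`
divide `|K|`, `|M / K|`, `|G / M|` respectively, then `G` has an element of order `p * q`, `p * r`
or `q * r`. -/
theorem three_primes_of_normal_series {G : Type*} [Group G] [Finite G] (K M : Subgroup G)
    [K.Normal] [M.Normal] (hKM : K ≤ M)
    (p q r : ℕ) (hp : p.Prime) (hq : q.Prime) (hr : r.Prime) (hpq : p ≠ q) (hpr : p ≠ r)
    (hqr : q ≠ r)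
    (hpK : p ∣ Nat.card ↥K) (hqM : q ∣ Nat.card ↥M / Nat.card ↥K)
    (hrG : r ∣ Nat.card G / Nat.card ↥M) :
    (∃ x : G, orderOf x = p * q) ∨ (∃ x : G, orderOf x = p * r) ∨ (∃ x : G, orderOf x = q * r) := by
  have := Fact.mk hp
  obtain ⟨P0⟩ : Nonempty (Sylow p K) := inferInstance
  have hfr : Subgroup.normalizer (((P0 : Subgroup K).map K.subtype : Subgroup G) : Set G) ⊔ K = ⊤ :=
    Sylow.normalizer_sup_eq_top P0
  have hPp : IsPGroup p ((P0 : Subgroup K).map K.subtype : Subgroup G) := P0.isPGroup'.map _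
  have hP1 : ((P0 : Subgroup K).map K.subtype : Subgroup G) ≠ ⊥ := by
    intro h
    rw [Subgroup.map_eq_bot_iff_of_injective _ K.subtype_injective] at h
    exact P0.ne_bot_of_dvd_card hpK h
  generalize ((P0 : Subgroup K).map K.subtype : Subgroup G) = P at hfr hPp hP1
  set T : Subgroup G := Subgroup.normalizer (P : Set G) with hT
  have hqrel : q ∣ K.relIndex M := by
    have h1 : Nat.card K * K.relIndex M = Nat.card M := by
      have := Subgroup.relIndex_mul_relIndex ⊥ K M bot_le hKM
      rwa [Subgroup.relIndex_bot_left, Subgroup.relIndex_bot_left] at this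
    rw [← h1, Nat.mul_div_cancel_left _ Nat.card_pos] at hqM
    exact hqM
  have hrind : r ∣ M.index := by
    have h1 : Nat.card M * M.index = Nat.card G := Subgroup.card_mul_index M
    rw [← h1, Nat.mul_div_cancel_left _ Nat.card_pos] at hrG
    exact hrG
  have hM : M = (T ⊓ M) ⊔ K := by
    apply le_antisymm
    · intro m hm
      have hmem : m ∈ ((T ⊔ K : Subgroup G) : Set G) := by rw [hfr]; trivial
      rw [Subgroup.mul_normal] at hmem
      obtain ⟨t, ht, k, hk, rfl⟩ := hmem
      have htM : t ∈ M := by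
        have : t = (t * k) * k⁻¹ := by group
        rw [this]
        exact M.mul_mem hm (M.inv_mem (hKM hk))
      exact Subgroup.mul_mem_sup (Subgroup.mem_inf.mpr ⟨ht, htM⟩) hk
    · exact sup_le inf_le_right hKM
  have hq1 : q ∣ Nat.card (M.subgroupOf T) := by
    have h1 : K.relIndex M = K.relIndex (T ⊓ M) := by
      conv_lhs => rw [hM]
      exact Subgroup.relIndex_sup_right _ _
    have h2 : Nat.card (M.subgroupOf T) = Nat.card ↥(T ⊓ M) := by
      rw [← Subgroup.inf_subgroupOf_left]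
      exact Nat.card_congr (Subgroup.subgroupOfEquivOfLe inf_le_left).toEquiv
    rw [h2]
    exact dvd_trans (h1 ▸ hqrel) (Subgroup.relIndex_dvd_card _ _)
  have hr1 : r ∣ (M.subgroupOf T).index := by
    have h1 : M.relIndex T = M.index := by
      have hTM : T ⊔ M = ⊤ := by
        rw [eq_top_iff, ← hfr]
        exact sup_le_sup_left hKM T
      rw [← Subgroup.relIndex_sup_right, hTM, Subgroup.relIndex_top_right]
    change r ∣ M.relIndex T
    rw [h1]
    exact hrind
  obtain ⟨Q, hQ, hQ1, x, hx, hxQ⟩ := exists_normalizing_elt hq hr (M.subgroupOf T) hq1 hr1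
  have hPT : P ≤ T := Subgroup.le_normalizer
  have hP'1 : P.subgroupOf T ≠ ⊥ := by
    intro h
    rw [Subgroup.subgroupOf_eq_bot] at h
    exact hP1 (eq_bot_iff.mpr (h le_rfl hPT))
  have hP'p : IsPGroup p (P.subgroupOf T) := by
    rw [← Subgroup.comap_subtype]
    exact hPp.comap_subtype
  have hnorm : (P.subgroupOf T).Normal := Subgroup.normal_in_normalizer
  have key := exists_orderOf_of_normal_pgroup hp hq hr hpq hpr hqr (P.subgroupOf T) hP'p hP'1
    Q hQ hQ1 x hx hxQ
  rcases key with ⟨g, hg⟩ | ⟨g, hg⟩ | ⟨g, hg⟩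
  · exact Or.inl ⟨(g : G), by rw [Subgroup.orderOf_coe]; exact hg⟩
  · exact Or.inr (Or.inl ⟨(g : G), by rw [Subgroup.orderOf_coe]; exact hg⟩)
  · exact Or.inr (Or.inr ⟨(g : G), by rw [Subgroup.orderOf_coe]; exact hg⟩)

/-- Two distinct primes dividing the order of an abelian section `B / A` give an element of
order `u * v`. -/
theorem exists_orderOf_of_abelian_section {G : Type*} [Group G] [Finite G] (A B : Subgroup G)
    [A.Normal] (hAB : A ≤ B) (hcomm : ∀ x ∈ B, ∀ y ∈ B, x * y * x⁻¹ * y⁻¹ ∈ A)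
    {u v : ℕ} (hu : u.Prime) (hv : v.Prime) (huv : u ≠ v)
    (hu' : u ∣ Nat.card B / Nat.card A) (hv' : v ∣ Nat.card B / Nat.card A) :
    ∃ g : G, orderOf g = u * v := by
  have := Fact.mk hu
  have := Fact.mk hv
  have hnorm : (A.subgroupOf B).Normal := inferInstance
  have hcard : Nat.card (↥B ⧸ A.subgroupOf B) = Nat.card B / Nat.card A := by
    have h1 := Subgroup.card_eq_card_quotient_mul_card_subgroup (A.subgroupOf B)
    have h2 : Nat.card (A.subgroupOf B) = Nat.card A :=
      Nat.card_congr (Subgroup.subgroupOfEquivOfLe hAB).toEquiv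
    rw [h2] at h1
    rw [h1, Nat.mul_div_cancel _ Nat.card_pos]
  rw [← hcard] at hu' hv'
  obtain ⟨a, ha⟩ := exists_prime_orderOf_dvd_card' u hu'
  obtain ⟨b, hb⟩ := exists_prime_orderOf_dvd_card' v hv'
  have hab : Commute a b := by
    induction a using QuotientGroup.induction_on with
    | H x =>
    induction b using QuotientGroup.induction_on with
    | H y =>
    unfold Commute SemiconjBy
    rw [← QuotientGroup.mk_mul, ← QuotientGroup.mk_mul, QuotientGroup.eq]
    rw [Subgroup.mem_subgroupOf]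
    have := hcomm _ (B.inv_mem y.2) _ (B.inv_mem x.2)
    simpa [mul_assoc] using this
  have hord : orderOf (a * b) = u * v := by
    rw [hab.orderOf_mul_eq_mul_orderOf_of_coprime (by
      rw [ha, hb]; exact (Nat.coprime_primes hu hv).mpr huv), ha, hb]
  obtain ⟨g, hg⟩ := QuotientGroup.mk_surjective (a * b)
  have hdvd : u * v ∣ orderOf g := by
    rw [← hord, ← hg]
    exact orderOf_map_dvd (QuotientGroup.mk' (A.subgroupOf B)) g
  refine ⟨((g ^ (orderOf g / (u * v)) : ↥B) : G), ?_⟩
  rw [Subgroup.orderOf_coe]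
  exact orderOf_pow_orderOf_div (orderOf_pos g).ne' hdvd

/-- Divisibility bookkeeping for chains of subgroups. -/
theorem card_div_dvd_card_div {G : Type*} [Group G] [Finite G] {A B C D : Subgroup G}
    (hAB : A ≤ B) (hBC : B ≤ C) (hCD : C ≤ D) :
    Nat.card C / Nat.card B ∣ Nat.card D / Nat.card A := by
  obtain ⟨x, hx⟩ := Subgroup.card_dvd_of_le hAB
  obtain ⟨y, hy⟩ := Subgroup.card_dvd_of_le hBC
  obtain ⟨z, hz⟩ := Subgroup.card_dvd_of_le hCD
  have hA : 0 < Nat.card A := Nat.card_pos
  have hB : 0 < Nat.card B := Nat.card_pos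
  have h1 : Nat.card C / Nat.card B = y := by rw [hy, Nat.mul_div_cancel_left _ hB]
  have h2 : Nat.card D / Nat.card A = x * y * z := by
    rw [hz, hy, hx, mul_assoc, mul_assoc, Nat.mul_div_cancel_left _ hA, mul_assoc]
  rw [h1, h2]
  exact ⟨x * z, by ring⟩

/-- Sorted version: three primes in three different layers of an antitone chain of normal
subgroups. -/
theorem chain_sorted {G : Type*} [Group G] [Finite G] (E : ℕ → Subgroup G)
    (hnorm : ∀ i, (E i).Normal) (hanti : Antitone E)
    {u v w : ℕ} (hu : u.Prime) (hv : v.Prime) (hw : w.Prime) (huv : u ≠ v) (huw : u ≠ w)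
    (hvw : v ≠ w) {a b c : ℕ} (hab : b < a) (hbc : c < b)
    (hua : u ∣ Nat.card (E a) / Nat.card (E (a + 1)))
    (hvb : v ∣ Nat.card (E b) / Nat.card (E (b + 1)))
    (hwc : w ∣ Nat.card (E c) / Nat.card (E (c + 1))) :
    (∃ x : G, orderOf x = u * v) ∨ (∃ x : G, orderOf x = u * w) ∨ (∃ x : G, orderOf x = v * w) := by
  have := hnorm a
  have := hnorm b
  refine three_primes_of_normal_series (E a) (E b) (hanti hab.le) u v w hu hv hw huv huw hvw ?_ ?_ ?_
  · have h1 : Nat.card (E (a + 1)) ∣ Nat.card (E a) := Subgroup.card_dvd_of_le (hanti (Nat.le_succ a))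
    exact dvd_trans hua (Nat.div_dvd_of_dvd h1)
  · exact dvd_trans hvb (card_div_dvd_card_div (hanti (by omega)) (hanti (Nat.le_succ b)) le_rfl)
  · have h1 := card_div_dvd_card_div (A := E b) (B := E (c + 1)) (C := E c) (D := ⊤)
      (hanti (by omega)) (hanti (Nat.le_succ c)) le_top
    rw [Subgroup.card_top] at h1
    exact dvd_trans hwc h1

/-- Three primes in the layers of an antitone chain of normal subgroups whose layers of index
`≥ 1` are abelian: two of them are adjacent in the prime graph. -/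
theorem chain_three_primes {G : Type*} [Group G] [Finite G] (E : ℕ → Subgroup G)
    (hnorm : ∀ i, (E i).Normal) (hanti : Antitone E)
    (hcomm : ∀ i, 1 ≤ i → ∀ x ∈ E i, ∀ y ∈ E i, x * y * x⁻¹ * y⁻¹ ∈ E (i + 1))
    {u v w : ℕ} (hu : u.Prime) (hv : v.Prime) (hw : w.Prime) (huv : u ≠ v) (huw : u ≠ w)
    (hvw : v ≠ w) {a b c : ℕ} (ha1 : 1 ≤ a) (hb1 : 1 ≤ b)
    (hua : u ∣ Nat.card (E a) / Nat.card (E (a + 1)))
    (hvb : v ∣ Nat.card (E b) / Nat.card (E (b + 1)))
    (hwc : w ∣ Nat.card (E c) / Nat.card (E (c + 1))) :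
    (∃ x : G, orderOf x = u * v) ∨ (∃ x : G, orderOf x = u * w) ∨ (∃ x : G, orderOf x = v * w) := by
  have hsymm : ∀ m n : ℕ, (∃ x : G, orderOf x = m * n) → (∃ x : G, orderOf x = n * m) := by
    rintro m n ⟨x, hx⟩
    exact ⟨x, by rw [hx, mul_comm]⟩
  rcases Nat.lt_trichotomy a b with hab | hab | hab
  · rcases Nat.lt_trichotomy a c with hac | hac | hac
    · rcases Nat.lt_trichotomy b c with hbc | hbc | hbc
      · -- a < b < c
        rcases chain_sorted E hnorm hanti hw hv hu hvw.symm huw.symm huv.symm hbc hab hwc hvb hua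
          with h | h | h
        · exact Or.inr (Or.inr (hsymm _ _ h))
        · exact Or.inr (Or.inl (hsymm _ _ h))
        · exact Or.inl (hsymm _ _ h)
      · -- b = c
        subst hbc
        have := hnorm (b + 1)
        exact Or.inr (Or.inr (exists_orderOf_of_abelian_section (E (b + 1)) (E b)
          (hanti (Nat.le_succ b)) (hcomm b hb1) hv hw hvw hvb hwc))
      · -- a < c < b
        rcases chain_sorted E hnorm hanti hv hw hu hvw huv.symm huw.symm hbc hac hvb hwc hua
          with h | h | h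
        · exact Or.inr (Or.inr h)
        · exact Or.inl (hsymm _ _ h)
        · exact Or.inr (Or.inl (hsymm _ _ h))
    · -- a = c
      subst hac
      have := hnorm (a + 1)
      exact Or.inr (Or.inl (exists_orderOf_of_abelian_section (E (a + 1)) (E a)
        (hanti (Nat.le_succ a)) (hcomm a ha1) hu hw huw hua hwc))
    · -- c < a < b
      rcases chain_sorted E hnorm hanti hv hu hw huv.symm hvw huw hab hac hvb hua hwc
        with h | h | h
      · exact Or.inl (hsymm _ _ h)
      · exact Or.inr (Or.inr h)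
      · exact Or.inr (Or.inl h)
  · -- a = b
    subst hab
    have := hnorm (a + 1)
    exact Or.inl (exists_orderOf_of_abelian_section (E (a + 1)) (E a)
      (hanti (Nat.le_succ a)) (hcomm a ha1) hu hv huv hua hvb)
  · rcases Nat.lt_trichotomy b c with hbc | hbc | hbc
    · rcases Nat.lt_trichotomy a c with hac | hac | hac
      · -- b < a < c
        rcases chain_sorted E hnorm hanti hw hu hv huw.symm hvw.symm huv hac hab hwc hua hvb
          with h | h | h
        · exact Or.inr (Or.inl (hsymm _ _ h))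
        · exact Or.inr (Or.inr (hsymm _ _ h))
        · exact Or.inl h
      · -- a = c
        subst hac
        have := hnorm (a + 1)
        exact Or.inr (Or.inl (exists_orderOf_of_abelian_section (E (a + 1)) (E a)
          (hanti (Nat.le_succ a)) (hcomm a ha1) hu hw huw hua hwc))
      · -- b < c < a
        rcases chain_sorted E hnorm hanti hu hw hv huw huv hvw.symm hac hbc hua hwc hvb
          with h | h | h
        · exact Or.inr (Or.inl h)
        · exact Or.inl h
        · exact Or.inr (Or.inr (hsymm _ _ h))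
    · -- b = c
      subst hbc
      have := hnorm (b + 1)
      exact Or.inr (Or.inr (exists_orderOf_of_abelian_section (E (b + 1)) (E b)
        (hanti (Nat.le_succ b)) (hcomm b hb1) hv hw hvw hvb hwc))
    · -- c < b < a
      exact chain_sorted E hnorm hanti hu hv hw huv huw hvw hab hbc hua hvb hwc

/-- A prime dividing `|E m|` divides some layer of index `≥ m` of a chain ending in `⊥`. -/
theorem exists_layer {G : Type*} [Group G] [Finite G] (E : ℕ → Subgroup G) (hanti : Antitone E)
    {n : ℕ} (hn : E n = ⊥) {s : ℕ} (hs : s.Prime) {m : ℕ} (hsm : s ∣ Nat.card (E m)) :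
    ∃ i, m ≤ i ∧ s ∣ Nat.card (E i) / Nat.card (E (i + 1)) := by
  by_contra hcon
  push Not at hcon
  have key : ∀ k : ℕ, s ∣ Nat.card (E (m + k)) := by
    intro k
    induction k with
    | zero => simpa using hsm
    | succ k ih =>
      have h1 : Nat.card (E (m + k + 1)) ∣ Nat.card (E (m + k)) :=
        Subgroup.card_dvd_of_le (hanti (Nat.le_succ _))
      have h2 : Nat.card (E (m + k)) =
          Nat.card (E (m + k + 1)) * (Nat.card (E (m + k)) / Nat.card (E (m + k + 1))) :=
        (Nat.mul_div_cancel' h1).symm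
      rw [h2] at ih
      rcases (Nat.Prime.dvd_mul hs).mp ih with h | h
      · exact h
      · exact absurd h (hcon (m + k) (Nat.le_add_right m k))
  have h1 := key n
  have h2 : E (m + n) = ⊥ := by
    rw [eq_bot_iff, ← hn]
    exact hanti (Nat.le_add_left n m)
  rw [h2, Subgroup.card_bot] at h1
  exact hs.one_lt.ne' (Nat.dvd_one.mp h1)

/-- The chain `G ≥ K ≥ K' ≥ K'' ≥ …` of subgroups of `G`. -/
def derChain {G : Type*} [Group G] (K : Subgroup G) : ℕ → Subgroup G
  | 0 => ⊤
  | (j + 1) => (derivedSeries ↥K j).map K.subtype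

theorem derChain_zero {G : Type*} [Group G] (K : Subgroup G) : derChain K 0 = ⊤ := rfl

theorem derChain_succ {G : Type*} [Group G] (K : Subgroup G) (j : ℕ) :
    derChain K (j + 1) = (derivedSeries ↥K j).map K.subtype := rfl

theorem derChain_one {G : Type*} [Group G] (K : Subgroup G) : derChain K 1 = K := by
  rw [derChain_succ, derivedSeries_zero, ← MonoidHom.range_eq_map, Subgroup.range_subtype]

theorem derChain_normal {G : Type*} [Group G] (K : Subgroup G) [K.Normal] (i : ℕ) :
    (derChain K i).Normal := by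
  cases i with
  | zero => rw [derChain_zero]; infer_instance
  | succ j => rw [derChain_succ]; infer_instance

theorem derChain_antitone {G : Type*} [Group G] (K : Subgroup G) : Antitone (derChain K) := by
  apply antitone_nat_of_succ_le
  intro i
  cases i with
  | zero => rw [derChain_zero]; exact le_top
  | succ j =>
    rw [derChain_succ, derChain_succ]
    exact Subgroup.map_mono (derivedSeries_antitone (↥K) (Nat.le_succ j))

theorem derChain_comm {G : Type*} [Group G] (K : Subgroup G) (i : ℕ) (hi : 1 ≤ i) :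
    ∀ x ∈ derChain K i, ∀ y ∈ derChain K i, x * y * x⁻¹ * y⁻¹ ∈ derChain K (i + 1) := by
  intro x hx y hy
  obtain ⟨j, rfl⟩ : ∃ j, i = j + 1 := ⟨i - 1, by omega⟩
  rw [derChain_succ] at hx hy ⊢
  obtain ⟨x', hx', rfl⟩ := hx
  obtain ⟨y', hy', rfl⟩ := hy
  refine ⟨x' * y' * x'⁻¹ * y'⁻¹, ?_, by simp⟩
  rw [derivedSeries_succ]
  have := Subgroup.commutator_mem_commutator hx' hy'
  rwa [commutatorElement_def] at this

/-- If `K` is a solvable normal subgroup of the finite group `G`, `p ≠ q` are primes dividing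
`|K|` and `r` is a third prime dividing `|G|`, then two of `p`, `q`, `r` are adjacent in the
prime graph of `G`. -/
theorem solvable_normal_three_primes {G : Type*} [Group G] [Finite G] (K : Subgroup G) [K.Normal]
    (hK : Group.IsSolvable ↥K) {p q r : ℕ} (hp : p.Prime) (hq : q.Prime) (hr : r.Prime)
    (hpq : p ≠ q) (hpr : p ≠ r) (hqr : q ≠ r) (hpK : p ∣ Nat.card K) (hqK : q ∣ Nat.card K)
    (hrG : r ∣ Nat.card G) :
    (∃ x : G, orderOf x = p * q) ∨ (∃ x : G, orderOf x = p * r) ∨ (∃ x : G, orderOf x = q * r) := by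
  obtain ⟨n, hn⟩ := hK.solvable
  have hEn : derChain K (n + 1) = ⊥ := by
    rw [derChain_succ, hn, Subgroup.map_bot]
  have hpK' : p ∣ Nat.card ↥(derChain K 1) := by rw [derChain_one]; exact hpK
  have hqK' : q ∣ Nat.card ↥(derChain K 1) := by rw [derChain_one]; exact hqK
  have hrG' : r ∣ Nat.card ↥(derChain K 0) := by rw [derChain_zero, Subgroup.card_top]; exact hrG
  obtain ⟨a, ha1, hua⟩ := exists_layer (derChain K) (derChain_antitone K) hEn hp hpK'
  obtain ⟨b, hb1, hvb⟩ := exists_layer (derChain K) (derChain_antitone K) hEn hq hqK'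
  obtain ⟨c, -, hwc⟩ := exists_layer (derChain K) (derChain_antitone K) hEn hr hrG'
  exact chain_three_primes (derChain K) (derChain_normal K) (derChain_antitone K) (derChain_comm K)
    hp hq hr hpq hpr hqr ha1 hb1 hua hvb hwc

end Cfsg.Agent.H64
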