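import Mathlib

set_option autoImplicit false

namespace Cfsg.Agent.H64.Red

/-- `p ∤ q` when `p ∣ q - 1` and `1 < q`. -/
theorem not_dvd_of_dvd_pred {p q : ℕ} (hp : p.Prime) (hq : 1 ≤ q) (h1 : p ∣ q - 1) : ¬ p ∣ q := by
  intro h
  have : p ∣ q - (q - 1) := Nat.dvd_sub h h1
  have h2 : q - (q - 1) = 1 := by omega
  rw [h2] at this
  exact hp.one_lt.ne' (Nat.dvd_one.mp this)

/-- the `p`-adic valuation of `q^j - 1`. -/
theorem val_pow_sub_one {p q : ℕ} [hp : Fact p.Prime] (hodd : p ≠ 2) (hq : 1 < q) (h1 : p ∣ q - 1)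
    (h2 : ¬ p ^ 2 ∣ q - 1) (j : ℕ) (hj : j ≠ 0) :
    padicValNat p (q ^ j - 1) = 1 + padicValNat p j := by
  have hp1 : Odd p := hp.out.odd_of_ne_two hodd
  have h := padicValNat.pow_sub_pow (p := p) hp1 (x := q) (y := 1) hq (by simpa using h1)
    (not_dvd_of_dvd_pred hp.out hq.le h1) hj
  rw [one_pow] at h
  rw [h]
  congr 1
  have hne : q - 1 ≠ 0 := by omega
  have h3 : 1 ≤ padicValNat p (q - 1) := one_le_padicValNat_of_dvd hne h1
  have h4 : ¬ 2 ≤ padicValNat p (q - 1) := by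
    intro h5
    exact h2 ((padicValNat_dvd_iff_le hne).mpr h5)
  omega

/-- the `p`-part of `∏ i < p, (q^p - q^i)` is `p^(p+1)`. -/
theorem factorization_prod_GL {p q : ℕ} [hp : Fact p.Prime] (hodd : p ≠ 2) (hq : 1 < q)
    (h1 : p ∣ q - 1) (h2 : ¬ p ^ 2 ∣ q - 1) :
    (∏ i : Fin p, (q ^ p - q ^ (i : ℕ))).factorization p = p + 1 := by
  have hpos : ∀ i : Fin p, q ^ p - q ^ (i : ℕ) ≠ 0 := by
    intro i
    have : q ^ (i : ℕ) < q ^ p := Nat.pow_lt_pow_right hq i.2
    omega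
  rw [Nat.factorization_prod (fun i _ => hpos i)]
  rw [Finsupp.finsetSum_apply]
  have hterm : ∀ i : Fin p, (q ^ p - q ^ (i : ℕ)).factorization p
      = 1 + (if (i : ℕ) = 0 then 1 else 0) := by
    intro i
    rw [Nat.factorization_def _ hp.out]
    have hsplit : q ^ p - q ^ (i : ℕ) = q ^ (i : ℕ) * (q ^ (p - (i : ℕ)) - 1) := by
      rw [Nat.mul_sub, mul_one, ← pow_add]
      congr 2
      have := i.2
      omega
    rw [hsplit]
    have hne1 : q ^ (i : ℕ) ≠ 0 := by positivity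
    have hne2 : q ^ (p - (i : ℕ)) - 1 ≠ 0 := by
      have : 1 < q ^ (p - (i : ℕ)) := Nat.one_lt_pow (by have := i.2; omega) hq
      omega
    rw [padicValNat.mul hne1 hne2]
    have hz : padicValNat p (q ^ (i : ℕ)) = 0 := by
      apply padicValNat.eq_zero_of_not_dvd
      intro h
      exact not_dvd_of_dvd_pred hp.out hq.le h1 (hp.out.dvd_of_dvd_pow h)
    rw [hz, zero_add, val_pow_sub_one hodd hq h1 h2 _ (by have := i.2; omega)]
    congr 1
    split_ifs with h0
    · rw [h0, Nat.sub_zero, padicValNat_self]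
    · apply padicValNat.eq_zero_of_not_dvd
      intro h
      have hle := Nat.le_of_dvd (by have := i.2; omega) h
      omega
  rw [Finset.sum_congr rfl (fun i _ => hterm i)]
  rw [Finset.sum_add_distrib]
  simp only [Finset.sum_const, Finset.card_univ, Fintype.card_fin, smul_eq_mul, mul_one]
  congr 1
  rw [Finset.sum_eq_single (⟨0, hp.out.pos⟩ : Fin p)]
  · simp
  · intro b _ hb
    have : (b : ℕ) ≠ 0 := fun h => hb (Fin.ext h)
    simp [this]
  · intro h
    exact absurd (Finset.mem_univ _) h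

end Cfsg.Agent.H64.Red
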