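import Mathlib
import Cfsg.Agent.H64.Red1

set_option autoImplicit false

namespace Cfsg.Agent.H64.Red

open Matrix

variable {F : Type*} [Field F] {p : ℕ} [NeZero p]

/-- The monomial matrix with entry `d i` at position `(i, i + k)`. -/
def mono (d : Fin p → F) (k : Fin p) : Matrix (Fin p) (Fin p) F :=
  Matrix.of fun i j => if j = i + k then d i else 0

theorem mono_apply (d : Fin p → F) (k : Fin p) (i j : Fin p) :
    mono d k i j = if j = i + k then d i else 0 := rfl

theorem mono_mul (d e : Fin p → F) (k l : Fin p) :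
    mono d k * mono e l = mono (fun i => d i * e (i + k)) (k + l) := by
  ext i j
  simp only [mono_apply, Matrix.mul_apply]
  rw [Finset.sum_eq_single (i + k)]
  · simp [add_assoc]
  · intro b _ hb
    simp [hb]
  · intro h
    exact absurd (Finset.mem_univ _) h

theorem mono_one : mono (fun _ : Fin p => (1 : F)) 0 = 1 := by
  ext i j
  simp only [mono_apply, Matrix.one_apply, add_zero]
  by_cases h : i = j
  · simp [h]
  · simp [h, Ne.symm h]

theorem mono_inj {d e : Fin p → F} {k l : Fin p} (hd : ∀ i, d i ≠ 0)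
    (h : mono d k = mono e l) : k = l ∧ d = e := by
  have key : ∀ i, i + k = i + l ∧ d i = e i := by
    intro i
    have h1 := congr_fun (congr_fun h i) (i + k)
    simp only [mono_apply, if_true] at h1
    by_cases h2 : i + k = i + l
    · rw [if_pos h2] at h1
      exact ⟨h2, h1⟩
    · rw [if_neg h2] at h1
      exact absurd h1 (hd i)
  exact ⟨add_left_cancel (key 0).1, funext fun i => (key i).2⟩

/-- a monomial matrix with nonzero coefficients, as an element of `GL`. -/
noncomputable def monoU (d : Fin p → F) (k : Fin p) (hd : ∀ i, d i ≠ 0) : GL (Fin p) F :=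
  ⟨mono d k, mono (fun i => (d (i - k))⁻¹) (-k), by
    rw [mono_mul]
    have : (fun i => d i * (d (i + k - k))⁻¹) = fun _ : Fin p => (1 : F) := by
      funext i
      rw [add_sub_cancel_right, mul_inv_cancel₀ (hd i)]
    rw [this, add_neg_cancel, mono_one], by
    rw [mono_mul]
    have : (fun i => (d (i - k))⁻¹ * d (i + -k)) = fun _ : Fin p => (1 : F) := by
      funext i
      rw [← sub_eq_add_neg, inv_mul_cancel₀ (hd _)]
    rw [this, neg_add_cancel, mono_one]⟩

@[simp] theorem coe_monoU (d : Fin p → F) (k : Fin p) (hd : ∀ i, d i ≠ 0) :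
    ((monoU d k hd : GL (Fin p) F) : Matrix (Fin p) (Fin p) F) = mono d k := rfl

theorem ne_zero_of_pow_eq_one {a : F} (h : a ^ p = 1) : a ≠ 0 := by
  rintro rfl
  rw [zero_pow (NeZero.ne p)] at h
  exact zero_ne_one h

variable (F p) in
/-- The group of monomial matrices `d σ^k` with `d_i ∈ μ_p`. -/
def Q0 : Subgroup (GL (Fin p) F) where
  carrier := {g | ∃ (d : Fin p → F) (k : Fin p), (∀ i, d i ^ p = 1) ∧
    (g : Matrix (Fin p) (Fin p) F) = mono d k}
  mul_mem' := by
    rintro a b ⟨d, k, hd, ha⟩ ⟨e, l, he, hb⟩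
    refine ⟨fun i => d i * e (i + k), k + l, fun i => ?_, ?_⟩
    · rw [mul_pow, hd, he, one_mul]
    · rw [Units.val_mul, ha, hb, mono_mul]
  one_mem' := ⟨fun _ => 1, 0, fun _ => one_pow _, by rw [Units.val_one, mono_one]⟩
  inv_mem' := by
    rintro a ⟨d, k, hd, ha⟩
    have hd0 : ∀ i, d i ≠ 0 := fun i => ne_zero_of_pow_eq_one (hd i)
    have ha' : a = monoU d k hd0 := Units.ext ha
    refine ⟨fun i => (d (i - k))⁻¹, -k, fun i => ?_, ?_⟩
    · rw [inv_pow, hd, inv_one]
    · rw [ha']
      rfl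

theorem mem_Q0 {g : GL (Fin p) F} : g ∈ Q0 F p ↔ ∃ (d : Fin p → F) (k : Fin p),
    (∀ i, d i ^ p = 1) ∧ (g : Matrix (Fin p) (Fin p) F) = mono d k := Iff.rfl

theorem monoU_mem_Q0 (d : Fin p → F) (k : Fin p) (hd : ∀ i, d i ^ p = 1) :
    monoU d k (fun i => ne_zero_of_pow_eq_one (hd i)) ∈ Q0 F p :=
  ⟨d, k, hd, rfl⟩

theorem card_Q0 (hμ : Nat.card {a : F // a ^ p = 1} = p) : Nat.card (Q0 F p) = p ^ (p + 1) := by
  let f : (Fin p → {a : F // a ^ p = 1}) × Fin p → Q0 F p := fun x =>
    ⟨monoU (fun i => (x.1 i : F)) x.2 (fun i => ne_zero_of_pow_eq_one (x.1 i).2),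
      monoU_mem_Q0 _ _ (fun i => (x.1 i).2)⟩
  have hf : Function.Bijective f := by
    constructor
    · rintro ⟨d, k⟩ ⟨e, l⟩ h
      have h1 : mono (fun i => (d i : F)) k = mono (fun i => (e i : F)) l := by
        have := congr_arg (fun x : Q0 F p => ((x : GL (Fin p) F) : Matrix (Fin p) (Fin p) F)) h
        simpa [f] using this
      obtain ⟨h2, h3⟩ := mono_inj (fun i => ne_zero_of_pow_eq_one (d i).2) h1
      refine Prod.ext ?_ h2
      funext i
      exact Subtype.ext (congr_fun h3 i)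
    · rintro ⟨g, d, k, hd, hg⟩
      refine ⟨(fun i => ⟨d i, hd i⟩, k), ?_⟩
      apply Subtype.ext
      apply Units.ext
      simp [f, hg]
  rw [← Nat.card_congr (Equiv.ofBijective f hf), Nat.card_prod, Nat.card_fun, hμ, Nat.card_fin,
    pow_succ]

end Cfsg.Agent.H64.Red
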