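import Mathlib
import Cfsg.Agent.H64.Red2

set_option autoImplicit false

namespace Cfsg.Agent.H64.Red

open Matrix

section general

variable {G : Type*} [Group G] {p : ℕ} [Fact p.Prime]

/-- a conjugate Sylow subgroup different from `Q` containing `x`. -/
theorem exists_sylow_conj (Q : Sylow p G) (g x : G)
    (hx : ∃ s ∈ (Q : Subgroup G), g * s * g⁻¹ = x) (ht : ∃ t ∈ (Q : Subgroup G), g * t * g⁻¹ ∉ (Q : Subgroup G)) :
    ∃ P : Sylow p G, P ≠ Q ∧ x ∈ P := by
  have key : ∀ s ∈ (Q : Subgroup G), g * s * g⁻¹ ∈ ((g • Q : Sylow p G) : Subgroup G) := by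
    intro s hs
    rw [Sylow.coe_subgroup_smul]
    have := Subgroup.smul_mem_pointwise_smul s (MulAut.conj g) (Q : Subgroup G) hs
    simpa [MulAut.smul_def] using this
  refine ⟨g • Q, ?_, ?_⟩
  · intro h
    obtain ⟨t, htQ, ht'⟩ := ht
    apply ht'
    have := key t htQ
    rwa [h] at this
  · obtain ⟨s, hs, rfl⟩ := hx
    exact key s hs

/-- a commuting `p`-element outside `Q` gives a second Sylow subgroup. -/
theorem exists_sylow_comm [Finite G] (Q : Sylow p G) (x z : G)
    (hx : ∃ k : ℕ, orderOf x = p ^ k) (hz : z ^ p = 1) (hc : x * z = z * x)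
    (hzQ : z ∉ (Q : Subgroup G)) : ∃ P : Sylow p G, P ≠ Q ∧ x ∈ P := by
  have hp : p.Prime := Fact.out
  have h1 : IsPGroup p (Subgroup.zpowers x) := by
    obtain ⟨k, hk⟩ := hx
    exact IsPGroup.of_card (n := k) (by rw [Nat.card_zpowers, hk])
  have h2 : IsPGroup p (Subgroup.zpowers z) := by
    have hdvd : orderOf z ∣ p := orderOf_dvd_of_pow_eq_one hz
    rcases (Nat.dvd_prime hp).mp hdvd with h | h
    · exact IsPGroup.of_card (n := 0) (by rw [Nat.card_zpowers, h, pow_zero])
    · exact IsPGroup.of_card (n := 1) (by rw [Nat.card_zpowers, h, pow_one])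
  have hcomm : Commute x z := hc
  have h3 : Subgroup.zpowers x ≤ Subgroup.normalizer (Subgroup.zpowers z : Set G) := by
    rw [Subgroup.zpowers_le]
    rw [Subgroup.mem_normalizer_iff]
    intro h
    constructor
    · intro hh
      obtain ⟨n, rfl⟩ := Subgroup.mem_zpowers_iff.mp hh
      have : x * z ^ n * x⁻¹ = z ^ n := by
        rw [(hcomm.zpow_right n).eq, mul_inv_cancel_right]
      rw [this]
      exact Subgroup.zpow_mem_zpowers z n
    · intro hh
      obtain ⟨n, hn⟩ := Subgroup.mem_zpowers_iff.mp hh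
      have h5 : h = z ^ n := by
        have h6 : h = x⁻¹ * (x * h * x⁻¹) * x := by group
        rw [h6, ← hn, mul_assoc, ← (hcomm.zpow_right n).eq, inv_mul_cancel_left]
      rw [h5]
      exact Subgroup.zpow_mem_zpowers z n
  obtain ⟨P, hP⟩ := (h1.to_sup_of_normal_right' h2 h3).exists_le_sylow
  refine ⟨P, ?_, hP (Subgroup.mem_sup_left (Subgroup.mem_zpowers x))⟩
  intro h
  apply hzQ
  rw [← h]
  exact hP (Subgroup.mem_sup_right (Subgroup.mem_zpowers z))

end general

section fin

variable {p : ℕ} [hp : Fact p.Prime] [NeZero p]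

theorem nsmul_eq_zero_iff {k : Fin p} (hk : k ≠ 0) (m : ℕ) : m • k = 0 ↔ p ∣ m := by
  have h1 : p • k = 0 := by
    have := card_nsmul_eq_zero (G := Fin p) (x := k)
    simpa using this
  have h2 : addOrderOf k = p := addOrderOf_eq_prime h1 hk
  have h3 := addOrderOf_dvd_iff_nsmul_eq_zero (x := k) (n := m)
  rw [h2] at h3
  exact h3.symm

theorem nsmul_inj {k : Fin p} (hk : k ≠ 0) {m m' : ℕ} (hm : m < p) (hm' : m' < p)
    (h : m • k = m' • k) : m = m' := by
  wlog hle : m ≤ m' generalizing m m'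
  · exact (this hm' hm h.symm (by omega)).symm
  have h1 : (m' - m) • k = 0 := by
    have h2 : (m' - m) • k + m • k = m' • k := by
      rw [← add_nsmul, Nat.sub_add_cancel hle]
    rw [← h] at h2
    exact add_right_cancel (a := (m' - m) • k) (b := m • k) (c := 0) (by rw [h2, zero_add])
  have h3 := (nsmul_eq_zero_iff hk _).mp h1
  have h4 : m' - m = 0 := Nat.eq_zero_of_dvd_of_lt h3 (by omega)
  omega

theorem exists_nsmul {k : Fin p} (hk : k ≠ 0) (j : Fin p) : ∃ m, m < p ∧ m • k = j := by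
  have hinj : Function.Injective (fun m : Fin p => (m : ℕ) • k) := by
    intro a b hab
    exact Fin.ext (nsmul_inj hk a.2 b.2 hab)
  obtain ⟨m, hm⟩ := (Finite.injective_iff_surjective.mp hinj) j
  exact ⟨m, m.2, hm⟩

end fin

section entries

variable {F : Type*} [Field F] {p : ℕ} [NeZero p]

theorem mul_mono_zero_apply (M : Matrix (Fin p) (Fin p) F) (τ : Fin p → F) (a b : Fin p) :
    (M * mono τ 0) a b = M a b * τ b := by
  simp only [Matrix.mul_apply, mono_apply, add_zero]
  rw [Finset.sum_eq_single b]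
  · simp
  · intro c _ hc
    simp [Ne.symm hc]
  · intro h
    exact absurd (Finset.mem_univ _) h

theorem mono_mul_apply (M : Matrix (Fin p) (Fin p) F) (e : Fin p → F) (l : Fin p) (a b : Fin p) :
    (mono e l * M) a b = e a * M (a + l) b := by
  simp only [Matrix.mul_apply, mono_apply]
  rw [Finset.sum_eq_single (a + l)]
  · simp
  · intro c _ hc
    simp [hc]
  · intro h
    exact absurd (Finset.mem_univ _) h

theorem mono_pow (d : Fin p → F) (k : Fin p) (hd : ∀ i, d i ^ p = 1) (m : ℕ) :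
    ∃ d' : Fin p → F, (∀ i, d' i ^ p = 1) ∧ mono d k ^ m = mono d' (m • k) := by
  induction m with
  | zero => exact ⟨fun _ => 1, fun _ => one_pow _, by rw [pow_zero, zero_nsmul, mono_one]⟩
  | succ m ih =>
    obtain ⟨d', hd', h⟩ := ih
    refine ⟨fun i => d' i * d (i + m • k), fun i => by rw [mul_pow, hd', hd, one_mul], ?_⟩
    rw [pow_succ, h, mono_mul, succ_nsmul]

/-- if conjugating `t` by `g` lands in `Q0`, we get a matrix equation. -/
theorem eq_of_conj_mem_Q0 {g t : GL (Fin p) F} (h : g * t * g⁻¹ ∈ Q0 F p) :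
    ∃ (e : Fin p → F) (l : Fin p), (∀ i, e i ^ p = 1) ∧
      (g : Matrix (Fin p) (Fin p) F) * (t : Matrix (Fin p) (Fin p) F)
        = mono e l * (g : Matrix (Fin p) (Fin p) F) := by
  obtain ⟨e, l, he, hel⟩ := h
  refine ⟨e, l, he, ?_⟩
  rw [← hel, ← Units.val_mul, ← Units.val_mul]
  congr 1
  group

end entries

end Cfsg.Agent.H64.Red
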