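import Mathlib
import Cfsg.Agent.H64.Red3

set_option autoImplicit false

namespace Cfsg.Agent.H64.Red

open Matrix

variable {F : Type*} [Field F] {p : ℕ} [hp : Fact p.Prime] [NeZero p]

theorem tau_pow (i₀ : Fin p) (ζ : F) (hζ : ζ ^ p = 1) (a : Fin p) :
    (Function.update (fun _ : Fin p => (1 : F)) i₀ ζ) a ^ p = 1 := by
  by_cases h : a = i₀
  · subst h
    rw [Function.update_self, hζ]
  · rw [Function.update_of_ne h, one_pow]

/-- Case 1: a diagonal element with a repeated entry. -/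
theorem case1 (Q : Sylow p (GL (Fin p) F)) (hQ : (Q : Subgroup (GL (Fin p) F)) = Q0 F p)
    (ζ : F) (hζ : ζ ^ p = 1) (hζ1 : ζ ≠ 1)
    (x : GL (Fin p) F) (d : Fin p → F) (hx : (x : Matrix (Fin p) (Fin p) F) = mono d 0)
    (hxQ : x ∈ Q0 F p) (i j : Fin p) (hij : i ≠ j) (hdij : d i = d j) :
    ∃ P : Sylow p (GL (Fin p) F), P ≠ Q ∧ x ∈ P := by
  have hζ0 : ζ ≠ 0 := ne_zero_of_pow_eq_one hζ
  let uU : GL (Fin p) F := ⟨transvection i j (1 : F), transvection i j (-1),
    by rw [transvection_mul_transvection_same i j hij, add_neg_cancel, transvection_zero],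
    by rw [transvection_mul_transvection_same i j hij, neg_add_cancel, transvection_zero]⟩
  have huU : (uU : Matrix (Fin p) (Fin p) F) = transvection i j (1 : F) := rfl
  have hUap : ∀ a b : Fin p, transvection i j (1 : F) a b
      = (if a = b then 1 else 0) + (if i = a ∧ j = b then 1 else 0) := by
    intro a b
    simp [transvection, Matrix.one_apply, Matrix.single_apply]
  have hcomm : uU * x = x * uU := by
    apply Units.ext
    rw [Units.val_mul, Units.val_mul, huU, hx]
    ext a b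
    rw [mul_mono_zero_apply, mono_mul_apply, add_zero, hUap]
    by_cases hab : a = b
    · subst hab
      ring
    · by_cases h : i = a ∧ j = b
      · obtain ⟨rfl, rfl⟩ := h
        rw [hdij]
        ring
      · simp [hab, h]
  let τ : Fin p → F := Function.update (fun _ => 1) i ζ
  have hτ : ∀ a, τ a ^ p = 1 := tau_pow i ζ hζ
  refine exists_sylow_conj Q uU x ⟨x, hQ ▸ hxQ, by rw [hcomm, mul_inv_cancel_right]⟩
    ⟨monoU τ 0 (fun a => ne_zero_of_pow_eq_one (hτ a)), hQ ▸ monoU_mem_Q0 τ 0 hτ, ?_⟩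
  intro hmem
  rw [hQ] at hmem
  obtain ⟨e, l, he, heq⟩ := eq_of_conj_mem_Q0 hmem
  rw [huU, coe_monoU] at heq
  have E : ∀ a b : Fin p, transvection i j (1 : F) a b * τ b
      = e a * transvection i j (1 : F) (a + l) b := by
    intro a b
    have := congr_fun (congr_fun heq a) b
    rwa [mul_mono_zero_apply, mono_mul_apply] at this
  have hτi : τ i = ζ := Function.update_self ..
  have hτj : τ j = 1 := Function.update_of_ne hij.symm ..
  have E1 := E i i
  have E2 := E i j
  rw [hUap, hUap, hτi] at E1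
  rw [hUap, hUap, hτj] at E2
  by_cases hl : l = 0
  · subst hl
    simp [hij, hij.symm] at E1 E2
    exact hζ1 (by rw [E1, ← E2])
  · have h1 : i + l ≠ i := by
      intro h
      exact hl (by simpa using h)
    simp [hij.symm, h1, h1.symm] at E1
    exact hζ0 E1

theorem pow_val_succ (hp1 : 1 < p) (w : F) (hw : w ^ p = 1) (c : Fin p) :
    w ^ ((c + 1 : Fin p) : ℕ) = w ^ ((c : ℕ) + 1) := by
  rw [Fin.val_add, ← pow_eq_pow_mod _ hw]
  congr 2
  simp [Nat.mod_eq_of_lt hp1]

/-- Case 2: a diagonal element with pairwise distinct entries. -/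
theorem case2 (Q : Sylow p (GL (Fin p) F)) (hQ : (Q : Subgroup (GL (Fin p) F)) = Q0 F p)
    (ζ : F) (hζ : ζ ^ p = 1) (hζ1 : ζ ≠ 1) (hp3 : 3 ≤ p)
    (x : GL (Fin p) F) (d : Fin p → F) (hd : ∀ i, d i ^ p = 1)
    (hx : (x : Matrix (Fin p) (Fin p) F) = mono d 0) (hinj : Function.Injective d) :
    ∃ P : Sylow p (GL (Fin p) F), P ≠ Q ∧ x ∈ P := by
  have hζ0 : ζ ≠ 0 := ne_zero_of_pow_eq_one hζ
  have hd0 : ∀ i, d i ≠ 0 := fun i => ne_zero_of_pow_eq_one (hd i)
  let v : Fin p → F := fun a => (d a)⁻¹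
  have hv : ∀ a, v a ^ p = 1 := fun a => by
    show ((d a)⁻¹) ^ p = 1
    rw [inv_pow, hd, inv_one]
  have hv0 : ∀ a, v a ≠ 0 := fun a => ne_zero_of_pow_eq_one (hv a)
  have hvinj : Function.Injective v := fun a b h => hinj (inv_injective h)
  have hdet : (vandermonde v).det ≠ 0 := det_vandermonde_ne_zero_iff.mpr hvinj
  have hu : IsUnit (vandermonde v) := (Matrix.isUnit_iff_isUnit_det _).mpr (IsUnit.mk0 _ hdet)
  let gU : GL (Fin p) F := hu.unit
  have hgU : (gU : Matrix (Fin p) (Fin p) F) = vandermonde v := rfl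
  let s : GL (Fin p) F := monoU (fun _ => 1) 1 (fun _ => one_ne_zero)
  have hs : s ∈ Q0 F p := ⟨fun _ => 1, 1, fun _ => one_pow _, rfl⟩
  have heq : x * gU = gU * s := by
    apply Units.ext
    rw [Units.val_mul, Units.val_mul, hgU, hx, coe_monoU]
    ext a b
    rw [mono_mul_apply, add_zero, vandermonde_apply]
    simp only [Matrix.mul_apply, mono_apply, vandermonde_apply]
    rw [Finset.sum_eq_single (b - 1)]
    · rw [if_pos (sub_add_cancel b 1).symm, mul_one]
      have h1 := pow_val_succ (by omega) (v a) (hv a) (b - 1)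
      rw [sub_add_cancel] at h1
      rw [h1, pow_succ]
      have h2 : d a * v a = 1 := mul_inv_cancel₀ (hd0 a)
      calc d a * (v a ^ ((b - 1 : Fin p) : ℕ) * v a)
          = v a ^ ((b - 1 : Fin p) : ℕ) * (d a * v a) := by ring
        _ = v a ^ ((b - 1 : Fin p) : ℕ) := by rw [h2, mul_one]
    · intro c _ hc
      have : b ≠ c + 1 := fun h => hc (by rw [h, add_sub_cancel_right])
      simp [this]
    · intro h
      exact absurd (Finset.mem_univ _) h
  let τ : Fin p → F := Function.update (fun _ => 1) 0 ζ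
  have hτ : ∀ a, τ a ^ p = 1 := tau_pow 0 ζ hζ
  refine exists_sylow_conj Q gU x ⟨s, hQ ▸ hs, by rw [← heq, mul_inv_cancel_right]⟩
    ⟨monoU τ 0 (fun a => ne_zero_of_pow_eq_one (hτ a)), hQ ▸ monoU_mem_Q0 τ 0 hτ, ?_⟩
  intro hmem
  rw [hQ] at hmem
  obtain ⟨e, l, he, heq2⟩ := eq_of_conj_mem_Q0 hmem
  rw [hgU, coe_monoU] at heq2
  have E : ∀ a b : Fin p, v a ^ (b : ℕ) * τ b = e a * v (a + l) ^ (b : ℕ) := by
    intro a b
    have := congr_fun (congr_fun heq2 a) b
    rwa [mul_mono_zero_apply, mono_mul_apply, vandermonde_apply, vandermonde_apply] at this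
  have hτ0 : τ 0 = ζ := Function.update_self ..
  have h00 : ((0 : Fin p) : ℕ) = 0 := Fin.val_zero p
  let b1 : Fin p := ⟨1, by omega⟩
  let b2 : Fin p := ⟨2, by omega⟩
  have hb1 : b1 ≠ 0 := by
    intro h
    have := congr_arg Fin.val h
    rw [h00] at this
    exact one_ne_zero this
  have hb2 : b2 ≠ 0 := by
    intro h
    have := congr_arg Fin.val h
    rw [h00] at this
    exact two_ne_zero this
  have hτ1 : τ b1 = 1 := Function.update_of_ne hb1 ..
  have hτ2 : τ b2 = 1 := Function.update_of_ne hb2 ..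
  have E0 := E 0 0
  have E1 := E 0 b1
  have E2 := E 0 b2
  rw [h00, pow_zero, pow_zero, hτ0, one_mul, mul_one] at E0
  rw [hτ1, mul_one, ← E0] at E1
  rw [hτ2, mul_one, ← E0] at E2
  have E1' : v 0 = ζ * v (0 + l) := by simpa [b1] using E1
  have E2' : v 0 ^ 2 = ζ * v (0 + l) ^ 2 := by simpa [b2] using E2
  have h3 : ζ * v (0 + l) ^ 2 * (ζ - 1) = 0 := by
    rw [E1'] at E2'
    linear_combination E2'
  rcases mul_eq_zero.mp h3 with h4 | h4
  · rcases mul_eq_zero.mp h4 with h5 | h5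
    · exact hζ0 h5
    · exact hv0 _ (pow_eq_zero_iff (two_ne_zero) |>.mp h5)
  · exact hζ1 (sub_eq_zero.mp h4)

end Cfsg.Agent.H64.Red
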