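import Mathlib
import Cfsg.Agent.H64.Red4

set_option autoImplicit false

namespace Cfsg.Agent.H64.Red

open Matrix

section geom

variable {R : Type*} [Ring R]

theorem geom_mul (X : R) (n : ℕ) (h : X ^ n = 1) :
    X * ∑ m ∈ Finset.range n, X ^ m = ∑ m ∈ Finset.range n, X ^ m := by
  rw [Finset.mul_sum]
  have h2 := Finset.sum_range_succ' (fun m => X ^ m) n
  have h3 := Finset.sum_range_succ (fun m => X ^ m) n
  rw [h3] at h2
  simp only [h, pow_zero] at h2
  have h4 : ∑ m ∈ Finset.range n, X * X ^ m = ∑ m ∈ Finset.range n, X ^ (m + 1) :=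
    Finset.sum_congr rfl (fun m _ => (pow_succ' X m).symm)
  rw [h4]
  exact (add_right_cancel h2).symm

theorem geom_mul' (X : R) (n : ℕ) (h : X ^ n = 1) :
    (∑ m ∈ Finset.range n, X ^ m) * X = ∑ m ∈ Finset.range n, X ^ m := by
  rw [Finset.sum_mul]
  have h2 := Finset.sum_range_succ' (fun m => X ^ m) n
  have h3 := Finset.sum_range_succ (fun m => X ^ m) n
  rw [h3] at h2
  simp only [h, pow_zero] at h2
  have h4 : ∑ m ∈ Finset.range n, X ^ m * X = ∑ m ∈ Finset.range n, X ^ (m + 1) :=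
    Finset.sum_congr rfl (fun m _ => (pow_succ X m).symm)
  rw [h4]
  exact (add_right_cancel h2).symm

theorem geom_sq (X : R) (n : ℕ) (h : X ^ n = 1) :
    (∑ m ∈ Finset.range n, X ^ m) * (∑ m ∈ Finset.range n, X ^ m)
      = n • ∑ m ∈ Finset.range n, X ^ m := by
  have key : ∀ m : ℕ, X ^ m * (∑ m ∈ Finset.range n, X ^ m) = ∑ m ∈ Finset.range n, X ^ m := by
    intro m
    induction m with
    | zero => rw [pow_zero, one_mul]
    | succ m ih => rw [pow_succ, mul_assoc, geom_mul X n h, ih]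
  rw [Finset.sum_mul, Finset.sum_congr rfl (fun m _ => key m), Finset.sum_const, Finset.card_range]

end geom

theorem one_add_smul_pow {F : Type*} [Field F] {A : Type*} [Ring A] [Algebra F A] (S : A) (c : F)
    (hc : c ≠ 0) (hS : S * S = c • S) (ζ : F) (j : ℕ) :
    (1 + ((ζ - 1) / c) • S) ^ j = 1 + ((ζ ^ j - 1) / c) • S := by
  induction j with
  | zero => simp
  | succ j ih =>
    rw [pow_succ, ih]
    have h1 : ∀ a b : F, (1 + a • S) * (1 + b • S) = 1 + (a + b + a * b * c) • S := by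
      intro a b
      rw [mul_add, mul_one, add_mul, one_mul, smul_mul_smul_comm, hS, smul_smul]
      module
    rw [h1]
    congr 2
    field_simp
    ring

variable {F : Type*} [Field F] {p : ℕ} [hp : Fact p.Prime] [NeZero p]

/-- Case 3a: a non-diagonal monomial element of order `p`. -/
theorem case3a [Finite (GL (Fin p) F)] (Q : Sylow p (GL (Fin p) F))
    (hQ : (Q : Subgroup (GL (Fin p) F)) = Q0 F p)
    (ζ : F) (hζ : ζ ^ p = 1) (hζ1 : ζ ≠ 1) (hpF : (p : F) ≠ 0) (hp3 : 3 ≤ p)
    (x : GL (Fin p) F) (hxo : ∃ n : ℕ, orderOf x = p ^ n) (d : Fin p → F) (k : Fin p)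
    (hd : ∀ i, d i ^ p = 1) (hx : (x : Matrix (Fin p) (Fin p) F) = mono d k) (hk : k ≠ 0)
    (hxp : mono d k ^ p = 1) : ∃ P : Sylow p (GL (Fin p) F), P ≠ Q ∧ x ∈ P := by
  choose d' hd' hX using mono_pow d k hd
  let S : Matrix (Fin p) (Fin p) F := ∑ m ∈ Finset.range p, mono d k ^ m
  have hXS : mono d k * S = S := geom_mul _ p hxp
  have hSX : S * mono d k = S := geom_mul' _ p hxp
  have hSS : S * S = (p : F) • S := by
    have := geom_sq (mono d k) p hxp
    rw [Nat.cast_smul_eq_nsmul]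
    exact this
  let c : F := (ζ - 1) / p
  have hc : c ≠ 0 := div_ne_zero (sub_ne_zero.mpr hζ1) hpF
  let Z : Matrix (Fin p) (Fin p) F := 1 + c • S
  have hZp : Z ^ p = 1 := by
    have := one_add_smul_pow S (p : F) hpF hSS ζ p
    rw [hζ, sub_self, zero_div, zero_smul, add_zero] at this
    exact this
  let zU : GL (Fin p) F := Units.ofPowEqOne Z p hZp (NeZero.ne p)
  have hzU : (zU : Matrix (Fin p) (Fin p) F) = Z := rfl
  have hzp : zU ^ p = 1 := Units.pow_ofPowEqOne hZp (NeZero.ne p)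
  have hcomm : x * zU = zU * x := by
    apply Units.ext
    rw [Units.val_mul, Units.val_mul, hzU, hx]
    show mono d k * (1 + c • S) = (1 + c • S) * mono d k
    rw [mul_add, add_mul, mul_one, one_mul, mul_smul_comm, smul_mul_assoc, hXS, hSX]
  have hSent : ∀ (m₀ : ℕ), m₀ < p → ∀ i : Fin p, S i (i + m₀ • k) = d' m₀ i := by
    intro m₀ hm₀ i
    show (∑ m ∈ Finset.range p, mono d k ^ m) i (i + m₀ • k) = d' m₀ i
    rw [Matrix.sum_apply, Finset.sum_eq_single m₀]
    · rw [hX, mono_apply, if_pos rfl]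
    · intro m hm hne
      rw [hX, mono_apply, if_neg]
      intro h
      exact hne (nsmul_inj hk (Finset.mem_range.mp hm) hm₀ (add_left_cancel h).symm)
    · intro h
      exact absurd (Finset.mem_range.mpr hm₀) h
  have hZent : ∀ (m₀ : ℕ), m₀ < p → m₀ ≠ 0 → ∀ i : Fin p, Z i (i + m₀ • k) ≠ 0 := by
    intro m₀ hm₀ hm0 i
    show (1 + c • S) i (i + m₀ • k) ≠ 0
    rw [Matrix.add_apply, Matrix.smul_apply, hSent m₀ hm₀ i, Matrix.one_apply, if_neg, zero_add,
      smul_eq_mul]
    · exact mul_ne_zero hc (ne_zero_of_pow_eq_one (hd' m₀ i))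
    · intro h
      have h1 : m₀ • k = 0 := by
        have h2 : i + m₀ • k = i + 0 := by rw [add_zero]; exact h.symm
        exact add_left_cancel h2
      have h3 := (nsmul_eq_zero_iff hk m₀).mp h1
      exact hm0 (Nat.eq_zero_of_dvd_of_lt h3 hm₀)
  refine exists_sylow_comm Q x zU hxo hzp hcomm ?_
  intro hmem
  rw [hQ] at hmem
  obtain ⟨e, l, he, hel⟩ := hmem
  rw [hzU] at hel
  have h1 := hZent 1 (by omega) one_ne_zero 0
  have h2 := hZent 2 (by omega) two_ne_zero 0
  rw [hel, mono_apply] at h1 h2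
  have e1 : (0 : Fin p) + 1 • k = 0 + l := by
    by_contra h
    exact h1 (if_neg h)
  have e2 : (0 : Fin p) + 2 • k = 0 + l := by
    by_contra h
    exact h2 (if_neg h)
  have := nsmul_inj hk (by omega : 1 < p) (by omega : 2 < p) (add_left_cancel (e1.trans e2.symm))
  omega

/-- Case 3b: a non-diagonal monomial element of order `p²`. -/
theorem case3b (Q : Sylow p (GL (Fin p) F))
    (hQ : (Q : Subgroup (GL (Fin p) F)) = Q0 F p)
    (ζ : F) (hζ : ζ ^ p = 1) (hζ1 : ζ ≠ 1) (hp3 : 3 ≤ p)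
    (x : GL (Fin p) F) (d : Fin p → F) (k : Fin p)
    (hd : ∀ i, d i ^ p = 1) (hx : (x : Matrix (Fin p) (Fin p) F) = mono d k)
    (hxQ : x ∈ Q0 F p) (hk : k ≠ 0)
    (hxp : mono d k ^ p ≠ 1) : ∃ P : Sylow p (GL (Fin p) F), P ≠ Q ∧ x ∈ P := by
  have hodd : Odd p := hp.out.odd_of_ne_two (by omega)
  have hζ0 : ζ ≠ 0 := ne_zero_of_pow_eq_one hζ
  have hd0 : ∀ i, d i ≠ 0 := fun i => ne_zero_of_pow_eq_one (hd i)
  obtain ⟨e, he, hXp⟩ := mono_pow d k hd p
  have hpk : p • k = 0 := (nsmul_eq_zero_iff hk p).mpr dvd_rfl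
  rw [hpk] at hXp
  have hcomm1 : mono d k * mono e 0 = mono e 0 * mono d k := by
    rw [← hXp, ← pow_succ', ← pow_succ]
  rw [mono_mul, mono_mul] at hcomm1
  have hshift : ∀ i, e (i + k) = e i := by
    intro i
    have h1 := congr_fun (mono_inj (fun i => mul_ne_zero (hd0 i)
      (ne_zero_of_pow_eq_one (he _))) hcomm1).2 i
    simp only [add_zero] at h1
    have h' : d i * e (i + k) = d i * e i := by rw [h1, mul_comm]
    exact mul_left_cancel₀ (hd0 i) h'
  have hshift' : ∀ (m : ℕ) (i : Fin p), e (i + m • k) = e i := by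
    intro m
    induction m with
    | zero => intro i; rw [zero_nsmul, add_zero]
    | succ m ih => intro i; rw [succ_nsmul, ← add_assoc, hshift, ih]
  have hconst : ∀ j, e j = e 0 := by
    intro j
    obtain ⟨m, _, hm⟩ := exists_nsmul hk j
    rw [← hm]
    have := hshift' m 0
    rwa [zero_add] at this
  have hXp' : mono d k ^ p = e 0 • (1 : Matrix (Fin p) (Fin p) F) := by
    rw [hXp]
    ext a b
    rw [mono_apply, Matrix.smul_apply, Matrix.one_apply, add_zero, hconst a, smul_eq_mul]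
    by_cases h : a = b
    · simp [h]
    · simp [h, Ne.symm h]
  have hc1 : e 0 ≠ 1 := by
    intro h
    apply hxp
    rw [hXp', h, one_smul]
  have hc2 : 1 + e 0 ≠ 0 := by
    intro h
    have h3 : e 0 = -1 := by linear_combination h
    have h4 : e 0 ^ p = 1 := he 0
    rw [h3, hodd.neg_one_pow] at h4
    exact hc1 (by rw [h3, h4])
  let g : Matrix (Fin p) (Fin p) F := 1 + mono d k
  let B : Matrix (Fin p) (Fin p) F := (1 + e 0)⁻¹ • ∑ m ∈ Finset.range p, (-mono d k) ^ m
  have hgB : g * B = 1 := by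
    have h5 := mul_neg_geom_sum (-mono d k) p
    rw [sub_neg_eq_add, hodd.neg_pow, sub_neg_eq_add, hXp'] at h5
    show (1 + mono d k) * ((1 + e 0)⁻¹ • ∑ m ∈ Finset.range p, (-mono d k) ^ m) = 1
    rw [mul_smul_comm, h5]
    have h6 : (1 : Matrix (Fin p) (Fin p) F) + e 0 • 1 = (1 + e 0) • 1 := by
      rw [add_smul, one_smul]
    rw [h6, smul_smul, inv_mul_cancel₀ hc2, one_smul]
  let gU : GL (Fin p) F := ⟨g, B, hgB, mul_eq_one_comm.mp hgB⟩
  have hgU : (gU : Matrix (Fin p) (Fin p) F) = 1 + mono d k := rfl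
  have hcomm : gU * x = x * gU := by
    apply Units.ext
    rw [Units.val_mul, Units.val_mul, hgU, hx, add_mul, mul_add, one_mul, mul_one]
  let τ : Fin p → F := Function.update (fun _ => 1) 0 ζ
  have hτ : ∀ a, τ a ^ p = 1 := tau_pow 0 ζ hζ
  refine exists_sylow_conj Q gU x ⟨x, hQ ▸ hxQ, by rw [hcomm, mul_inv_cancel_right]⟩
    ⟨monoU τ 0 (fun a => ne_zero_of_pow_eq_one (hτ a)), hQ ▸ monoU_mem_Q0 τ 0 hτ, ?_⟩
  intro hmem
  rw [hQ] at hmem
  obtain ⟨e2, l, he2, heq⟩ := eq_of_conj_mem_Q0 hmem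
  rw [hgU, coe_monoU] at heq
  have E : ∀ a b : Fin p, ((if a = b then 1 else 0) + (if b = a + k then d a else 0)) * τ b
      = e2 a * ((if a + l = b then 1 else 0) + (if b = a + l + k then d (a + l) else 0)) := by
    intro a b
    have := congr_fun (congr_fun heq a) b
    rw [mul_mono_zero_apply, mono_mul_apply] at this
    rw [Matrix.add_apply, Matrix.add_apply, Matrix.one_apply, Matrix.one_apply, mono_apply,
      mono_apply] at this
    exact this
  have hτ0 : τ 0 = ζ := Function.update_self ..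
  have hτk : τ k = 1 := Function.update_of_ne hk ..
  have hk' : (0 : Fin p) ≠ k := Ne.symm hk
  have E1 := E 0 0
  have E2 := E 0 k
  rw [hτ0, zero_add, zero_add, if_pos rfl, if_neg hk', add_zero, one_mul] at E1
  rw [hτk, zero_add, zero_add, if_neg hk', if_pos rfl, zero_add, mul_one] at E2
  by_cases hl : l = 0
  · subst hl
    rw [if_pos rfl, zero_add, if_neg hk', add_zero, mul_one] at E1
    rw [if_neg hk', zero_add, zero_add, if_pos rfl, ← E1] at E2
    have h7 : d 0 * (ζ - 1) = 0 := by linear_combination -E2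
    rcases mul_eq_zero.mp h7 with h8 | h8
    · exact hd0 0 h8
    · exact hζ1 (sub_eq_zero.mp h8)
  · rw [if_neg hl, zero_add] at E1
    have hlk : (0 : Fin p) = l + k := by
      by_contra h
      rw [if_neg h, mul_zero] at E1
      exact hζ0 E1
    have hkl : k ≠ l + k := by
      intro h
      apply hl
      have h9 : (0 : Fin p) + k = l + k := by rw [zero_add]; exact h
      exact (add_right_cancel h9).symm
    rw [if_neg hkl, add_zero] at E2
    have hlk2 : l = k := by
      by_contra h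
      rw [if_neg h, mul_zero] at E2
      exact hd0 0 E2
    rw [hlk2] at hlk
    have h10 : 2 • k = 0 := by rw [two_nsmul]; exact hlk.symm
    have h11 := (nsmul_eq_zero_iff hk 2).mp h10
    have := Nat.le_of_dvd (by norm_num) h11
    omega

end Cfsg.Agent.H64.Red
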