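import Mathlib
import Cfsg.Prelude.Def_SolvableStructure
import Cfsg.Prelude.Def_Solvable
import Cfsg.Agent.H27.Rad
import Cfsg.Agent.H72.BHM1
import Cfsg.Agent.H67.Core

/-!
# S4130, piece P2 (helper64): square-free class sizes ⇒ `F(G)` has class at most 2

* `comm_mem_of_index` : a subgroup of index `1` or `p` of a finite `p`-group contains all
  commutators.
* `pCore_comm_central` : `SQ G ⇒ [O_p(G), O_p(G)] ≤ Z(G)`.
* `fitting_comm_central` : `SQ G ⇒ [F(G), F(G)] ≤ Z(G)`.
* `fitting_class2` : `SQ G ⇒ upperCentralSeries ↥(fittingSubgroup G) 2 = ⊤`.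
* `fitting_normal` : `(fittingSubgroup G).Normal`.
-/

set_option autoImplicit false

namespace Cfsg.Agent.H64.Sqf

open Cfsg

universe u

/-- A subgroup of index `1` or `p` of a finite `p`-group contains all commutators. -/
theorem comm_mem_of_index {p : ℕ} [hp : Fact p.Prime] {P : Type*} [Group P] [Finite P]
    (hP : IsPGroup p P) (H : Subgroup P) (hH : H.index = 1 ∨ H.index = p) (a b : P) :
    a * b * a⁻¹ * b⁻¹ ∈ H := by
  rcases hH with h1 | hpi
  · rw [Subgroup.index_eq_one.mp h1]; trivial
  · obtain ⟨n, hn⟩ := IsPGroup.iff_card.1 hP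
    have hn0 : n ≠ 0 := by
      rintro rfl
      have h1 : H.index ∣ 1 := by
        have := H.index_dvd_card
        rwa [hn, pow_zero] at this
      rw [hpi] at h1
      exact hp.out.one_lt.ne' (Nat.dvd_one.mp h1)
    have hn : H.Normal := by
      apply Subgroup.normal_of_index_eq_minFac_card
      rw [hpi, hn, Nat.Prime.pow_minFac hp.out hn0]
    have hc : Nat.card (P ⧸ H) = p := by rw [← Subgroup.index_eq_card]; exact hpi
    have hcyc : IsCyclic (P ⧸ H) := isCyclic_of_prime_card hc
    rw [← QuotientGroup.eq_one_iff]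
    have hcomm : (QuotientGroup.mk a : P ⧸ H) * QuotientGroup.mk b
        = QuotientGroup.mk b * QuotientGroup.mk a := by
      obtain ⟨g, hg⟩ := hcyc.exists_generator
      obtain ⟨m, hm⟩ := Subgroup.mem_zpowers_iff.mp (hg (QuotientGroup.mk a))
      obtain ⟨k, hk⟩ := Subgroup.mem_zpowers_iff.mp (hg (QuotientGroup.mk b))
      rw [← hm, ← hk, ← zpow_add, ← zpow_add, add_comm]
    rw [QuotientGroup.mk_mul, QuotientGroup.mk_mul, QuotientGroup.mk_mul, QuotientGroup.mk_inv,
      QuotientGroup.mk_inv, hcomm]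
    group

variable {G : Type u} [Group G] [Finite G]

/-- `SQ G ⇒ [O_p(G), O_p(G)] ≤ Z(G)`. -/
theorem pCore_comm_central
    (h : ∀ x : G, Squarefree (Subgroup.centralizer ({x} : Set G)).index)
    (p : ℕ) [hp : Fact p.Prime] (a b : G) (ha : a ∈ pCore p G) (hb : b ∈ pCore p G) :
    a * b * a⁻¹ * b⁻¹ ∈ Subgroup.center G := by
  rw [Subgroup.mem_center_iff]
  intro x
  have hdvd : (Subgroup.centralizer ({x} : Set G)).relIndex (pCore p G)
      ∣ (Subgroup.centralizer ({x} : Set G)).index :=
    Cfsg.Agent.H72.BHM.relIndex_dvd_index_of_normal_right _ _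
  have hsq : Squarefree ((Subgroup.centralizer ({x} : Set G)).relIndex (pCore p G)) :=
    (h x).squarefree_of_dvd hdvd
  have hPp : IsPGroup p (pCore p G) := H60.isPGroup_pCore p
  obtain ⟨n, hn⟩ := IsPGroup.iff_card.1 hPp
  have hd2 : (Subgroup.centralizer ({x} : Set G)).relIndex (pCore p G) ∣ p ^ n :=
    hn ▸ Subgroup.relIndex_dvd_card _ _
  obtain ⟨k, -, hk⟩ := (Nat.dvd_prime_pow hp.out).1 hd2
  have hk1 : ((Subgroup.centralizer ({x} : Set G)).subgroupOf (pCore p G)).index = 1 ∨
      ((Subgroup.centralizer ({x} : Set G)).subgroupOf (pCore p G)).index = p := by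
    change (Subgroup.centralizer ({x} : Set G)).relIndex (pCore p G) = 1 ∨
      (Subgroup.centralizer ({x} : Set G)).relIndex (pCore p G) = p
    rw [hk] at hsq ⊢
    rcases k with _ | _ | k
    · left; simp
    · right; simp
    · exfalso
      have h2 : p * p ∣ p ^ (k + 1 + 1) := ⟨p ^ k, by ring⟩
      exact hp.out.not_isUnit (hsq p h2)
  have h3 := comm_mem_of_index hPp _ hk1 ⟨a, ha⟩ ⟨b, hb⟩
  rw [Subgroup.mem_subgroupOf] at h3
  have h4 : a * b * a⁻¹ * b⁻¹ ∈ Subgroup.centralizer ({x} : Set G) := by simpa using h3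
  rw [Subgroup.mem_centralizer_iff] at h4
  exact h4 x rfl

/-- The elements whose commutator with `b` is central. -/
def commCen (b : G) : Subgroup G :=
  (Subgroup.centralizer ({(QuotientGroup.mk b : G ⧸ Subgroup.center G)} : Set _)).comap
    (QuotientGroup.mk' (Subgroup.center G))

theorem mem_commCen {a b : G} :
    a ∈ commCen b ↔ a * b * a⁻¹ * b⁻¹ ∈ Subgroup.center G := by
  unfold commCen
  rw [Subgroup.mem_comap, Subgroup.mem_centralizer_singleton_iff, ← QuotientGroup.eq_one_iff]
  simp only [QuotientGroup.mk'_apply, QuotientGroup.mk_mul, QuotientGroup.mk_inv]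
  constructor
  · intro h
    rw [h]; group
  · intro h
    rw [mul_inv_eq_one, mul_inv_eq_iff_eq_mul] at h
    exact h

theorem mem_commCen_symm {a b : G} : a ∈ commCen b ↔ b ∈ commCen a := by
  rw [mem_commCen, mem_commCen]
  constructor
  · intro h
    have := inv_mem h
    have e : (a * b * a⁻¹ * b⁻¹)⁻¹ = b * a * b⁻¹ * a⁻¹ := by group
    rwa [e] at this
  · intro h
    have := inv_mem h
    have e : (b * a * b⁻¹ * a⁻¹)⁻¹ = a * b * a⁻¹ * b⁻¹ := by group
    rwa [e] at this

theorem fitting_le_commCen_of_mem_pCore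
    (h : ∀ x : G, Squarefree (Subgroup.centralizer ({x} : Set G)).index)
    (p : ℕ) [hp : Fact p.Prime] (b : G) (hb : b ∈ pCore p G) :
    fittingSubgroup G ≤ commCen b := by
  rw [H27.fitting_eq_pCoreJoin]
  apply iSup_le
  rintro ⟨q, hq⟩
  have hqf : Fact q.Prime := ⟨Nat.prime_of_mem_primeFactors hq⟩
  intro a ha
  rw [mem_commCen]
  by_cases hqp : q = p
  · subst hqp
    exact pCore_comm_central h q a b ha hb
  · have hd : Disjoint (pCore q G) (pCore p G) :=
      IsPGroup.disjoint_of_ne q p hqp _ _ (H60.isPGroup_pCore q) (H60.isPGroup_pCore p)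
    have hc : Commute a b :=
      Subgroup.commute_of_normal_of_disjoint _ _ inferInstance inferInstance hd a b ha hb
    have e : a * b * a⁻¹ * b⁻¹ = 1 := by
      rw [hc.eq]; group
    rw [e]; exact one_mem _

/-- `SQ G ⇒ [F(G), F(G)] ≤ Z(G)`. -/
theorem fitting_comm_central
    (h : ∀ x : G, Squarefree (Subgroup.centralizer ({x} : Set G)).index)
    (a b : G) (ha : a ∈ fittingSubgroup G) (hb : b ∈ fittingSubgroup G) :
    a * b * a⁻¹ * b⁻¹ ∈ Subgroup.center G := by
  rw [← mem_commCen, mem_commCen_symm]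
  have key : fittingSubgroup G ≤ commCen a := by
    conv_lhs => rw [H27.fitting_eq_pCoreJoin]
    apply iSup_le
    rintro ⟨q, hq⟩
    have hqf : Fact q.Prime := ⟨Nat.prime_of_mem_primeFactors hq⟩
    intro c hc
    rw [mem_commCen_symm]
    exact fitting_le_commCen_of_mem_pCore h q c hc ha
  exact key hb

/-- **S4130-P2**: if all conjugacy class sizes of `G` are square-free then `F(G)` has nilpotency
class at most 2. -/
theorem fitting_class2
    (h : ∀ x : G, Squarefree (Subgroup.centralizer ({x} : Set G)).index) :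
    Subgroup.upperCentralSeries ↥(fittingSubgroup G) 2 = ⊤ := by
  rw [eq_top_iff]
  intro x _
  rw [Subgroup.mem_upperCentralSeries_succ_iff]
  intro y
  rw [Subgroup.upperCentralSeries_one, Subgroup.mem_center_iff]
  intro z
  have h1 := fitting_comm_central h x y x.2 y.2
  rw [Subgroup.mem_center_iff] at h1
  apply Subtype.ext
  have h2 := h1 z
  simpa [commutatorElement_def] using h2

/-- The Fitting subgroup is normal. -/
theorem fitting_normal (G : Type u) [Group G] : (fittingSubgroup G).Normal :=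
  Cfsg.Agent.H67.fittingSubgroup_normal G

/-- `SQ G ⇒ [F(G), F(G)] ≤ Z(G)`, subgroup form. -/
theorem fitting_commutator_le_center
    (h : ∀ x : G, Squarefree (Subgroup.centralizer ({x} : Set G)).index) :
    ⁅fittingSubgroup G, fittingSubgroup G⁆ ≤ Subgroup.center G := by
  rw [Subgroup.commutator_le]
  intro a ha b hb
  exact fitting_comm_central h a b ha hb

end Cfsg.Agent.H64.Sqf
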