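import Mathlib
import Cfsg.Prelude.Def_SolvableStructure
import Cfsg.Prelude.Def_Solvable
import Cfsg.Agent.H64.SqfP2
import Cfsg.Agent.H72.ClassSize

/-!
# S4130, piece P3, part a (helper64)

Square-free class sizes (`SQ G`): tools.

* `sylow_cent` : if `r² ∤ |G : C_G(x)|` then some conjugate `g x g⁻¹` is centralized by a subgroup
  of index at most `r` of the given Sylow `r`-subgroup `S` (in the form `|S| ≤ r * |S ⊓ C(gxg⁻¹)|`).
* `sylow_comm_central` : `SQ G ⇒ [S, S] ≤ Z(G)` for every Sylow subgroup `S`.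
* `relIndex_pCore` : `SQ G ⇒ |O_p(G) : C_{O_p(G)}(x)| ∈ {1, p}`.
* `fpf` : a `p'`-element `y` with `w⁻¹ (y w y⁻¹) ∈ C(y)` a `p`-element centralizes `w`.
* `dual_cll` : `SQ G`, `y z` in a Sylow `r`-subgroup, `p ≠ r`, both not centralizing `P = O_p(G)`:
  then `C_P(y) = C_P(z)`.
-/

set_option autoImplicit false

namespace Cfsg.Agent.H64.Sqf

open Cfsg
open scoped Pointwise

universe u

/-- conjugation by `n` maps `A` into `B` ⇒ `|A| ≤ |B|`. -/
theorem card_le_of_conj {G : Type*} [Group G] (A B : Subgroup G) [Finite B] (n : G)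
    (h : ∀ t ∈ A, n * t * n⁻¹ ∈ B) : Nat.card A ≤ Nat.card B := by
  apply Nat.card_le_card_of_injective (fun t : A => (⟨n * t * n⁻¹, h t t.2⟩ : B))
  intro a b hab
  have h1 : n * (a : G) * n⁻¹ = n * (b : G) * n⁻¹ := congrArg Subtype.val hab
  apply Subtype.ext
  have h2 : n * (a : G) = n * (b : G) := mul_right_cancel h1
  exact mul_left_cancel h2

theorem not_sq_dvd_of_squarefree {n r : ℕ} (hr : r.Prime) (hn : Squarefree n) : ¬ r ^ 2 ∣ n := by
  intro hd
  rw [pow_two] at hd
  exact hr.not_isUnit (hn r hd)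

/-- If `r² ∤ |G : C_G(x)|` then some conjugate of `x` is centralized by a subgroup of index at most
`r` of `S`. -/
theorem sylow_cent {G : Type*} [Group G] [Finite G] (r : ℕ) [hr : Fact r.Prime] (S : Sylow r G)
    (x : G) (hx : ¬ r ^ 2 ∣ (Subgroup.centralizer ({x} : Set G)).index) :
    ∃ g : G, Nat.card (S : Subgroup G) ≤
      r * Nat.card ↥((S : Subgroup G) ⊓ Subgroup.centralizer ({g * x * g⁻¹} : Set G)) := by
  classical
  set C := Subgroup.centralizer ({x} : Set G) with hC
  let T : Sylow r C := default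
  have hTp : IsPGroup r ((T : Subgroup C).map C.subtype) := T.isPGroup'.map _
  obtain ⟨Q, hQ⟩ := hTp.exists_le_sylow
  obtain ⟨g, hg⟩ := MulAction.exists_smul_eq G Q S
  refine ⟨g, ?_⟩
  have hcT : Nat.card ((T : Subgroup C).map C.subtype) = r ^ (Nat.card C).factorization r := by
    rw [Subgroup.card_map_of_injective C.subtype_injective]
    exact T.card_eq_multiplicity
  have hcS : Nat.card (S : Subgroup G) = r ^ (Nat.card G).factorization r :=
    S.card_eq_multiplicity
  have hfac : (Nat.card G).factorization r ≤ (Nat.card C).factorization r + 1 := by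
    have h1 : Nat.card C * C.index = Nat.card G := Subgroup.card_mul_index C
    have hidx : C.index ≠ 0 := Subgroup.index_ne_zero_of_finite
    rw [← h1, Nat.factorization_mul Nat.card_pos.ne' hidx]
    simp only [Finsupp.add_apply]
    have : (C.index).factorization r ≤ 1 := by
      by_contra hcon
      rw [not_le] at hcon
      exact hx ((hr.out.pow_dvd_iff_le_factorization hidx).2 hcon)
    omega
  have hinj : Nat.card ((T : Subgroup C).map C.subtype) ≤
      Nat.card ↥((S : Subgroup G) ⊓ Subgroup.centralizer ({g * x * g⁻¹} : Set G)) := by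
    apply card_le_of_conj _ _ g
    intro t ht
    rw [Subgroup.mem_inf]
    refine ⟨?_, ?_⟩
    · have h1 : MulAut.conj g • t ∈ MulAut.conj g • (Q : Subgroup G) :=
        Subgroup.smul_mem_pointwise_smul _ _ _ (hQ ht)
      rw [← Sylow.coe_subgroup_smul, hg] at h1
      simpa [MulAut.smul_def] using h1
    · obtain ⟨c, -, rfl⟩ := Subgroup.mem_map.mp ht
      have hc : x * (c : G) = (c : G) * x := (Subgroup.mem_centralizer_singleton_iff.mp c.2).symm
      show g * (c : G) * g⁻¹ ∈ Subgroup.centralizer ({g * x * g⁻¹} : Set G)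
      rw [Subgroup.mem_centralizer_singleton_iff]
      calc g * (c : G) * g⁻¹ * (g * x * g⁻¹) = g * ((c : G) * x) * g⁻¹ := by group
        _ = g * (x * (c : G)) * g⁻¹ := by rw [hc]
        _ = g * x * g⁻¹ * (g * (c : G) * g⁻¹) := by group
  calc Nat.card (S : Subgroup G) = r ^ (Nat.card G).factorization r := hcS
    _ ≤ r ^ ((Nat.card C).factorization r + 1) := Nat.pow_le_pow_right hr.out.pos hfac
    _ = r * r ^ (Nat.card C).factorization r := by ring
    _ = r * Nat.card ((T : Subgroup C).map C.subtype) := by rw [hcT]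
    _ ≤ _ := Nat.mul_le_mul_left _ hinj

/-- A subgroup `M ≤ S` of an `r`-group with `|S| ≤ r |M|` has index `1` or `r`. -/
theorem index_subgroupOf_of_card_le {G : Type*} [Group G] [Finite G] {r : ℕ} [hr : Fact r.Prime]
    (S M : Subgroup G) (hS : IsPGroup r S) (hM : M ≤ S) (hcard : Nat.card S ≤ r * Nat.card M) :
    (M.subgroupOf S).index = 1 ∨ (M.subgroupOf S).index = r := by
  have h1 : Nat.card M * M.relIndex S = Nat.card S := H60.card_mul_relIndex_of_le hM
  obtain ⟨n, hn⟩ := IsPGroup.iff_card.1 hS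
  have hd : M.relIndex S ∣ r ^ n := hn ▸ Dvd.intro_left _ h1
  obtain ⟨k, -, hk⟩ := (Nat.dvd_prime_pow hr.out).1 hd
  have hpos : 0 < Nat.card M := Nat.card_pos
  have hle : M.relIndex S ≤ r := by
    have h2 : Nat.card M * M.relIndex S ≤ Nat.card M * r := by
      rw [h1, mul_comm]; exact hcard
    exact Nat.le_of_mul_le_mul_left h2 hpos
  change M.relIndex S = 1 ∨ M.relIndex S = r
  rw [hk] at hle ⊢
  rcases k with _ | _ | k
  · left; simp
  · right; simp
  · exfalso
    have h2 : r ^ 2 ≤ r ^ (k + 1 + 1) := Nat.pow_le_pow_right hr.out.pos (by omega)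
    have h3 : 2 ≤ r := hr.out.two_le
    nlinarith

/-- `SQ G ⇒ [S, S] ≤ Z(G)` for a Sylow subgroup `S`. -/
theorem sylow_comm_central {G : Type*} [Group G] [Finite G]
    (h : ∀ x : G, Squarefree (Subgroup.centralizer ({x} : Set G)).index)
    (r : ℕ) [hr : Fact r.Prime] (S : Sylow r G) (a b : G) (ha : a ∈ S) (hb : b ∈ S) :
    a * b * a⁻¹ * b⁻¹ ∈ Subgroup.center G := by
  have key : Subgroup.centralizer ({a * b * a⁻¹ * b⁻¹} : Set G) = ⊤ := by
    apply Cfsg.Agent.H72.eq_top_of_conj_cover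
    intro x
    obtain ⟨g, hg⟩ := sylow_cent r S x (not_sq_dvd_of_squarefree hr.out (h x))
    refine ⟨g⁻¹, ?_⟩
    have hidx := index_subgroupOf_of_card_le (S : Subgroup G) _ S.isPGroup' inf_le_left hg
    have hmem := comm_mem_of_index S.isPGroup' _ hidx ⟨a, ha⟩ ⟨b, hb⟩
    rw [Subgroup.mem_subgroupOf] at hmem
    have h2 : a * b * a⁻¹ * b⁻¹ ∈
        (S : Subgroup G) ⊓ Subgroup.centralizer ({g * x * g⁻¹} : Set G) := by simpa using hmem
    have h3 : a * b * a⁻¹ * b⁻¹ ∈ Subgroup.centralizer ({g * x * g⁻¹} : Set G) :=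
      (Subgroup.mem_inf.mp h2).2
    rw [Subgroup.mem_centralizer_singleton_iff] at h3 ⊢
    rw [inv_inv]; exact h3.symm
  rw [Subgroup.mem_center_iff]
  intro g
  have h1 : g ∈ Subgroup.centralizer ({a * b * a⁻¹ * b⁻¹} : Set G) := key ▸ Subgroup.mem_top g
  rw [Subgroup.mem_centralizer_singleton_iff] at h1
  exact h1

/-- `SQ G ⇒ |O_p(G) : C_{O_p(G)}(x)| ∈ {1, p}`. -/
theorem relIndex_pCore {G : Type*} [Group G] [Finite G]
    (h : ∀ x : G, Squarefree (Subgroup.centralizer ({x} : Set G)).index)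
    (p : ℕ) [hp : Fact p.Prime] (x : G) :
    (Subgroup.centralizer ({x} : Set G)).relIndex (pCore p G) = 1 ∨
      (Subgroup.centralizer ({x} : Set G)).relIndex (pCore p G) = p := by
  have hdvd : (Subgroup.centralizer ({x} : Set G)).relIndex (pCore p G)
      ∣ (Subgroup.centralizer ({x} : Set G)).index :=
    Cfsg.Agent.H72.BHM.relIndex_dvd_index_of_normal_right _ _
  have hsq : Squarefree ((Subgroup.centralizer ({x} : Set G)).relIndex (pCore p G)) :=
    (h x).squarefree_of_dvd hdvd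
  have hPp : IsPGroup p (pCore p G) := H60.isPGroup_pCore p
  obtain ⟨n, hn⟩ := IsPGroup.iff_card.1 hPp
  have hd2 : (Subgroup.centralizer ({x} : Set G)).relIndex (pCore p G) ∣ p ^ n :=
    hn ▸ Subgroup.relIndex_dvd_card _ _
  obtain ⟨k, -, hk⟩ := (Nat.dvd_prime_pow hp.out).1 hd2
  rw [hk] at hsq ⊢
  rcases k with _ | _ | k
  · left; simp
  · right; simp
  · exfalso
    have h2 : p * p ∣ p ^ (k + 1 + 1) := ⟨p ^ k, by ring⟩
    exact hp.out.not_isUnit (hsq p h2)

/-- `SQ G ⇒ |O_p(G)| ≤ p |C_{O_p(G)}(x)|`. -/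
theorem card_pCore_le {G : Type*} [Group G] [Finite G]
    (h : ∀ x : G, Squarefree (Subgroup.centralizer ({x} : Set G)).index)
    (p : ℕ) [hp : Fact p.Prime] (x : G) :
    Nat.card (pCore p G) ≤
      p * Nat.card ↥(pCore p G ⊓ Subgroup.centralizer ({x} : Set G)) := by
  have h1 : Nat.card ↥(pCore p G ⊓ Subgroup.centralizer ({x} : Set G)) *
      (pCore p G ⊓ Subgroup.centralizer ({x} : Set G)).relIndex (pCore p G)
        = Nat.card (pCore p G) := H60.card_mul_relIndex_of_le inf_le_left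
  rw [Subgroup.inf_relIndex_left] at h1
  rcases relIndex_pCore h p x with h2 | h2
  · rw [h2, mul_one] at h1
    rw [← h1]
    exact Nat.le_mul_of_pos_left _ hp.out.pos
  · rw [h2] at h1
    rw [← h1, mul_comm]

/-- `SQ G`, `x` not centralizing `O_p(G)`: `|O_p(G)| = |C_{O_p(G)}(x)| * p`. -/
theorem card_pCore_eq {G : Type*} [Group G] [Finite G]
    (h : ∀ x : G, Squarefree (Subgroup.centralizer ({x} : Set G)).index)
    (p : ℕ) [hp : Fact p.Prime] (x : G)
    (hx : ¬ pCore p G ≤ Subgroup.centralizer ({x} : Set G)) :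
    Nat.card ↥(pCore p G ⊓ Subgroup.centralizer ({x} : Set G)) * p = Nat.card (pCore p G) := by
  have h1 : Nat.card ↥(pCore p G ⊓ Subgroup.centralizer ({x} : Set G)) *
      (pCore p G ⊓ Subgroup.centralizer ({x} : Set G)).relIndex (pCore p G)
        = Nat.card (pCore p G) := H60.card_mul_relIndex_of_le inf_le_left
  rw [Subgroup.inf_relIndex_left] at h1
  rcases relIndex_pCore h p x with h2 | h2
  · exact absurd (Subgroup.relIndex_eq_one.mp h2) hx
  · rw [h2] at h1; exact h1

/-- Fixed-point-freeness: if `y ^ k = 1`, `c = w⁻¹ (y w y⁻¹)` commutes with `y` and `c ^ m = 1`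
with `k, m` coprime, then `y` centralizes `w`. -/
theorem fpf {G : Type*} [Group G] (y w : G) (k m : ℕ) (hk : y ^ k = 1) (hkm : Nat.Coprime k m)
    (hc : (w⁻¹ * (y * w * y⁻¹)) ^ m = 1) (hcomm : Commute y (w⁻¹ * (y * w * y⁻¹))) :
    y * w * y⁻¹ = w := by
  obtain ⟨c, hcdef⟩ : ∃ c, c = w⁻¹ * (y * w * y⁻¹) := ⟨_, rfl⟩
  rw [← hcdef] at hc hcomm
  have hyw : y * w * y⁻¹ = w * c := by rw [hcdef]; group
  have hind : ∀ j : ℕ, y ^ j * w * (y ^ j)⁻¹ = w * c ^ j := by
    intro j
    induction j with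
    | zero => simp
    | succ j ih =>
      have e : y ^ (j + 1) * w * (y ^ (j + 1))⁻¹ = y * (y ^ j * w * (y ^ j)⁻¹) * y⁻¹ := by
        rw [pow_succ']; group
      rw [e, ih]
      have e2 : y * (w * c ^ j) * y⁻¹ = (y * w * y⁻¹) * (y * c ^ j * y⁻¹) := by group
      rw [e2, hyw]
      have e3 : y * c ^ j * y⁻¹ = c ^ j := by
        rw [(hcomm.pow_right j).eq]; group
      rw [e3, pow_succ', mul_assoc]
  have hck : c ^ k = 1 := by
    have h1 := hind k
    rw [hk] at h1
    have h2 : w * 1 = w * c ^ k := by simpa using h1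
    exact (mul_left_cancel h2).symm
  have h1 : orderOf c ∣ k := orderOf_dvd_of_pow_eq_one hck
  have h2 : orderOf c ∣ m := orderOf_dvd_of_pow_eq_one hc
  have h3 : orderOf c = 1 := Nat.eq_one_of_dvd_coprimes hkm h1 h2
  have h4 : c = 1 := orderOf_eq_one_iff.mp h3
  rw [hyw, h4, mul_one]

/-- A subgroup of index `p` in a finite `p`-group is normal. -/
theorem normal_of_index_prime {p : ℕ} [hp : Fact p.Prime] {P : Type*} [Group P] [Finite P]
    (hP : IsPGroup p P) (H : Subgroup P) (hpi : H.index = p) : H.Normal := by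
  obtain ⟨n, hn⟩ := IsPGroup.iff_card.1 hP
  have hn0 : n ≠ 0 := by
    rintro rfl
    have h1 : H.index ∣ 1 := by
      have := H.index_dvd_card
      rwa [hn, pow_zero] at this
    rw [hpi] at h1
    exact hp.out.one_lt.ne' (Nat.dvd_one.mp h1)
  apply Subgroup.normal_of_index_eq_minFac_card
  rw [hpi, hn, Nat.Prime.pow_minFac hp.out hn0]

/-- Two distinct subgroups of index `p` in a finite `p`-group: every element is a product. -/
theorem exists_mul_of_index {p : ℕ} [hp : Fact p.Prime] {P : Type*} [Group P] [Finite P]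
    (hP : IsPGroup p P) (A B : Subgroup P) (hA : A.index = p) (hB : B.index = p) (hAB : A ≠ B)
    (w : P) : ∃ a ∈ A, ∃ b ∈ B, w = a * b := by
  have hBn : B.Normal := normal_of_index_prime hP B hB
  have hsup : A ⊔ B = ⊤ := by
    by_contra hne
    have h1 : (A ⊔ B).index ∣ p := hA ▸ Subgroup.index_dvd_of_le le_sup_left
    have h2 : (A ⊔ B).index ≠ 1 := fun h => hne (Subgroup.index_eq_one.mp h)
    have h3 : (A ⊔ B).index = p := by
      rcases (Nat.dvd_prime hp.out).1 h1 with h | h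
      · exact absurd h h2
      · exact h
    have cA : Nat.card A * p = Nat.card P := hA ▸ Subgroup.card_mul_index A
    have cB : Nat.card B * p = Nat.card P := hB ▸ Subgroup.card_mul_index B
    have cAB : Nat.card (A ⊔ B : Subgroup P) * p = Nat.card P := h3 ▸ Subgroup.card_mul_index _
    have e1 : Nat.card (A ⊔ B : Subgroup P) = Nat.card A :=
      Nat.eq_of_mul_eq_mul_right hp.out.pos (cAB.trans cA.symm)
    have e2 : Nat.card (A ⊔ B : Subgroup P) = Nat.card B :=
      Nat.eq_of_mul_eq_mul_right hp.out.pos (cAB.trans cB.symm)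
    have hA' : A = A ⊔ B := Subgroup.eq_of_le_of_card_ge le_sup_left e1.le
    have hB' : B = A ⊔ B := Subgroup.eq_of_le_of_card_ge le_sup_right e2.le
    exact hAB (hA'.trans hB'.symm)
  have hw : w ∈ A ⊔ B := hsup ▸ Subgroup.mem_top w
  rw [← SetLike.mem_coe, Subgroup.mul_normal] at hw
  obtain ⟨a, ha, b, hb, rfl⟩ := Set.mem_mul.mp hw
  exact ⟨a, ha, b, hb, rfl⟩

/-- Half of the dual common-line lemma. -/
theorem cll_half {G : Type*} [Group G] (P : Subgroup G) [hPn : P.Normal] (y z : G) (k m : ℕ)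
    (hzk : z ^ k = 1) (hkm : Nat.Coprime k m) (hPm : ∀ c ∈ P, c ^ m = 1)
    (hcen : y⁻¹ * z * y * z⁻¹ ∈ Subgroup.center G)
    (dec : ∀ w ∈ P, ∃ a ∈ P, Commute y a ∧ ∃ b ∈ P, Commute z b ∧ w = a * b)
    (w : G) (hw : w ∈ P) (hcomm : Commute (y * z) w) : Commute z w := by
  have hκ : ∀ b : G, Commute (y⁻¹ * z * y * z⁻¹) b := fun b =>
    (Subgroup.mem_center_iff.mp hcen b).symm
  have hc : ∀ b : G, Commute z b → Commute z (y * b * y⁻¹) := by
    intro b hzb
    have h1 : Commute (y⁻¹ * z * y) b := by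
      have e : y⁻¹ * z * y = (y⁻¹ * z * y * z⁻¹) * z := by group
      rw [e]; exact (hκ b).mul_left hzb
    show z * (y * b * y⁻¹) = y * b * y⁻¹ * z
    calc z * (y * b * y⁻¹) = y * ((y⁻¹ * z * y) * b) * y⁻¹ := by group
      _ = y * (b * (y⁻¹ * z * y)) * y⁻¹ := by rw [h1.eq]
      _ = y * b * y⁻¹ * z := by group
  have hT : ∀ w' ∈ P, Commute z (w'⁻¹ * (y * w' * y⁻¹)) := by
    intro w' hw'
    obtain ⟨a, -, hya, b, -, hzb, rfl⟩ := dec w' hw'
    have e : (a * b)⁻¹ * (y * (a * b) * y⁻¹) = b⁻¹ * (y * b * y⁻¹) := by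
      have e1 : y * (a * b) * y⁻¹ = a * (y * b * y⁻¹) := by
        rw [← mul_assoc y a b, hya.eq]; group
      rw [e1]; group
    rw [e]
    exact (hzb.inv_right).mul_right (hc b hzb)
  have hw' : y⁻¹ * w * y ∈ P := by
    have := hPn.conj_mem w hw y⁻¹
    simpa using this
  have h1 := hT _ hw'
  have e1 : (y⁻¹ * w * y)⁻¹ * (y * (y⁻¹ * w * y) * y⁻¹) = (w⁻¹ * (y⁻¹ * w * y))⁻¹ := by group
  rw [e1] at h1
  have h2 : z * w * z⁻¹ = y⁻¹ * w * y := by
    have := hcomm.eq
    calc z * w * z⁻¹ = y⁻¹ * (y * z * w) * z⁻¹ := by group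
      _ = y⁻¹ * (w * (y * z)) * z⁻¹ := by rw [this]
      _ = y⁻¹ * w * y := by group
  have h3 : Commute z (w⁻¹ * (z * w * z⁻¹)) := by
    rw [h2]; exact Commute.inv_right_iff.mp h1
  have hcP : w⁻¹ * (z * w * z⁻¹) ∈ P := P.mul_mem (P.inv_mem hw) (hPn.conj_mem w hw z)
  have h4 := fpf z w k m hzk hkm (hPm _ hcP) h3
  show z * w = w * z
  calc z * w = (z * w * z⁻¹) * z := by group
    _ = w * z := by rw [h4]

/-- **Dual common-line lemma.** `SQ G`, `y z` in a Sylow `r`-subgroup, `p ≠ r`, neither of `y, z`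
centralizing `P = O_p(G)`: then `C_P(y) = C_P(z)`. -/
theorem dual_cll {G : Type u} [Group G] [Finite G]
    (h : ∀ x : G, Squarefree (Subgroup.centralizer ({x} : Set G)).index)
    (p r : ℕ) [hp : Fact p.Prime] [hr : Fact r.Prime] (hpr : p ≠ r) (S : Sylow r G)
    (y z : G) (hy : y ∈ S) (hz : z ∈ S)
    (hyP : ¬ pCore p G ≤ Subgroup.centralizer ({y} : Set G))
    (hzP : ¬ pCore p G ≤ Subgroup.centralizer ({z} : Set G)) :
    pCore p G ⊓ Subgroup.centralizer ({y} : Set G) =
      pCore p G ⊓ Subgroup.centralizer ({z} : Set G) := by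
  by_contra hne
  have hPp : IsPGroup p (pCore p G) := H60.isPGroup_pCore p
  have hiy : ((Subgroup.centralizer ({y} : Set G)).subgroupOf (pCore p G)).index = p := by
    rcases relIndex_pCore h p y with h1 | h1
    · exact absurd (Subgroup.relIndex_eq_one.mp h1) hyP
    · exact h1
  have hiz : ((Subgroup.centralizer ({z} : Set G)).subgroupOf (pCore p G)).index = p := by
    rcases relIndex_pCore h p z with h1 | h1
    · exact absurd (Subgroup.relIndex_eq_one.mp h1) hzP
    · exact h1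
  have hAB : (Subgroup.centralizer ({y} : Set G)).subgroupOf (pCore p G) ≠
      (Subgroup.centralizer ({z} : Set G)).subgroupOf (pCore p G) := by
    intro hEq
    apply hne
    ext g
    simp only [Subgroup.mem_inf]
    constructor
    · rintro ⟨hg, hgy⟩
      refine ⟨hg, ?_⟩
      have h1 : (⟨g, hg⟩ : pCore p G) ∈
          (Subgroup.centralizer ({y} : Set G)).subgroupOf (pCore p G) :=
        Subgroup.mem_subgroupOf.mpr hgy
      rw [hEq] at h1
      exact Subgroup.mem_subgroupOf.mp h1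
    · rintro ⟨hg, hgz⟩
      refine ⟨hg, ?_⟩
      have h1 : (⟨g, hg⟩ : pCore p G) ∈
          (Subgroup.centralizer ({z} : Set G)).subgroupOf (pCore p G) :=
        Subgroup.mem_subgroupOf.mpr hgz
      rw [← hEq] at h1
      exact Subgroup.mem_subgroupOf.mp h1
  have dec1 : ∀ w ∈ pCore p G, ∃ a ∈ pCore p G, Commute y a ∧
      ∃ b ∈ pCore p G, Commute z b ∧ w = a * b := by
    intro w hw
    obtain ⟨a, ha, b, hb, hab⟩ := exists_mul_of_index hPp _ _ hiy hiz hAB ⟨w, hw⟩
    refine ⟨a, a.2, ?_, b, b.2, ?_, ?_⟩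
    · exact (Subgroup.mem_centralizer_singleton_iff.mp (Subgroup.mem_subgroupOf.mp ha)).symm
    · exact (Subgroup.mem_centralizer_singleton_iff.mp (Subgroup.mem_subgroupOf.mp hb)).symm
    · exact congrArg Subtype.val hab
  have dec2 : ∀ w ∈ pCore p G, ∃ b ∈ pCore p G, Commute z b ∧
      ∃ a ∈ pCore p G, Commute y a ∧ w = b * a := by
    intro w hw
    obtain ⟨b, hb, a, ha, hab⟩ := exists_mul_of_index hPp _ _ hiz hiy hAB.symm ⟨w, hw⟩
    refine ⟨b, b.2, ?_, a, a.2, ?_, ?_⟩
    · exact (Subgroup.mem_centralizer_singleton_iff.mp (Subgroup.mem_subgroupOf.mp hb)).symm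
    · exact (Subgroup.mem_centralizer_singleton_iff.mp (Subgroup.mem_subgroupOf.mp ha)).symm
    · exact congrArg Subtype.val hab
  have hk1 : y⁻¹ * z * y * z⁻¹ ∈ Subgroup.center G := by
    have := sylow_comm_central h r S y⁻¹ z (inv_mem hy) hz
    simpa using this
  have hk2 : z⁻¹ * y * z * y⁻¹ ∈ Subgroup.center G := by
    have := sylow_comm_central h r S z⁻¹ y (inv_mem hz) hy
    simpa using this
  have hk3 : z⁻¹ * y⁻¹ * z * y ∈ Subgroup.center G := by
    have := sylow_comm_central h r S z⁻¹ y⁻¹ (inv_mem hz) (inv_mem hy)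
    simpa using this
  have hpowS : ∀ s ∈ (S : Subgroup G), s ^ Nat.card (S : Subgroup G) = 1 := by
    intro s hs
    have h1 := pow_card_eq_one' (G := (S : Subgroup G)) (x := ⟨s, hs⟩)
    have h2 := congrArg Subtype.val h1
    rwa [Subgroup.coe_pow] at h2
  have hPm : ∀ c ∈ pCore p G, c ^ Nat.card (pCore p G) = 1 := by
    intro c hc
    have h1 := pow_card_eq_one' (G := (pCore p G)) (x := ⟨c, hc⟩)
    have h2 := congrArg Subtype.val h1
    rwa [Subgroup.coe_pow] at h2
  have hcop : Nat.Coprime (Nat.card (S : Subgroup G)) (Nat.card (pCore p G)) := by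
    obtain ⟨a, ha⟩ := IsPGroup.iff_card.1 S.isPGroup'
    obtain ⟨b, hb⟩ := IsPGroup.iff_card.1 hPp
    rw [ha, hb]
    exact Nat.Coprime.pow _ _ ((Nat.coprime_primes hr.out hp.out).2 (Ne.symm hpr))
  have e1 : ∀ w ∈ pCore p G, Commute (y * z) w → Commute z w :=
    fun w hw hc => cll_half (pCore p G) y z _ _ (hpowS z hz) hcop hPm hk1 dec1 w hw hc
  have e2 : ∀ w ∈ pCore p G, Commute (y * z) w → Commute y w := by
    intro w hw hc
    have hc' : Commute (z * y) w := by
      have e : z * y = (y * z) * (z⁻¹ * y⁻¹ * z * y) := by group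
      rw [e]
      exact hc.mul_left ((Subgroup.mem_center_iff.mp hk3 w).symm)
    exact cll_half (pCore p G) z y _ _ (hpowS y hy) hcop hPm hk2 dec2 w hw hc'
  have hle : pCore p G ⊓ Subgroup.centralizer ({y * z} : Set G) ≤
      (pCore p G ⊓ Subgroup.centralizer ({y} : Set G)) ⊓
        (pCore p G ⊓ Subgroup.centralizer ({z} : Set G)) := by
    intro w hw
    obtain ⟨hwP, hwc⟩ := Subgroup.mem_inf.mp hw
    have hc : Commute (y * z) w := (Subgroup.mem_centralizer_singleton_iff.mp hwc).symm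
    refine Subgroup.mem_inf.mpr ⟨Subgroup.mem_inf.mpr ⟨hwP, ?_⟩, Subgroup.mem_inf.mpr ⟨hwP, ?_⟩⟩
    · exact Subgroup.mem_centralizer_singleton_iff.mpr (e2 w hwP hc).symm
    · exact Subgroup.mem_centralizer_singleton_iff.mpr (e1 w hwP hc).symm
  have c1 := card_pCore_eq h p y hyP
  have c2 := card_pCore_eq h p z hzP
  have c3 := card_pCore_le h p (y * z)
  have c4 := Subgroup.card_le_of_le hle
  have c5 : Nat.card ↥(pCore p G ⊓ Subgroup.centralizer ({y} : Set G)) ≤
      Nat.card ↥((pCore p G ⊓ Subgroup.centralizer ({y} : Set G)) ⊓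
        (pCore p G ⊓ Subgroup.centralizer ({z} : Set G))) := by
    have h1 : p * Nat.card ↥(pCore p G ⊓ Subgroup.centralizer ({y} : Set G)) ≤
        p * Nat.card ↥((pCore p G ⊓ Subgroup.centralizer ({y} : Set G)) ⊓
        (pCore p G ⊓ Subgroup.centralizer ({z} : Set G))) := by
      rw [mul_comm, c1]; exact c3.trans (Nat.mul_le_mul_left _ c4)
    exact Nat.le_of_mul_le_mul_left h1 hp.out.pos
  have c6 : Nat.card ↥(pCore p G ⊓ Subgroup.centralizer ({z} : Set G)) ≤
      Nat.card ↥((pCore p G ⊓ Subgroup.centralizer ({y} : Set G)) ⊓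
        (pCore p G ⊓ Subgroup.centralizer ({z} : Set G))) := by
    have h1 : p * Nat.card ↥(pCore p G ⊓ Subgroup.centralizer ({z} : Set G)) ≤
        p * Nat.card ↥((pCore p G ⊓ Subgroup.centralizer ({y} : Set G)) ⊓
        (pCore p G ⊓ Subgroup.centralizer ({z} : Set G))) := by
      rw [mul_comm, c2]; exact c3.trans (Nat.mul_le_mul_left _ c4)
    exact Nat.le_of_mul_le_mul_left h1 hp.out.pos
  have E1 := Subgroup.eq_of_le_of_card_ge (inf_le_left :
    (pCore p G ⊓ Subgroup.centralizer ({y} : Set G)) ⊓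
        (pCore p G ⊓ Subgroup.centralizer ({z} : Set G)) ≤ _) c5
  have E2 := Subgroup.eq_of_le_of_card_ge (inf_le_right :
    (pCore p G ⊓ Subgroup.centralizer ({y} : Set G)) ⊓
        (pCore p G ⊓ Subgroup.centralizer ({z} : Set G)) ≤ _) c6
  exact hne (E1.symm.trans E2)

end Cfsg.Agent.H64.Sqf
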