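import Mathlib
import Cfsg.Prelude.Def_SolvableStructure
import Cfsg.Prelude.Def_Solvable
import Cfsg.Agent.H64.SqfP3a
import Cfsg.Agent.S0526

/-!
# S4130, piece P3, part b (helper64)

`SQ G` (all class sizes square-free) and `G' ≤ F(G)` (e.g. `G` supersolvable) imply that
`G / F(G)` is cyclic of square-free order.

* `exists_good` : for `p ≠ r` there is `w ∈ O_p(G)` all of whose `F(G)`-conjugates have
  `C_S(f w f⁻¹) ≤ C_S(O_p(G))` (`S` a Sylow `r`-subgroup).
* `frattini_dec` : `G = N_G(S) F(G)` when `G' ≤ F(G)`.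
* `sylow_cent_fitting` : for every `x` some `F(G)`-conjugate has `|S| ≤ r |C_S(f x f⁻¹)|`.
* `card_le_D`, `D_le_fitting`, `not_sq_dvd_index`.
* `fitting_quot_of_le`, `fitting_quot` : the statement of S4130-P3.
-/

set_option autoImplicit false

namespace Cfsg.Agent.H64.Sqf

open Cfsg
open scoped Pointwise

universe u

theorem mem_centralizer_of_le {G : Type*} [Group G] {P : Subgroup G} {s : G}
    (hP : P ≤ Subgroup.centralizer ({s} : Set G)) : s ∈ Subgroup.centralizer (P : Set G) := by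
  rw [Subgroup.mem_centralizer_iff]
  intro c hc
  exact Subgroup.mem_centralizer_singleton_iff.mp (hP hc)

theorem le_of_mem_centralizer {G : Type*} [Group G] {P : Subgroup G} {s : G}
    (hs : s ∈ Subgroup.centralizer (P : Set G)) : P ≤ Subgroup.centralizer ({s} : Set G) := by
  intro c hc
  rw [Subgroup.mem_centralizer_singleton_iff]
  exact (Subgroup.mem_centralizer_iff.mp hs) c hc

/-- A normal `p`-subgroup lies in every Sylow `p`-subgroup. -/
theorem normal_le_sylow {G : Type*} [Group G] [Finite G] {p : ℕ} [Fact p.Prime] (N : Subgroup G)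
    [hN : N.Normal] (hNp : IsPGroup p N) (S : Sylow p G) : N ≤ S := by
  obtain ⟨Q, hQ⟩ := hNp.exists_le_sylow
  obtain ⟨g, hg⟩ := MulAction.exists_smul_eq G Q S
  intro x hx
  have h1 : g⁻¹ * x * g ∈ N := by simpa using hN.conj_mem x hx g⁻¹
  have h2 : MulAut.conj g • (g⁻¹ * x * g) ∈ MulAut.conj g • (Q : Subgroup G) :=
    Subgroup.smul_mem_pointwise_smul _ _ _ (hQ h1)
  rw [← Sylow.coe_subgroup_smul, hg] at h2
  have e : MulAut.conj g • (g⁻¹ * x * g) = x := by
    rw [MulAut.smul_def, MulAut.conj_apply]; group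
  rwa [e] at h2

/-- A subgroup containing the commutator subgroup is normal. -/
theorem normal_of_commutator_le {G : Type*} [Group G] (R : Subgroup G) (hR : commutator G ≤ R) :
    R.Normal := by
  constructor
  intro x hx g
  have h1 : g * x * g⁻¹ * x⁻¹ ∈ commutator G := by
    rw [commutator_def]
    exact Subgroup.commutator_mem_commutator (Subgroup.mem_top g) (Subgroup.mem_top x)
  have e : g * x * g⁻¹ = (g * x * g⁻¹ * x⁻¹) * x := by group
  rw [e]; exact R.mul_mem (hR h1) hx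

section main

variable {G : Type u} [Group G] [Finite G]

/-- For `p ≠ r` there is `w ∈ O_p(G)` such that every `s ∈ S` commuting with an `F(G)`-conjugate of
`w` centralizes `O_p(G)`. -/
theorem exists_good
    (h : ∀ x : G, Squarefree (Subgroup.centralizer ({x} : Set G)).index)
    (p r : ℕ) [hp : Fact p.Prime] [hr : Fact r.Prime] (hpr : p ≠ r) (S : Sylow r G) :
    ∃ w ∈ pCore p G, ∀ f ∈ fittingSubgroup G, ∀ s ∈ S, Commute s (f * w * f⁻¹) →
      pCore p G ≤ Subgroup.centralizer ({s} : Set G) := by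
  by_cases hK : ∀ s ∈ S, pCore p G ≤ Subgroup.centralizer ({s} : Set G)
  · exact ⟨1, one_mem _, fun f _ s hs _ => hK s hs⟩
  · rw [not_forall] at hK
    obtain ⟨y₀, hK⟩ := hK
    rw [Classical.not_imp] at hK
    obtain ⟨hy₀, hy₀P⟩ := hK
    obtain ⟨w, hwP, hwc⟩ : ∃ w ∈ pCore p G, w ∉ Subgroup.centralizer ({y₀} : Set G) := by
      by_contra hcon
      apply hy₀P
      intro w hw
      by_contra hw2
      exact hcon ⟨w, hw, hw2⟩
    refine ⟨w, hwP, ?_⟩
    intro f hf s hs hcomm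
    by_contra hsP
    have hEq := dual_cll h p r hpr S s y₀ hs hy₀ hsP hy₀P
    have hPn : (pCore p G).Normal := inferInstance
    have hfw : f * w * f⁻¹ ∈ pCore p G := hPn.conj_mem w hwP f
    have h1 : f * w * f⁻¹ ∈ pCore p G ⊓ Subgroup.centralizer ({s} : Set G) :=
      Subgroup.mem_inf.mpr ⟨hfw, Subgroup.mem_centralizer_singleton_iff.mpr hcomm.symm.eq⟩
    rw [hEq] at h1
    have h2 : f * w * f⁻¹ ∈ Subgroup.centralizer ({y₀} : Set G) := (Subgroup.mem_inf.mp h1).2
    have hcen := fitting_comm_central h f w hf (H27.pCore_le_fitting p hwP)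
    apply hwc
    rw [Subgroup.mem_centralizer_singleton_iff] at h2 ⊢
    have hκ : Commute (f * w * f⁻¹ * w⁻¹) y₀ := (Subgroup.mem_center_iff.mp hcen y₀).symm
    have e : w = (f * w * f⁻¹ * w⁻¹)⁻¹ * (f * w * f⁻¹) := by group
    have hc2 : Commute (f * w * f⁻¹) y₀ := h2
    have h3 : Commute ((f * w * f⁻¹ * w⁻¹)⁻¹ * (f * w * f⁻¹)) y₀ := (hκ.inv_left).mul_left hc2
    rw [← e] at h3
    exact h3.eq

/-- Frattini: `G = N_G(S) F(G)` when `G' ≤ F(G)`. -/
theorem frattini_dec (hGF : commutator G ≤ fittingSubgroup G)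
    (r : ℕ) [hr : Fact r.Prime] (S : Sylow r G) (g : G) :
    ∃ n ∈ Subgroup.normalizer ((S : Subgroup G) : Set G), ∃ f ∈ fittingSubgroup G, g = n * f := by
  have hFn : (fittingSubgroup G).Normal := fitting_normal G
  have hRn : ((S : Subgroup G) ⊔ fittingSubgroup G).Normal :=
    normal_of_commutator_le _ (le_trans hGF le_sup_right)
  have h1 := Sylow.normalizer_sup_eq_top' S
    (le_sup_left : (S : Subgroup G) ≤ (S : Subgroup G) ⊔ fittingSubgroup G)
  have h2 : Subgroup.normalizer ((S : Subgroup G) : Set G) ⊔ fittingSubgroup G = ⊤ := by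
    rw [eq_top_iff, ← h1]
    exact sup_le le_sup_left (sup_le (le_trans Subgroup.le_normalizer le_sup_left) le_sup_right)
  have hg : g ∈ Subgroup.normalizer ((S : Subgroup G) : Set G) ⊔ fittingSubgroup G :=
    h2 ▸ Subgroup.mem_top g
  rw [← SetLike.mem_coe, Subgroup.mul_normal] at hg
  obtain ⟨n, hn, f, hf, rfl⟩ := Set.mem_mul.mp hg
  exact ⟨n, hn, f, hf, rfl⟩

/-- For every `x` some `F(G)`-conjugate of `x` is centralized by a subgroup of index at most `r`
of `S`. -/
theorem sylow_cent_fitting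
    (h : ∀ x : G, Squarefree (Subgroup.centralizer ({x} : Set G)).index)
    (hGF : commutator G ≤ fittingSubgroup G)
    (r : ℕ) [hr : Fact r.Prime] (S : Sylow r G) (x : G) :
    ∃ f ∈ fittingSubgroup G, Nat.card (S : Subgroup G) ≤
      r * Nat.card ↥((S : Subgroup G) ⊓ Subgroup.centralizer ({f * x * f⁻¹} : Set G)) := by
  obtain ⟨g, hg⟩ := sylow_cent r S x (not_sq_dvd_of_squarefree hr.out (h x))
  obtain ⟨n, hn, f, hf, rfl⟩ := frattini_dec hGF r S g
  refine ⟨f, hf, hg.trans (Nat.mul_le_mul_left _ ?_)⟩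
  apply card_le_of_conj _ _ n⁻¹
  intro t ht
  obtain ⟨htS, htc⟩ := Subgroup.mem_inf.mp ht
  rw [Subgroup.mem_inf]
  refine ⟨?_, ?_⟩
  · have hn' : n⁻¹ ∈ Subgroup.normalizer ((S : Subgroup G) : Set G) := inv_mem hn
    exact (Subgroup.mem_normalizer_iff.mp hn' t).mp htS
  · rw [Subgroup.mem_centralizer_singleton_iff] at htc ⊢
    have e1 : n⁻¹ * t * n⁻¹⁻¹ * (f * x * f⁻¹) = n⁻¹ * (t * (n * f * x * (n * f)⁻¹)) * n := by
      group
    have e2 : f * x * f⁻¹ * (n⁻¹ * t * n⁻¹⁻¹) = n⁻¹ * ((n * f * x * (n * f)⁻¹) * t) * n := by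
      group
    rw [e1, e2, htc]

theorem card_le_single
    (h : ∀ x : G, Squarefree (Subgroup.centralizer ({x} : Set G)).index)
    (hGF : commutator G ≤ fittingSubgroup G)
    (p r : ℕ) [hp : Fact p.Prime] [hr : Fact r.Prime] (hpr : p ≠ r) (S : Sylow r G) :
    Nat.card (S : Subgroup G) ≤
      r * Nat.card ↥((S : Subgroup G) ⊓ Subgroup.centralizer ((pCore p G : Subgroup G) : Set G)) := by
  obtain ⟨w, hwP, hw⟩ := exists_good h p r hpr S
  obtain ⟨f, hf, hcard⟩ := sylow_cent_fitting h hGF r S w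
  refine hcard.trans (Nat.mul_le_mul_left _ (Subgroup.card_le_of_le ?_))
  intro s hs
  obtain ⟨hsS, hsc⟩ := Subgroup.mem_inf.mp hs
  refine Subgroup.mem_inf.mpr ⟨hsS, ?_⟩
  exact mem_centralizer_of_le (hw f hf s hsS (Subgroup.mem_centralizer_singleton_iff.mp hsc))

theorem card_le_double
    (h : ∀ x : G, Squarefree (Subgroup.centralizer ({x} : Set G)).index)
    (hGF : commutator G ≤ fittingSubgroup G)
    (p₁ p₂ r : ℕ) [hp₁ : Fact p₁.Prime] [hp₂ : Fact p₂.Prime] [hr : Fact r.Prime]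
    (h1 : p₁ ≠ r) (h2 : p₂ ≠ r) (h12 : p₁ ≠ p₂) (S : Sylow r G) :
    Nat.card (S : Subgroup G) ≤
      r * Nat.card ↥(((S : Subgroup G) ⊓ Subgroup.centralizer ((pCore p₁ G : Subgroup G) : Set G)) ⊓
        ((S : Subgroup G) ⊓ Subgroup.centralizer ((pCore p₂ G : Subgroup G) : Set G))) := by
  obtain ⟨w₁, hw₁P, hw₁⟩ := exists_good h p₁ r h1 S
  obtain ⟨w₂, hw₂P, hw₂⟩ := exists_good h p₂ r h2 S
  obtain ⟨f, hf, hcard⟩ := sylow_cent_fitting h hGF r S (w₁ * w₂)
  refine hcard.trans (Nat.mul_le_mul_left _ (Subgroup.card_le_of_le ?_))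
  intro s hs
  obtain ⟨hsS, hsc⟩ := Subgroup.mem_inf.mp hs
  have hc : Commute s (f * (w₁ * w₂) * f⁻¹) := Subgroup.mem_centralizer_singleton_iff.mp hsc
  have hP₁n : (pCore p₁ G).Normal := inferInstance
  have hP₂n : (pCore p₂ G).Normal := inferInstance
  obtain ⟨v₁, hv₁⟩ : ∃ v, v = f * w₁ * f⁻¹ := ⟨_, rfl⟩
  obtain ⟨v₂, hv₂⟩ : ∃ v, v = f * w₂ * f⁻¹ := ⟨_, rfl⟩
  have hv₁P : v₁ ∈ pCore p₁ G := hv₁ ▸ hP₁n.conj_mem w₁ hw₁P f
  have hv₂P : v₂ ∈ pCore p₂ G := hv₂ ▸ hP₂n.conj_mem w₂ hw₂P f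
  have e : f * (w₁ * w₂) * f⁻¹ = v₁ * v₂ := by rw [hv₁, hv₂]; group
  rw [e] at hc
  have hd1 : v₁⁻¹ * (s * v₁ * s⁻¹) ∈ pCore p₁ G :=
    (pCore p₁ G).mul_mem (inv_mem hv₁P) (hP₁n.conj_mem v₁ hv₁P s)
  have hd2 : v₁⁻¹ * (s * v₁ * s⁻¹) ∈ pCore p₂ G := by
    have e2 : v₁⁻¹ * (s * v₁ * s⁻¹) = v₂ * (s * v₂ * s⁻¹)⁻¹ := by
      have h3 := hc.eq
      have e3 : (s * v₁ * s⁻¹) * (s * v₂ * s⁻¹) = v₁ * v₂ := by
        calc (s * v₁ * s⁻¹) * (s * v₂ * s⁻¹) = (s * (v₁ * v₂)) * s⁻¹ := by group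
          _ = (v₁ * v₂ * s) * s⁻¹ := by rw [h3]
          _ = v₁ * v₂ := by group
      calc v₁⁻¹ * (s * v₁ * s⁻¹)
          = v₁⁻¹ * ((s * v₁ * s⁻¹) * (s * v₂ * s⁻¹)) * (s * v₂ * s⁻¹)⁻¹ := by group
        _ = v₁⁻¹ * (v₁ * v₂) * (s * v₂ * s⁻¹)⁻¹ := by rw [e3]
        _ = v₂ * (s * v₂ * s⁻¹)⁻¹ := by group
    rw [e2]
    exact (pCore p₂ G).mul_mem hv₂P (inv_mem (hP₂n.conj_mem v₂ hv₂P s))
  have hdisj : Disjoint (pCore p₁ G) (pCore p₂ G) :=
    IsPGroup.disjoint_of_ne p₁ p₂ h12 _ _ (H60.isPGroup_pCore p₁) (H60.isPGroup_pCore p₂)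
  have hd : v₁⁻¹ * (s * v₁ * s⁻¹) = 1 := by
    have h3 : v₁⁻¹ * (s * v₁ * s⁻¹) ∈ pCore p₁ G ⊓ pCore p₂ G := Subgroup.mem_inf.mpr ⟨hd1, hd2⟩
    rw [hdisj.eq_bot] at h3
    exact Subgroup.mem_bot.mp h3
  have hc1 : Commute s v₁ := by
    have e4 : s * v₁ * s⁻¹ = v₁ := by
      have h3 : v₁ * (v₁⁻¹ * (s * v₁ * s⁻¹)) = v₁ * 1 := by rw [hd]
      rw [mul_one, mul_inv_cancel_left] at h3
      exact h3
    show s * v₁ = v₁ * s
    calc s * v₁ = (s * v₁ * s⁻¹) * s := by group
      _ = v₁ * s := by rw [e4]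
  have hc2 : Commute s v₂ := by
    have h3 : Commute s (v₁⁻¹ * (v₁ * v₂)) := (hc1.inv_right).mul_right hc
    rw [inv_mul_cancel_left] at h3
    exact h3
  rw [hv₁] at hc1
  rw [hv₂] at hc2
  have r1 := hw₁ f hf s hsS hc1
  have r2 := hw₂ f hf s hsS hc2
  exact Subgroup.mem_inf.mpr ⟨Subgroup.mem_inf.mpr ⟨hsS, mem_centralizer_of_le r1⟩,
    Subgroup.mem_inf.mpr ⟨hsS, mem_centralizer_of_le r2⟩⟩

/-- The join of the `O_q(G)` over the primes `q ≠ r`. -/
def rPrimeFit (r : ℕ) (G : Type u) [Group G] : Subgroup G :=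
  ⨆ q : {q : ℕ // q.Prime ∧ q ≠ r}, pCore q.1 G

omit [Finite G] in
theorem mem_centralizer_rPrimeFit {r : ℕ} {s : G} :
    s ∈ Subgroup.centralizer (rPrimeFit r G : Set G) ↔
      ∀ q : ℕ, q.Prime → q ≠ r → s ∈ Subgroup.centralizer ((pCore q G : Subgroup G) : Set G) := by
  constructor
  · intro hs q hq hqr
    have hle : pCore q G ≤ rPrimeFit r G :=
      le_iSup (fun q : {q : ℕ // q.Prime ∧ q ≠ r} => pCore q.1 G) ⟨q, hq, hqr⟩
    exact Subgroup.centralizer_le hle hs
  · intro hs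
    apply mem_centralizer_of_le
    apply iSup_le
    rintro ⟨q, hq, hqr⟩
    exact le_of_mem_centralizer (hs q hq hqr)

theorem card_le_D
    (h : ∀ x : G, Squarefree (Subgroup.centralizer ({x} : Set G)).index)
    (hGF : commutator G ≤ fittingSubgroup G)
    (r : ℕ) [hr : Fact r.Prime] (S : Sylow r G) :
    Nat.card (S : Subgroup G) ≤
      r * Nat.card ↥((S : Subgroup G) ⊓ Subgroup.centralizer (rPrimeFit r G : Set G)) := by
  by_cases hall : ∀ q : ℕ, q.Prime → q ≠ r →
      (S : Subgroup G) ≤ Subgroup.centralizer ((pCore q G : Subgroup G) : Set G)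
  · have hle : (S : Subgroup G) ≤
        (S : Subgroup G) ⊓ Subgroup.centralizer (rPrimeFit r G : Set G) := by
      intro s hs
      exact Subgroup.mem_inf.mpr
        ⟨hs, mem_centralizer_rPrimeFit.mpr (fun q hq hqr => hall q hq hqr hs)⟩
    exact (Subgroup.card_le_of_le hle).trans (Nat.le_mul_of_pos_left _ hr.out.pos)
  · rw [not_forall] at hall
    obtain ⟨p₀, hall⟩ := hall
    rw [Classical.not_imp] at hall
    obtain ⟨hp₀, hall⟩ := hall
    rw [Classical.not_imp] at hall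
    obtain ⟨hp₀r, hS₀⟩ := hall
    have : Fact p₀.Prime := ⟨hp₀⟩
    obtain ⟨K₀, hK₀⟩ : ∃ K, K = (S : Subgroup G) ⊓
        Subgroup.centralizer ((pCore p₀ G : Subgroup G) : Set G) := ⟨_, rfl⟩
    have hK₀S : K₀ ≤ S := hK₀ ▸ inf_le_left
    have hK₀ne : K₀.relIndex S ≠ 1 := fun h1 =>
      hS₀ (le_trans (Subgroup.relIndex_eq_one.mp h1) (hK₀ ▸ inf_le_right))
    have hprop : r * Nat.card K₀ ≤ Nat.card (S : Subgroup G) := by
      have h1 : Nat.card K₀ * K₀.relIndex S = Nat.card (S : Subgroup G) :=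
        H60.card_mul_relIndex_of_le hK₀S
      obtain ⟨n, hn⟩ := IsPGroup.iff_card.1 S.isPGroup'
      have hd : K₀.relIndex S ∣ r ^ n := hn ▸ Dvd.intro_left _ h1
      obtain ⟨k, -, hk⟩ := (Nat.dvd_prime_pow hr.out).1 hd
      have hk0 : k ≠ 0 := by
        rintro rfl
        exact hK₀ne (by rw [hk, pow_zero])
      have hrle : r ≤ K₀.relIndex S := by rw [hk]; exact Nat.le_self_pow hk0 r
      calc r * Nat.card K₀ = Nat.card K₀ * r := mul_comm _ _
        _ ≤ Nat.card K₀ * K₀.relIndex S := Nat.mul_le_mul_left _ hrle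
        _ = _ := h1
    have hK₀D : K₀ ≤ (S : Subgroup G) ⊓ Subgroup.centralizer (rPrimeFit r G : Set G) := by
      intro s hs
      refine Subgroup.mem_inf.mpr ⟨hK₀S hs, mem_centralizer_rPrimeFit.mpr ?_⟩
      intro q hq hqr
      have : Fact q.Prime := ⟨hq⟩
      by_cases hqp : q = p₀
      · subst hqp
        rw [hK₀] at hs
        exact (Subgroup.mem_inf.mp hs).2
      · have hdbl := card_le_double h hGF p₀ q r hp₀r hqr (Ne.symm hqp) S
        rw [← hK₀] at hdbl
        have hcard : Nat.card K₀ ≤ Nat.card ↥(K₀ ⊓ ((S : Subgroup G) ⊓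
            Subgroup.centralizer ((pCore q G : Subgroup G) : Set G))) :=
          Nat.le_of_mul_le_mul_left (hprop.trans hdbl) hr.out.pos
        have hEq := Subgroup.eq_of_le_of_card_ge (inf_le_left : K₀ ⊓ ((S : Subgroup G) ⊓
            Subgroup.centralizer ((pCore q G : Subgroup G) : Set G)) ≤ K₀) hcard
        have h3 : s ∈ K₀ ⊓ ((S : Subgroup G) ⊓
            Subgroup.centralizer ((pCore q G : Subgroup G) : Set G)) := by rw [hEq]; exact hs
        exact (Subgroup.mem_inf.mp (Subgroup.mem_inf.mp h3).2).2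
    have hsingle := card_le_single h hGF p₀ r hp₀r S
    rw [← hK₀] at hsingle
    exact hsingle.trans (Nat.mul_le_mul_left _ (Subgroup.card_le_of_le hK₀D))

theorem D_le_fitting (hGF : commutator G ≤ fittingSubgroup G)
    (r : ℕ) [hr : Fact r.Prime] (S : Sylow r G) :
    (S : Subgroup G) ⊓ Subgroup.centralizer (rPrimeFit r G : Set G) ≤ fittingSubgroup G := by
  obtain ⟨W, hW⟩ : ∃ W, W = rPrimeFit r G := ⟨_, rfl⟩
  rw [← hW]
  obtain ⟨D, hD⟩ : ∃ D, D = (S : Subgroup G) ⊓ Subgroup.centralizer (W : Set G) := ⟨_, rfl⟩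
  rw [← hD]
  have hWF : W ≤ fittingSubgroup G := by
    rw [hW]
    apply iSup_le
    intro q
    have : Fact q.1.Prime := ⟨q.2.1⟩
    exact H27.pCore_le_fitting q.1
  have hFle : fittingSubgroup G ≤ D ⊔ W := by
    rw [H27.fitting_eq_pCoreJoin]
    apply iSup_le
    rintro ⟨q, hq⟩
    have hqp : q.Prime := Nat.prime_of_mem_primeFactors hq
    have : Fact q.Prime := ⟨hqp⟩
    by_cases hqr : q = r
    · subst hqr
      refine le_trans ?_ le_sup_left
      intro c hc
      rw [hD]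
      refine Subgroup.mem_inf.mpr ⟨normal_le_sylow (pCore q G) (H60.isPGroup_pCore q) S hc, ?_⟩
      rw [hW, mem_centralizer_rPrimeFit]
      intro q' hq' hq'r
      have : Fact q'.Prime := ⟨hq'⟩
      rw [Subgroup.mem_centralizer_iff]
      intro d hd
      have hdisj : Disjoint (pCore q' G) (pCore q G) :=
        IsPGroup.disjoint_of_ne q' q hq'r _ _ (H60.isPGroup_pCore q') (H60.isPGroup_pCore q)
      exact (Subgroup.commute_of_normal_of_disjoint _ _ inferInstance inferInstance hdisj d c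
        hd hc).eq
    · refine le_trans ?_ le_sup_right
      rw [hW]
      exact le_iSup (fun q : {q : ℕ // q.Prime ∧ q ≠ r} => pCore q.1 G) ⟨q, hqp, hqr⟩
  have hn : (D ⊔ W).Normal := normal_of_commutator_le _ (hGF.trans hFle)
  have hnil : Group.IsNilpotent ↥(D ⊔ W) := by
    have hDS : D ≤ S := hD ▸ inf_le_left
    have hDnil : Group.IsNilpotent D := (S.isPGroup'.to_le hDS).isNilpotent
    have hFnil : Group.IsNilpotent (fittingSubgroup G) := H27.fitting_nilpotent
    have hWnil : Group.IsNilpotent W := by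
      have h1 : Group.IsNilpotent (W.subgroupOf (fittingSubgroup G)) := inferInstance
      exact Group.nilpotent_of_mulEquiv (Subgroup.subgroupOfEquivOfLe hWF)
    have hcomm : ∀ (d : D) (w : W), Commute (D.subtype d) (W.subtype w) := by
      intro d w
      have hle : D ≤ Subgroup.centralizer (W : Set G) := by rw [hD]; exact inf_le_right
      have hd : (d : G) ∈ Subgroup.centralizer (W : Set G) := hle d.2
      exact ((Subgroup.mem_centralizer_iff.mp hd) w w.2).symm
    have hrange : (MonoidHom.noncommCoprod D.subtype W.subtype hcomm).range = D ⊔ W := by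
      rw [MonoidHom.noncommCoprod_range, Subgroup.range_subtype, Subgroup.range_subtype]
    rw [← hrange]
    exact Group.nilpotent_of_surjective
      (MonoidHom.noncommCoprod D.subtype W.subtype hcomm).rangeRestrict
      (MonoidHom.noncommCoprod D.subtype W.subtype hcomm).rangeRestrict_surjective
  have hle : D ⊔ W ≤ fittingSubgroup G := le_sSup ⟨hn, hnil⟩
  exact le_sup_left.trans hle

theorem not_sq_dvd_index
    (h : ∀ x : G, Squarefree (Subgroup.centralizer ({x} : Set G)).index)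
    (hGF : commutator G ≤ fittingSubgroup G)
    (r : ℕ) [hr : Fact r.Prime] : ¬ r ^ 2 ∣ (fittingSubgroup G).index := by
  intro hdvd
  let S : Sylow r G := default
  have hFn : (fittingSubgroup G).Normal := fitting_normal G
  have h1 := card_le_D h hGF r S
  have h2 := D_le_fitting hGF r S
  have h3 : Nat.card (S : Subgroup G) ≤
      r * Nat.card ↥((S : Subgroup G) ⊓ fittingSubgroup G) :=
    h1.trans (Nat.mul_le_mul_left _ (Subgroup.card_le_of_le (le_inf inf_le_left h2)))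
  have h4 : Nat.card ↥((S : Subgroup G) ⊓ fittingSubgroup G) *
      ((S : Subgroup G) ⊓ fittingSubgroup G).relIndex S = Nat.card (S : Subgroup G) :=
    H60.card_mul_relIndex_of_le inf_le_left
  rw [Subgroup.inf_relIndex_left] at h4
  have hpos0 : 0 < Nat.card ↥((S : Subgroup G) ⊓ fittingSubgroup G) := Nat.card_pos
  have h5 : (fittingSubgroup G).relIndex S ≤ r := by
    have h6 : Nat.card ↥((S : Subgroup G) ⊓ fittingSubgroup G) * (fittingSubgroup G).relIndex S ≤
        Nat.card ↥((S : Subgroup G) ⊓ fittingSubgroup G) * r := by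
      rw [h4, mul_comm]; exact h3
    exact Nat.le_of_mul_le_mul_left h6 hpos0
  have h6 : (fittingSubgroup G).relIndex (fittingSubgroup G ⊔ (S : Subgroup G)) =
      (fittingSubgroup G).relIndex S := Subgroup.relIndex_sup_left _ _
  have h7 : (fittingSubgroup G).relIndex (fittingSubgroup G ⊔ (S : Subgroup G)) *
      (fittingSubgroup G ⊔ (S : Subgroup G)).index = (fittingSubgroup G).index :=
    Subgroup.relIndex_mul_index le_sup_left
  have h8 : ¬ r ∣ (fittingSubgroup G ⊔ (S : Subgroup G)).index := by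
    intro hd
    exact S.not_dvd_index (dvd_trans hd (Subgroup.index_dvd_of_le le_sup_right))
  rw [← h7, h6] at hdvd
  have h9 : r ^ 2 ∣ (fittingSubgroup G).relIndex S :=
    (Nat.Coprime.pow_left 2 ((Nat.Prime.coprime_iff_not_dvd hr.out).2 h8)).dvd_of_dvd_mul_right
      hdvd
  have hpos : 0 < (fittingSubgroup G).relIndex S := by
    rcases Nat.eq_zero_or_pos ((fittingSubgroup G).relIndex S) with h0 | h0
    · rw [h0, mul_zero] at h4
      exact absurd h4.symm Nat.card_pos.ne'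
    · exact h0
  have h10 := Nat.le_of_dvd hpos h9
  have h11 : 2 ≤ r := hr.out.two_le
  nlinarith

/-- **S4130-P3**, with the hypothesis `G' ≤ F(G)`. -/
theorem fitting_quot_of_le
    (h : ∀ x : G, Squarefree (Subgroup.centralizer ({x} : Set G)).index)
    (hGF : commutator G ≤ fittingSubgroup G) (hn : (fittingSubgroup G).Normal) :
    IsCyclic (G ⧸ fittingSubgroup G) ∧ Squarefree (fittingSubgroup G).index := by
  have hsq : Squarefree (fittingSubgroup G).index := by
    rw [Nat.squarefree_iff_prime_squarefree]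
    intro r hr hd
    have : Fact r.Prime := ⟨hr⟩
    exact not_sq_dvd_index h hGF r (by rw [pow_two]; exact hd)
  refine ⟨?_, hsq⟩
  have hcard : Squarefree (Nat.card (G ⧸ fittingSubgroup G)) := by
    rw [← Subgroup.index_eq_card]; exact hsq
  have : IsZGroup (G ⧸ fittingSubgroup G) := IsZGroup.of_squarefree hcard
  have hcomm : ∀ a b : G ⧸ fittingSubgroup G, a * b = b * a := by
    intro a b
    obtain ⟨a, rfl⟩ := QuotientGroup.mk_surjective a
    obtain ⟨b, rfl⟩ := QuotientGroup.mk_surjective b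
    rw [← QuotientGroup.mk_mul, ← QuotientGroup.mk_mul, QuotientGroup.eq]
    apply hGF
    have e : (a * b)⁻¹ * (b * a) = b⁻¹ * a⁻¹ * b⁻¹⁻¹ * a⁻¹⁻¹ := by group
    rw [e, commutator_def]
    exact Subgroup.commutator_mem_commutator (Subgroup.mem_top b⁻¹) (Subgroup.mem_top a⁻¹)
  have : Group.IsNilpotent (G ⧸ fittingSubgroup G) := by
    refine ⟨⟨1, ?_⟩⟩
    rw [Subgroup.upperCentralSeries_one, eq_top_iff]
    intro x _
    rw [Subgroup.mem_center_iff]
    intro g
    exact hcomm g x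
  infer_instance

omit [Finite G] in
theorem commutator_le_fitting_of_nilpotent (hnil : Group.IsNilpotent (commutator G)) :
    commutator G ≤ fittingSubgroup G :=
  le_sSup ⟨inferInstance, hnil⟩

/-- **S4130-P3**: square-free class sizes and supersolvable ⇒ `G / F(G)` is cyclic of square-free
order. -/
theorem fitting_quot
    (h : ∀ x : G, Squarefree (Subgroup.centralizer ({x} : Set G)).index)
    (hss : Cfsg.IsSupersolvable G) (hn : (fittingSubgroup G).Normal) :
    IsCyclic (G ⧸ fittingSubgroup G) ∧ Squarefree (fittingSubgroup G).index :=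
  fitting_quot_of_le h
    (commutator_le_fitting_of_nilpotent (Cfsg.Agent.S0526.result hss)) hn

end main

end Cfsg.Agent.H64.Sqf
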