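import Cfsg.Agent.H64.TtDefs

/-!
# S3385 — assembly of the pieces (against the piece statements)
-/

set_option autoImplicit false

namespace Cfsg.Agent.H64.Tt

universe u v

open MulAction

/-- The abstract Tutte lemma from its pieces. -/
theorem tutte (hc2 : C2Stmt.{u}) (hc3 : C3Stmt.{u}) (hc4 : C4Stmt.{u}) (hc6 : C6Stmt.{u}) :
    TutteStmt.{u} := by
  intro G _ _ x g k hT
  by_contra hk
  have hk5 : 5 ≤ k := by omega
  obtain ⟨l, hlk, hl⟩ := hc2 x g k hT (by omega)
  have h3 := hc3 x g k l hT hl hlk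
  have hl1 : l + 1 ≤ k := by omega
  have h4 := hc4 x g k l hT hl hl1
  have hne : x 0 * x l * (x 0)⁻¹ * (x l)⁻¹ ≠ 1 := by
    intro h
    apply hl.2.2
    have : x 0 * x l * (x 0)⁻¹ = x l := by
      have := congrArg (· * x l) h
      simpa using this
    have := congrArg (· * x 0) this
    simpa using this
  have h5 : (k : ℤ) - l ≤ 2 * (l : ℤ) - k := by
    by_contra hlt
    rw [X_empty x (not_le.mp hlt)] at h4
    exact hne ((Subgroup.mem_bot).mp h4)
  have hk6 : k = 6 := by omega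
  have hl4 : l = 4 := by omega
  subst hk6 hl4
  exact hc6 x g hT hl

/-- The final assembly. -/
theorem final (hSeq : SeqStmt.{u, v}) (hGlue : GlueStmt.{u, v}) (hT : TutteStmt.{u})
    {G : Type u} [Group G] [Finite G] {Ω : Type v} [MulAction G Ω] [FaithfulSMul G Ω]
    (hprim : MulAction.IsPreprimitive G Ω) (a b : Ω)
    (h3 : Nat.card (MulAction.orbit (MulAction.stabilizer G a) b) = 3) :
    ∃ k : ℕ, k ≤ 4 ∧ Nat.card ↥(MulAction.stabilizer G a) = 2 ^ k * 3 := by
  obtain ⟨k, hk, hseq⟩ := hSeq hprim a b h3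
  refine ⟨k, ?_, hk⟩
  rcases Nat.eq_zero_or_pos k with h0 | hpos
  · omega
  · obtain ⟨g, hg⟩ := hseq hpos
    obtain ⟨x, hx⟩ := hGlue hprim a g k hpos hk hg
    exact hT x g k hx

end Cfsg.Agent.H64.Tt
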