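import Cfsg.Agent.H64.TtAsm
import Cfsg.Agent.H62.TtCard
import Cfsg.Agent.H11.TtArcTwo
import Cfsg.Agent.H12.TtBase
import Cfsg.Agent.H12.TtC2
import Cfsg.Agent.H64.TtSeqFix
import Cfsg.Agent.H11.TtArcConn
import Cfsg.Agent.H24.TtSplit
import Cfsg.Agent.H24.TtC1
import Cfsg.Agent.H32.TtXData
import Cfsg.Agent.H39.TtConn
import Cfsg.Agent.H62.TtC4
import Cfsg.Agent.H63.TtC6
import Cfsg.Agent.H32.TtGlue
import Cfsg.Agent.H67.TtReg
import Cfsg.Agent.H79.TtFix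
import Cfsg.Agent.H79.TtLoc
import Cfsg.Agent.H39.TtTwo

/-!
# S3385 — all pieces collected
-/

set_option autoImplicit false

namespace Cfsg.Agent.H64.Tt

universe u v

theorem cardT : CardStmt.{u} := Cfsg.Agent.H62.Tt.card
theorem c1T : C1Stmt.{u} := Cfsg.Agent.H24.Tt.c1 cardT
theorem splitT : SplitStmt.{u} := Cfsg.Agent.H24.Tt.split cardT
theorem commT : CommStmt.{u} := Cfsg.Agent.H12.Tt.comm
theorem c2T : C2Stmt.{u} := Cfsg.Agent.H12.Tt.c2
theorem c3T : C3Stmt.{u} := Cfsg.Agent.H12.Tt.c3'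
theorem c4T : C4Stmt.{u} := Cfsg.Agent.H62.Tt.c4 cardT c1T splitT commT
theorem c6T : C6Stmt.{u} := Cfsg.Agent.H63.Tt.c6 cardT c1T splitT commT c4T
theorem tutteT : TutteStmt.{u} := tutte c2T c3T c4T c6T
theorem xdataT : XDataStmt.{u} := Cfsg.Agent.H32.Tt.xdata
theorem glueT : GlueStmt.{u, v} := Cfsg.Agent.H32.Tt.glue xdataT
theorem twoT : TwoStmt.{u, v} := Cfsg.Agent.H39.Tt.two
theorem fixT : FixStmt.{u, v} := Cfsg.Agent.H79.Tt.fix twoT
theorem locT : LocStmt.{u, v} := Cfsg.Agent.H79.Tt.loc twoT fixT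
theorem connT : ConnStmt.{u, v} := Cfsg.Agent.H39.Tt.conn
theorem regT : RegStmt.{u, v} := Cfsg.Agent.H67.Tt.reg
theorem arcTwoT : ArcTwoStmt.{u, v} := Cfsg.Agent.H11.Tt.arcTwo fixT
theorem arcConnT : ArcConnStmt.{u, v} := Cfsg.Agent.H11.Tt.arcConn locT connT
theorem seqT : SeqStmt.{u, v} := Cfsg.Agent.H64.TtSeqFix.seq twoT arcTwoT arcConnT regT

/-- Sims' theorem on primitive groups with a suborbit of length 3. -/
theorem sims {G : Type u} [Group G] [Finite G] {Ω : Type v} [MulAction G Ω] [FaithfulSMul G Ω]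
    (hprim : MulAction.IsPreprimitive G Ω) (a b : Ω)
    (h3 : Nat.card (MulAction.orbit (MulAction.stabilizer G a) b) = 3) :
    ∃ k : ℕ, k ≤ 4 ∧ Nat.card ↥(MulAction.stabilizer G a) = 2 ^ k * 3 :=
  final seqT glueT tutteT hprim a b h3

end Cfsg.Agent.H64.Tt
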